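import Groth.Agent.RGFlat.Generic
import Groth.Agent.FlatOpen.MapOpen
import Groth.Agent.CAlgA.FibreMod
import Groth.Agent.FlatMisc.Fiber
import Mathlib.RingTheory.Ideal.AssociatedPrime.Finiteness
import Mathlib.RingTheory.Ideal.MinimalPrime.Colon

/-!
Elements regular on the fibre act universally injectively at a point of flatness.
-/

set_option autoImplicit false

universe u

open TensorProduct

namespace Groth.Agent.RGFlat

open CAlgA.FibreMod (pN)

/-- A map whose kernel dies at `T` stays so after tensoring. -/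
theorem exists_smul_eq_zero_of_rTensor {R P : Type u} [CommRing R] [CommRing P] [Algebra R P] (T : Submonoid P)
    {V W : Type u} [AddCommGroup V] [Module P V] [Module R V] [IsScalarTower R P V]
    [AddCommGroup W] [Module P W] [Module R W] [IsScalarTower R P W] (f : V →ₗ[P] W) (hf : Function.Surjective f)
    (hker : ∀ v, f v = 0 → ∃ t ∈ T, t • v = 0) (X : Type u) [AddCommGroup X] [Module R X]
    (x : V ⊗[R] X) (hx : (f.restrictScalars R).rTensor X x = 0) : ∃ t ∈ T, t • x = 0 := by
  let K := LinearMap.ker f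
  have hex : Function.Exact (K.subtype.restrictScalars R) (f.restrictScalars R) := LinearMap.exact_subtype_ker_map f
  obtain ⟨z, rfl⟩ := (rTensor_exact X hex hf x).mp hx
  clear hx
  induction z with
  | zero => exact ⟨1, T.one_mem, by simp⟩
  | tmul v y =>
    obtain ⟨t, ht, htv⟩ := hker (v : V) v.2
    refine ⟨t, ht, ?_⟩
    rw [LinearMap.rTensor_tmul, TensorProduct.smul_tmul']
    exact (congrArg (· ⊗ₜ[R] y) htv).trans (TensorProduct.zero_tmul _ _)
  | add a b ha hb =>
    obtain ⟨t, ht, hta⟩ := ha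
    obtain ⟨t', ht', htb⟩ := hb
    refine ⟨t * t', T.mul_mem ht ht', ?_⟩
    rw [map_add, smul_add, mul_comm t t', mul_smul, hta, smul_zero, zero_add, mul_comm t' t, mul_smul, htb, smul_zero]

/-- Injectivity after tensoring at a point where the map is injective with flat cokernel. -/
theorem exists_smul_eq_zero_of_coker {R P : Type u} [CommRing R] [CommRing P] [Algebra R P] (T : Submonoid P)
    {V W : Type u} [AddCommGroup V] [Module P V] [Module R V] [IsScalarTower R P V]
    [AddCommGroup W] [Module P W] [Module R W] [IsScalarTower R P W] (u : V →ₗ[P] W)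
    (hu : ∀ v, u v = 0 → ∃ t ∈ T, t • v = 0) [Module.Flat R (LocalizedModule T (W ⧸ LinearMap.range u))]
    (X : Type u) [AddCommGroup X] [Module R X]
    (x : V ⊗[R] X) (hx : (u.restrictScalars R).rTensor X x = 0) : ∃ t ∈ T, t • x = 0 := by
  let K := LinearMap.ker u
  let i : (V ⧸ K) →ₗ[P] W := K.liftQ u le_rfl
  have hi : Function.Injective i := LinearMap.ker_eq_bot.mp (Submodule.ker_liftQ_eq_bot _ _ _ le_rfl)
  have hig : Function.Exact i (LinearMap.range u).mkQ := by
    rw [LinearMap.exact_iff, Submodule.ker_mkQ, Submodule.range_liftQ]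
  have h0 : (i.restrictScalars R).rTensor X ((K.mkQ.restrictScalars R).rTensor X x) = 0 := by
    rw [← LinearMap.rTensor_comp_apply]
    exact hx
  obtain ⟨t, ht, htx⟩ := FlatOpen.exists_smul_eq_zero_of_flat_coker T i hi (LinearMap.range u).mkQ
    (Submodule.mkQ_surjective _) hig X _ h0
  have hlin : (K.mkQ.restrictScalars R).rTensor X (t • x) = t • (K.mkQ.restrictScalars R).rTensor X x :=
    (AlgebraTensorModule.rTensor R X K.mkQ).map_smul t x
  obtain ⟨t', ht', htx'⟩ := exists_smul_eq_zero_of_rTensor T K.mkQ K.mkQ_surjective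
    (fun v hv => hu v ((Submodule.Quotient.mk_eq_zero K).mp hv)) X (t • x) (by rw [hlin, htx])
  exact ⟨t' * t, T.mul_mem ht' ht, by rw [mul_smul, htx']⟩

variable {R S : Type u} [CommRing R] [CommRing S] [Algebra R S] [Algebra.FiniteType R S]
  {N : Type u} [AddCommGroup N] [Module S N] [Module R N] [IsScalarTower R S N] [Module.Finite S N]

/-- An element regular on the fibre kills nothing in `N ⊗ X` at a point of flatness. -/
theorem exists_smul_eq_zero_of_fibre_regular (p : Ideal R) [p.IsPrime] (q : Ideal S) [q.IsPrime] [q.LiesOver p]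
    (hflat : FlatCA.FlatAt R q N) (σ : S) (h : ∀ m : N, σ • m ∈ pN (S := S) N p → ∃ s ∉ q, s • m ∈ pN (S := S) N p)
    (X : Type u) [AddCommGroup X] [Module R X] (x : N ⊗[R] X) (hx : σ • x = 0) : ∃ t ∉ q, t • x = 0 := by
  obtain ⟨n, π, hπ⟩ := Algebra.FiniteType.iff_quotient_mvPolynomial''.mp (inferInstance : Algebra.FiniteType R S)
  let P := MvPolynomial (Fin n) R
  letI : Algebra P S := π.toRingHom.toAlgebra
  haveI : IsScalarTower R P S := IsScalarTower.of_algebraMap_eq fun a => (π.commutes a).symm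
  letI : Module P N := Module.compHom N π.toRingHom
  haveI : IsScalarTower P S N := IsScalarTower.of_algebraMap_smul fun _ _ => rfl
  haveI : IsScalarTower R P N := IsScalarTower.of_algebraMap_smul fun a m => by
    show π (algebraMap R P a) • m = a • m
    rw [π.commutes, algebraMap_smul]
  haveI : Module.Finite P S := Module.Finite.of_surjective (Algebra.linearMap P S) hπ
  haveI : Module.Finite P N := Module.Finite.trans S N
  let Q := q.comap (algebraMap P S)
  haveI : Q.IsPrime := Ideal.comap_isPrime _ _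
  have hQ : FlatCA.FlatAt R Q N := (flatAt_comap_iff hπ q).mpr hflat
  haveI : IsScalarTower R (Localization.AtPrime Q) (LocalizedModule Q.primeCompl N) :=
    IsScalarTower.of_algebraMap_smul fun r y => by
      rw [IsScalarTower.algebraMap_apply R P (Localization.AtPrime Q), IsScalarTower.algebraMap_smul,
        IsScalarTower.algebraMap_smul]
  haveI : Module.Flat R (LocalizedModule Q.primeCompl N) := hQ
  haveI : Module.Finite (Localization.AtPrime Q) (LocalizedModule Q.primeCompl N) :=
    Module.Finite.of_isLocalizedModule Q.primeCompl (LocalizedModule.mkLinearMap Q.primeCompl N)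
  haveI := fp_of_flat (R := R) Q (Localization.AtPrime Q) (LocalizedModule Q.primeCompl N)
  obtain ⟨r, K, f, hK, hf, hker⟩ := exists_model (M := N) Q
  haveI : Module.FinitePresentation P ((Fin r → P) ⧸ K) :=
    Module.finitePresentation_of_surjective K.mkQ K.mkQ_surjective (by rw [Submodule.ker_mkQ]; exact hK)
  have hQ₀ : FlatCA.FlatAt R Q ((Fin r → P) ⧸ K) := (flatAt_iff_of_kernel f hf Q hker).mpr hQ
  obtain ⟨τ, hτ⟩ := hπ σ
  have hτN : ∀ m : N, τ • m = σ • m := fun m => by show π τ • m = σ • m; rw [hτ]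
  let u : ((Fin r → P) ⧸ K) →ₗ[P] ((Fin r → P) ⧸ K) := LinearMap.lsmul P _ τ
  have hQp : Q.comap (algebraMap R P) = p := by
    rw [Ideal.comap_comap, ← IsScalarTower.algebraMap_eq]
    exact (q.over_def p).symm
  let I : Ideal P := p.map (algebraMap R P)
  have hpN : ∀ m : N, m ∈ I • (⊤ : Submodule P N) ↔ m ∈ pN (S := S) N p := fun m => by
    rw [pN, ← Submodule.restrictScalars_mem R, ← Submodule.restrictScalars_mem R (p.map (algebraMap R S) • _),
      Submodule.restrictScalars_map_smul_eq, Submodule.restrictScalars_map_smul_eq,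
      Submodule.restrictScalars_top, Submodule.restrictScalars_top]
  have hmapI : (I • (⊤ : Submodule P ((Fin r → P) ⧸ K))).map f = I • (⊤ : Submodule P N) := by
    rw [Submodule.map_smul'', Submodule.map_top, LinearMap.range_eq_top.mpr hf]
  obtain ⟨hC, hinj⟩ := FlatOpen.injective_coker_flat_of_fibEq R P u Q hQ₀ (fun m hm => by
    rw [hQp] at hm ⊢
    have h1 : σ • f m ∈ pN (S := S) N p := by
      rw [← hpN, ← hτN, ← map_smul, ← hmapI]
      exact Submodule.mem_map_of_mem hm
    obtain ⟨s, hs, hsm⟩ := h _ h1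
    obtain ⟨s, rfl⟩ := hπ s
    have h2 : f (s • m) ∈ (I • (⊤ : Submodule P ((Fin r → P) ⧸ K))).map f := by
      rw [hmapI, map_smul, hpN]
      exact hsm
    obtain ⟨y, hy, hym⟩ := h2
    obtain ⟨t, ht, hty⟩ := hker (s • m - y) (by rw [map_sub, hym, sub_self])
    refine ⟨t * s, Q.primeCompl.mul_mem ht hs, ?_⟩
    rw [smul_sub, sub_eq_zero] at hty
    rw [mul_smul, hty]
    exact Submodule.smul_mem _ t hy)
  have hlin : ∀ (c : P) (y : ((Fin r → P) ⧸ K) ⊗[R] X),
      (f.restrictScalars R).rTensor X (c • y) = c • (f.restrictScalars R).rTensor X y :=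
    (AlgebraTensorModule.rTensor R X f).map_smul
  have hact : ∀ (c : P) (y : N ⊗[R] X), c • y = π c • y := fun c y => by
    induction y with
    | zero => simp
    | tmul a b => rfl
    | add a b ha hb => simp only [smul_add, ha, hb]
  obtain ⟨x₀, rfl⟩ := LinearMap.rTensor_surjective X (g := f.restrictScalars R) hf x
  have h1 : (f.restrictScalars R).rTensor X (τ • x₀) = 0 := by rw [hlin, hact, hτ, hx]
  obtain ⟨t₁, ht₁, ht₁x⟩ := exists_smul_eq_zero_of_rTensor Q.primeCompl f hf
    (fun v hv => hker v hv) X _ h1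
  have hu' : ∀ y, (u.restrictScalars R).rTensor X y = τ • y := fun y => by
    induction y with
    | zero => simp
    | tmul a b => rfl
    | add a b ha hb => simp only [map_add, smul_add, ha, hb]
  haveI : Module.Flat R (LocalizedModule Q.primeCompl (((Fin r → P) ⧸ K) ⧸ LinearMap.range u)) := hC
  obtain ⟨t₂, ht₂, ht₂x⟩ := exists_smul_eq_zero_of_coker Q.primeCompl u hinj X (t₁ • x₀) (by
    rw [hu', smul_comm, ht₁x])
  refine ⟨π (t₂ * t₁), fun hm => Q.primeCompl.mul_mem ht₂ ht₁ hm, ?_⟩
  rw [← hact, ← hlin, mul_smul, ht₂x, map_zero]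

theorem exists_smul_eq_zero_of_pow_fibre_regular (p : Ideal R) [p.IsPrime] (q : Ideal S) [q.IsPrime] [q.LiesOver p]
    (hflat : FlatCA.FlatAt R q N) (σ : S) (h : ∀ m : N, σ • m ∈ pN (S := S) N p → ∃ s ∉ q, s • m ∈ pN (S := S) N p)
    (X : Type u) [AddCommGroup X] [Module R X] (x : N ⊗[R] X) (k : ℕ) (hx : σ ^ k • x = 0) :
    ∃ t ∉ q, t • x = 0 := by
  induction k generalizing x with
  | zero => exact ⟨1, fun h => (inferInstance : q.IsPrime).ne_top ((Ideal.eq_top_iff_one _).mpr h), by simpa using hx⟩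
  | succ k ih =>
    rw [pow_succ', mul_smul] at hx
    obtain ⟨t, ht, htx⟩ := exists_smul_eq_zero_of_fibre_regular p q hflat σ h X _ hx
    rw [smul_comm] at htx
    obtain ⟨t', ht', htx'⟩ := ih (t • x) htx
    exact ⟨t' * t, q.primeCompl.mul_mem ht' ht, by rw [mul_smul, htx']⟩

attribute [local instance] Algebra.TensorProduct.rightAlgebra

theorem isNoetherianRing_fiber (p : Ideal R) [p.IsPrime] : IsNoetherianRing (p.Fiber S) :=
  Algebra.FiniteType.isNoetherianRing p.ResidueField (p.Fiber S)

theorem finite_fiberMod (p : Ideal R) [p.IsPrime] : Module.Finite (p.Fiber S) (FlatCA.fiberMod p S N) :=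
  inferInstanceAs (Module.Finite (p.Fiber S) ((p.Fiber S) ⊗[S] N))

omit [Algebra.FiniteType R S] in
theorem fiberIdeal_isPrime (p : Ideal R) [p.IsPrime] (q : Ideal S) [q.IsPrime] [q.LiesOver p] :
    (FlatCA.fiberIdeal p q).IsPrime := by
  let B := p.Fiber S
  let qB := FlatCA.fiberIdeal p q
  have hq : qB.comap (Algebra.TensorProduct.includeRight (R := R) (A := p.ResidueField) (B := S)).toRingHom = q :=
    FlatMisc.Fiber.comap_fiberIdeal p q
  have key : ∀ b : B, ∃ (u : B) (s : S), IsUnit u ∧ u * b = (1 : p.ResidueField) ⊗ₜ[R] s := fun b => by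
    obtain ⟨r, hr, s, hrs⟩ := Ideal.Fiber.exists_smul_eq_one_tmul p b
    refine ⟨algebraMap R B r, s, ?_, by rw [← Algebra.smul_def]; exact hrs⟩
    rw [IsScalarTower.algebraMap_apply R p.ResidueField B]
    refine IsUnit.map _ ?_
    rw [isUnit_iff_ne_zero, Ne, Ideal.algebraMap_residueField_eq_zero]
    exact hr
  constructor
  · intro htop
    refine (inferInstance : q.IsPrime).ne_top ?_
    rw [← hq, show qB = ⊤ from htop, Ideal.comap_top]
  · intro a b hab
    obtain ⟨u, s, hu, hs⟩ := key a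
    obtain ⟨v, t, hv, ht⟩ := key b
    have hst : s * t ∈ q := by
      rw [← hq, Ideal.mem_comap]
      show (1 : p.ResidueField) ⊗ₜ[R] (s * t) ∈ qB
      rw [show (1 : p.ResidueField) ⊗ₜ[R] (s * t) = (u * v) * (a * b) by
        rw [mul_mul_mul_comm, hs, ht, Algebra.TensorProduct.tmul_mul_tmul, one_mul]]
      exact Ideal.mul_mem_left _ _ hab
    rcases (inferInstance : q.IsPrime).mem_or_mem hst with h | h
    · exact Or.inl ((Ideal.unit_mul_mem_iff_mem _ hu).mp (hs ▸ Ideal.mem_map_of_mem _ h))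
    · exact Or.inr ((Ideal.unit_mul_mem_iff_mem _ hv).mp (ht ▸ Ideal.mem_map_of_mem _ h))

/-- Away from the associated primes of the fibre some element of `q` is regular on it. -/
theorem exists_mem_regular (p : Ideal R) [p.IsPrime] (q : Ideal S) [q.IsPrime] [q.LiesOver p]
    (h : FlatCA.fiberIdeal p q ∉ associatedPrimes (p.Fiber S) (FlatCA.fiberMod p S N)) :
    ∃ σ ∈ q, ∀ m : N, σ • m ∈ pN (S := S) N p → ∃ s ∉ q, s • m ∈ pN (S := S) N p := by
  haveI := isNoetherianRing_fiber (S := S) p
  haveI := finite_fiberMod (S := S) (N := N) p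
  let B := p.Fiber S
  let F := FlatCA.fiberMod p S N
  let ι : S →+* B := (Algebra.TensorProduct.includeRight (R := R) (A := p.ResidueField) (B := S)).toRingHom
  let qB := FlatCA.fiberIdeal p q
  have hq : qB.comap ι = q := FlatMisc.Fiber.comap_fiberIdeal p q
  let T := {P ∈ associatedPrimes B F | P ≤ qB}
  have hT : T.Finite := (associatedPrimes.finite B F).subset (Set.sep_subset _ _)
  obtain ⟨σ, hσq, hσ⟩ : ∃ σ ∈ q, ∀ P ∈ T, σ ∉ P.comap ι := by
    by_contra hc
    push Not at hc
    have hsub : (q : Set S) ⊆ ⋃ P ∈ T, ((P.comap ι : Ideal S) : Set S) := fun a ha => by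
      obtain ⟨P, hP, haP⟩ := hc a ha
      exact Set.mem_biUnion hP haP
    obtain ⟨P, hP, hle⟩ := (Ideal.subset_union_prime_finite hT (f := fun P => P.comap ι) qB qB
      fun P hP _ _ => haveI : P.IsPrime := hP.1.1; Ideal.comap_isPrime ι P).mp hsub
    have : qB = P := le_antisymm (Ideal.map_le_iff_le_comap.mpr hle) hP.2
    exact h (show qB ∈ associatedPrimes B F from this ▸ hP.1)
  refine ⟨σ, hσq, fun m hm => ?_⟩
  let x := FlatCA.toFiberMod p S N m
  have hx : ι σ • x = 0 := by
    rw [show ι σ • x = σ • x from CAlgA.FibreMod.includeRight_smul N p σ x, ← map_smul]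
    exact CAlgA.FibreMod.toFiberMod_eq_zero_of_mem N p hm
  have hnle : ¬ (⊥ : Submodule B F).colon {x} ≤ qB := fun hle => by
    haveI : qB.IsPrime := fiberIdeal_isPrime p q
    obtain ⟨P, hP, hPq⟩ := Ideal.exists_minimalPrimes_le hle
    obtain ⟨x', hx'⟩ := Submodule.exists_eq_colon_of_mem_minimalPrimes hP
    have hPT : P ∈ T := ⟨isAssociatedPrime_iff.mpr ⟨hP.1.1, x', hx'⟩, hPq⟩
    exact hσ P hPT (hP.1.2 (Submodule.mem_colon_singleton.mpr ((Submodule.mem_bot B).mpr hx)))
  obtain ⟨b, hb, hbq⟩ := SetLike.not_le_iff_exists.mp hnle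
  rw [Submodule.mem_colon_singleton, Submodule.mem_bot] at hb
  obtain ⟨r, hr, s, hrs⟩ := Ideal.Fiber.exists_smul_eq_one_tmul p b
  have hrq : algebraMap R S r ∉ q := fun hm => hr ((q.over_def p).ge hm)
  have hs : s ∉ q := fun hsq => by
    refine hbq ?_
    have hmem : (1 : p.ResidueField) ⊗ₜ[R] s ∈ qB := Ideal.mem_map_of_mem _ hsq
    rw [← hrs, Algebra.smul_def, IsScalarTower.algebraMap_apply R p.ResidueField B] at hmem
    refine (Ideal.unit_mul_mem_iff_mem _ (IsUnit.map _ ?_)).mp hmem
    rw [isUnit_iff_ne_zero, Ne, Ideal.algebraMap_residueField_eq_zero]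
    exact hr
  have hsx : FlatCA.toFiberMod p S N (s • m) = 0 := by
    rw [map_smul, ← CAlgA.FibreMod.includeRight_smul N p s]
    show ((1 : p.ResidueField) ⊗ₜ[R] s : B) • x = 0
    rw [← hrs, Algebra.smul_def, mul_smul, hb, smul_zero]
  obtain ⟨r', hr', hmem⟩ := CAlgA.FibreMod.exists_smul_mem N p hsx
  refine ⟨algebraMap R S r' * s, q.primeCompl.mul_mem (fun hm => hr' ((q.over_def p).ge hm)) hs, ?_⟩
  rw [mul_smul]
  exact hmem

/-- Witness of an associated prime of the fibre. -/
theorem exists_elem_of_ass (p : Ideal R) [p.IsPrime] (q : Ideal S) [q.IsPrime] [q.LiesOver p]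
    (h : FlatCA.fiberIdeal p q ∈ associatedPrimes (p.Fiber S) (FlatCA.fiberMod p S N)) :
    ∃ (y : N) (G : Finset S), (∀ s ∉ q, s • y ∉ pN (S := S) N p) ∧
      (∀ b ∈ G, ∃ s ∉ q, (s * b) • y ∈ pN (S := S) N p) ∧
      ∀ a ∈ q, ∃ s ∉ q, s * a ∈ Ideal.span (G : Set S) ⊔ p.map (algebraMap R S) := by
  classical
  haveI := isNoetherianRing_fiber (S := S) p
  let B := p.Fiber S
  let F := FlatCA.fiberMod p S N
  let ι : S →+* B := (Algebra.TensorProduct.includeRight (R := R) (A := p.ResidueField) (B := S)).toRingHom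
  let qB := FlatCA.fiberIdeal p q
  have hq : qB.comap ι = q := FlatMisc.Fiber.comap_fiberIdeal p q
  obtain ⟨hqB, x, hx⟩ := isAssociatedPrime_iff.mp h
  obtain ⟨r, hr, y, hy⟩ := CAlgA.FibreMod.exists_smul_eq N p x
  have hrq : algebraMap R S r ∉ q := fun hm => hr ((q.over_def p).ge hm)
  have hcol : ∀ a : S, a ∈ q ↔ a • x = 0 := fun a => by
    rw [← hq, Ideal.mem_comap, show qB = _ from hx, Submodule.mem_colon_singleton, Submodule.mem_bot,
      show ι a • x = a • x from CAlgA.FibreMod.includeRight_smul N p a x]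
  obtain ⟨G, hGq, hG⟩ : ∃ G : Finset S, (∀ b ∈ G, b ∈ q) ∧ qB = (Ideal.span (G : Set S)).map ι := by
    obtain ⟨G', hG', hspan⟩ := (Submodule.fg_span_iff_fg_span_finset_subset (R := B) (ι '' (q : Set S))).mp
      (IsNoetherian.noetherian _)
    obtain ⟨G, hGq, hGG'⟩ := Finset.subset_set_image_iff.mp hG'
    refine ⟨G, hGq, ?_⟩
    rw [show qB = Ideal.span (ι '' (q : Set S)) from rfl, Ideal.map_span, ← Finset.coe_image, hGG']
    exact hspan
  refine ⟨y, G, fun s hs hmem => ?_, fun b hb => ?_, fun a ha => ?_⟩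
  · have h0 := CAlgA.FibreMod.toFiberMod_eq_zero_of_mem N p hmem
    rw [map_smul, ← hy, smul_smul] at h0
    exact q.primeCompl.mul_mem hs hrq ((hcol _).mpr h0)
  · obtain ⟨r', hr', hmem⟩ := CAlgA.FibreMod.exists_smul_mem N p (n := b • y) (by
      rw [map_smul, ← hy, smul_smul, mul_comm, mul_smul, (hcol b).mp (hGq b hb), smul_zero])
    exact ⟨algebraMap R S r', fun hm => hr' ((q.over_def p).ge hm), by rw [mul_smul]; exact hmem⟩
  · let J := Ideal.span (G : Set S)
    have hz : FlatCA.toFiberMod p S (S ⧸ J) (Submodule.Quotient.mk a) = 0 := by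
      have hker : ∀ b ∈ qB, ∀ z : B ⊗[S] (S ⧸ J), b • z = 0 := by
        intro b hb z
        rw [show qB = _ from hG] at hb
        refine Submodule.span_induction ?_ (zero_smul _ z) (fun u v _ _ hu hv => by rw [add_smul, hu, hv, add_zero])
          (fun c v _ hv => by rw [smul_eq_mul, mul_smul, hv, smul_zero]) hb
        rintro _ ⟨j, hj, rfl⟩
        rw [show ι j • z = j • z from IsScalarTower.algebraMap_smul B j z]
        induction z with
        | zero => simp
        | tmul c w =>
          obtain ⟨w, rfl⟩ := Submodule.Quotient.mk_surjective _ w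
          rw [TensorProduct.smul_tmul', TensorProduct.smul_tmul, ← Submodule.Quotient.mk_smul,
            (Submodule.Quotient.mk_eq_zero J).mpr (show j • w ∈ J from J.mul_mem_right w hj), TensorProduct.tmul_zero]
        | add u v hu hv => rw [smul_add, hu, hv, add_zero]
      show (1 : B) ⊗ₜ[S] (Submodule.Quotient.mk a : S ⧸ J) = 0
      rw [show (Submodule.Quotient.mk a : S ⧸ J) = a • Submodule.Quotient.mk 1 by
          rw [← Submodule.Quotient.mk_smul, smul_eq_mul, mul_one],
        ← TensorProduct.smul_tmul, ← TensorProduct.smul_tmul', ← IsScalarTower.algebraMap_smul B a]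
      exact hker _ (Ideal.mem_map_of_mem _ ha) _
    obtain ⟨r', hr', hmem⟩ := CAlgA.FibreMod.exists_smul_mem (S ⧸ J) p hz
    refine ⟨algebraMap R S r', fun hm => hr' ((q.over_def p).ge hm), ?_⟩
    have htop : (pN (S := S) (S ⧸ J) p) = ((p.map (algebraMap R S)) • (⊤ : Submodule S S)).map J.mkQ := by
      rw [Submodule.map_smul'', Submodule.map_top, Submodule.range_mkQ]
    rw [← Submodule.Quotient.mk_smul, htop, ← Submodule.mkQ_apply, ← Submodule.mem_comap, Submodule.comap_map_eq,
      Submodule.ker_mkQ, Ideal.smul_eq_mul, Ideal.mul_top] at hmem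
    rw [sup_comm]
    exact hmem

end Groth.Agent.RGFlat
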