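import Groth.Agent.FlatOpen.Descend
import Groth.Agent.FlatOpen.GenFreeDomain
import Mathlib.LinearAlgebra.TensorProduct.Vanishing
import Mathlib.LinearAlgebra.Matrix.ToLin
import Mathlib.RingTheory.Localization.Module

/-!
Families independent in the fibres of a flat module: universal injectivity, and spreading out.
-/

set_option autoImplicit false

universe u

open TensorProduct

namespace Groth.Agent.RGFlat.Indep

/-- A family independent in the fibre at `p` of a flat module only satisfies relations that die near `p`. -/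
theorem exists_smul_eq_zero {A : Type u} [CommRing A] (p : Ideal A) [p.IsPrime] {N : Type u} [AddCommGroup N]
    [Module A N] [Module.Flat A N] {r : ℕ} (x : Fin r → N)
    (hx : LinearIndependent p.ResidueField (fun j => (1 : p.ResidueField) ⊗ₜ[A] x j))
    {Q : Type u} [AddCommGroup Q] [Module A Q] (q : Fin r → Q) (h : ∑ j, q j ⊗ₜ[A] x j = 0) :
    ∃ s ∉ p, ∀ j, s • q j = 0 := by
  classical
  obtain ⟨l, a, y, hay, hq⟩ := TensorProduct.vanishesTrivially_of_sum_tmul_eq_zero_of_rTensor_injective A
    (Module.Flat.rTensor_preserves_injective_linearMap (M := N) _ Subtype.val_injective) h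
  let M : Matrix (Fin r) (Fin l) A := Matrix.of a
  let aκ : Matrix (Fin r) (Fin l) p.ResidueField := M.map (algebraMap A _)
  have hinj : Function.Injective aκ.vecMul := by
    intro v w hvw
    refine funext fun j => sub_eq_zero.mp (Fintype.linearIndependent_iff.mp hx (v - w) ?_ j)
    have h0 : ∀ k, ∑ j, (v - w) j * algebraMap A p.ResidueField (a j k) = 0 := fun k => by
      have := congrFun hvw k
      simp only [Matrix.vecMul, dotProduct, aκ, M, Matrix.map_apply, Matrix.of_apply] at this
      simp only [Pi.sub_apply, sub_mul, Finset.sum_sub_distrib, this, sub_self]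
    calc ∑ j, (v - w) j • (1 : p.ResidueField) ⊗ₜ[A] x j
        = ∑ j, ∑ k, ((v - w) j * algebraMap A p.ResidueField (a j k)) ⊗ₜ[A] y k :=
          Finset.sum_congr rfl fun j _ => by
            rw [hay j, TensorProduct.tmul_sum, Finset.smul_sum]
            refine Finset.sum_congr rfl fun k _ => ?_
            rw [TensorProduct.smul_tmul', smul_eq_mul, mul_one, TensorProduct.tmul_smul, TensorProduct.smul_tmul',
              Algebra.smul_def, mul_comm]
      _ = 0 := by
          rw [Finset.sum_comm]
          exact Finset.sum_eq_zero fun k _ => by rw [← TensorProduct.sum_tmul, h0 k, TensorProduct.zero_tmul]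
  obtain ⟨G, hG⟩ := LinearMap.exists_leftInverse_of_injective aκ.vecMulLinear (LinearMap.ker_eq_bot.mpr hinj)
  obtain ⟨⟨e0, he0⟩, hC0⟩ := IsLocalization.exist_integer_multiples_of_finite (nonZeroDivisors (A ⧸ p))
    (fun ki : Fin l × Fin r => G (Pi.single ki.1 1) ki.2)
  choose C0 hC0 using fun ki => hC0 ki
  choose C hC using fun ki => Ideal.Quotient.mk_surjective (C0 ki)
  obtain ⟨e, rfl⟩ := Ideal.Quotient.mk_surjective e0
  have hκ : ∀ z : A, algebraMap A p.ResidueField z = algebraMap (A ⧸ p) p.ResidueField (Ideal.Quotient.mk p z) :=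
    fun z => rfl
  have he : algebraMap A p.ResidueField e ≠ 0 := fun h0 =>
    nonZeroDivisors.ne_zero he0 (Ideal.Quotient.eq_zero_iff_mem.mpr (Ideal.algebraMap_residueField_eq_zero.mp h0))
  let M' : Matrix (Fin r) (Fin r) A := M * Matrix.of (fun k i => C (k, i))
  have hM' : M'.map (algebraMap A p.ResidueField) = algebraMap A p.ResidueField e • 1 := by
    ext j i
    have hGj := congrFun (LinearMap.congr_fun hG (Pi.single j 1)) i
    rw [LinearMap.comp_apply, Matrix.vecMulLinear_apply, Matrix.single_one_vecMul, LinearMap.id_apply,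
      pi_eq_sum_univ' (aκ.row j), map_sum] at hGj
    simp only [M', Matrix.map_apply, Matrix.mul_apply, map_sum, map_mul, Matrix.of_apply, Matrix.smul_apply, smul_eq_mul]
    rw [Finset.sum_congr rfl fun k _ => show algebraMap A p.ResidueField (M j k) * algebraMap A p.ResidueField (C (k, i)) =
      algebraMap A p.ResidueField e * (aκ j k * G (Pi.single k 1) i) by
        rw [hκ (C (k, i)), hC, hC0, Algebra.smul_def, ← hκ e]
        simp only [aκ, Matrix.map_apply]
        ring, ← Finset.mul_sum]
    congr 1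
    rw [Finset.sum_apply] at hGj
    simp only [map_smul, Pi.smul_apply, smul_eq_mul, Matrix.row_apply] at hGj
    rw [hGj, Matrix.one_apply, Pi.single_apply]
    simp only [eq_comm]
  refine ⟨M'.det, fun hmem => ?_, fun j0 => ?_⟩
  · have h1 : algebraMap A p.ResidueField M'.det = algebraMap A p.ResidueField e ^ r := by
      rw [RingHom.map_det, RingHom.mapMatrix_apply, hM', Matrix.det_smul, Matrix.det_one, mul_one, Fintype.card_fin]
    exact pow_ne_zero r he (h1.symm.trans (Ideal.algebraMap_residueField_eq_zero.mpr hmem))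
  · have h1 : ∀ j, ∑ i, M' j i * M'.adjugate i j0 = if j = j0 then M'.det else 0 := fun j => by
      rw [← Matrix.mul_apply, Matrix.mul_adjugate, Matrix.smul_apply, Matrix.one_apply, smul_eq_mul, mul_ite, mul_one, mul_zero]
    have h2 : ∀ i, ∑ j, M' j i • q j = 0 := fun i => by
      simp only [M', Matrix.mul_apply, Matrix.of_apply, Finset.sum_smul]
      rw [Finset.sum_comm]
      refine Finset.sum_eq_zero fun k _ => ?_
      simp only [mul_comm _ (C (k, i)), mul_smul, ← Finset.smul_sum]
      rw [show ∑ j, M j k • q j = 0 from hq k, smul_zero]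
    calc M'.det • q j0 = ∑ j, (∑ i, M' j i * M'.adjugate i j0) • q j := by
          simp only [h1, ite_smul, zero_smul, Finset.sum_ite_eq', Finset.mem_univ, if_true]
      _ = ∑ i, M'.adjugate i j0 • ∑ j, M' j i • q j := by
          simp only [Finset.sum_smul, Finset.smul_sum, smul_smul]
          rw [Finset.sum_comm]
          simp only [mul_comm]
      _ = 0 := by simp only [h2, smul_zero, Finset.sum_const_zero]

/-- Over a domain a family in a module that becomes free on a basic open is either independent in all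
fibres over a smaller open, or dependent in all of them. -/
theorem dichotomy {D : Type u} [CommRing D] [IsDomain D] {M : Type u} [AddCommGroup M] [Module D M] (f : D)
    (hf : f ≠ 0) [Module.Free (Localization.Away f) (Localization.Away f ⊗[D] M)] {r : ℕ} (x : Fin r → M) :
    ∃ d : D, d ≠ 0 ∧
      ((∀ (L : Type u) [Field L] [Algebra D L], algebraMap D L d ≠ 0 →
          LinearIndependent L (fun j => (1 : L) ⊗ₜ[D] x j)) ∨
        (∀ (L : Type u) [Field L] [Algebra D L], algebraMap D L d ≠ 0 →
          ¬ LinearIndependent L (fun j => (1 : L) ⊗ₜ[D] x j))) := by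
  classical
  let Df := Localization.Away f
  have hle : Submonoid.powers f ≤ nonZeroDivisors D := powers_le_nonZeroDivisors_of_noZeroDivisors hf
  haveI : IsDomain Df := IsLocalization.isDomain_localization hle
  have hDf : Function.Injective (algebraMap D Df) := IsLocalization.injective Df hle
  let F := Df ⊗[D] M
  let z : Fin r → F := fun j => 1 ⊗ₜ x j
  let b := Module.Free.chooseBasis Df F
  by_cases hz : LinearIndependent Df z
  · let K := FractionRing Df
    let c : F →ₗ[Df] (Module.Free.ChooseBasisIndex Df F →₀ K) :=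
      (Finsupp.mapRange.linearMap (Algebra.linearMap Df K)).comp b.repr.toLinearMap
    have hc : LinearIndependent K (fun j => c (z j)) := by
      refine (LinearIndependent.iff_fractionRing Df K).mp (hz.map' c (LinearMap.ker_eq_bot.mpr ?_))
      exact (Finsupp.mapRange_injective _ (map_zero _) (IsFractionRing.injective Df K)).comp b.repr.injective
    obtain ⟨φ, hφ⟩ := LinearMap.exists_leftInverse_of_injective (Fintype.linearCombination K (fun j => c (z j)))
      (LinearMap.ker_eq_bot.mpr hc.fintypeLinearCombination_injective)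
    let S : Finset (Module.Free.ChooseBasisIndex Df F) := Finset.univ.biUnion fun j => (b.repr (z j)).support
    obtain ⟨e, he⟩ := IsLocalization.exist_integer_multiples_of_finite (nonZeroDivisors Df)
      (fun si : S × Fin r => φ (Finsupp.single si.1.1 1) si.2)
    choose C hC using fun si => he si
    let ψ : Fin r → (F →ₗ[Df] Df) := fun i => b.constr Df fun s => if h : s ∈ S then C (⟨s, h⟩, i) else 0
    have hψ : ∀ i j, ψ i (z j) = if j = i then (e : Df) else 0 := by
      intro i j
      apply IsFractionRing.injective Df K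
      rw [Module.Basis.constr_apply, Finsupp.sum, map_sum]
      have h1 : φ (c (z j)) i = if j = i then 1 else 0 := by
        have := congrFun (LinearMap.congr_fun hφ (Pi.single j 1)) i
        rw [LinearMap.comp_apply, Fintype.linearCombination_apply_single, one_smul, LinearMap.id_apply] at this
        rw [this, Pi.single_apply]
        simp only [eq_comm]
      have h2 : c (z j) = ∑ s ∈ (b.repr (z j)).support, algebraMap Df K (b.repr (z j) s) • Finsupp.single s (1 : K) := by
        conv_lhs => rw [show c (z j) = Finsupp.mapRange (algebraMap Df K) (map_zero _) (b.repr (z j)) from rfl]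
        ext s
        simp [Finsupp.finsetSum_apply, Finsupp.single_apply]
        split_ifs with h0 <;> simp [h0, Algebra.smul_def]
      rw [h2, map_sum, Finset.sum_apply] at h1
      calc ∑ s ∈ (b.repr (z j)).support, algebraMap Df K (b.repr (z j) s • if h : s ∈ S then C (⟨s, h⟩, i) else 0)
          = algebraMap Df K e * ∑ s ∈ (b.repr (z j)).support, (φ (algebraMap Df K (b.repr (z j) s) • Finsupp.single s (1 : K))) i := by
            rw [Finset.mul_sum]
            refine Finset.sum_congr rfl fun s hs => ?_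
            rw [dif_pos (Finset.mem_biUnion.mpr ⟨j, Finset.mem_univ _, hs⟩), smul_eq_mul, map_mul, hC,
              Algebra.smul_def, map_smul, Pi.smul_apply, smul_eq_mul]
            ring
        _ = _ := by rw [h1, mul_ite, mul_one, mul_zero]; split_ifs <;> simp
    obtain ⟨⟨d0, ⟨_, k, rfl⟩⟩, hd0⟩ := IsLocalization.surj (Submonoid.powers f) (e : Df)
    have hd0ne : d0 ≠ 0 := by
      rintro rfl
      rw [map_zero] at hd0
      exact mul_ne_zero (nonZeroDivisors.ne_zero e.2)
        ((map_ne_zero_iff _ hDf).mpr (pow_ne_zero k hf)) hd0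
    refine ⟨f * d0, mul_ne_zero hf hd0ne, Or.inl fun L _ _ hL => ?_⟩
    rw [map_mul] at hL
    obtain ⟨hLf, hLd⟩ := mul_ne_zero_iff.mp hL
    let ι : Df →+* L := IsLocalization.Away.lift f (isUnit_iff_ne_zero.mpr hLf)
    letI : Algebra Df L := ι.toAlgebra
    haveI : IsScalarTower D Df L := IsScalarTower.of_algebraMap_eq fun a => (IsLocalization.Away.lift_eq f _ a).symm
    have hLe : algebraMap Df L e ≠ 0 := fun h0 => hLd (by
      rw [IsScalarTower.algebraMap_apply D Df L, ← hd0, map_mul, h0, zero_mul])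
    let E := AlgebraTensorModule.cancelBaseChange D Df L L M
    refine Fintype.linearIndependent_iff.mpr fun g hg i => ?_
    have hg' : ∑ j, g j • (1 : L) ⊗ₜ[Df] z j = 0 := E.injective (by
      rw [map_zero, map_sum, ← hg]
      refine Finset.sum_congr rfl fun j _ => ?_
      rw [map_smul, AlgebraTensorModule.cancelBaseChange_tmul, one_smul])
    have h3 := congrArg ((AlgebraTensorModule.rid Df L L).toLinearMap ∘ₗ (ψ i).baseChange L) hg'
    simp only [map_sum, map_zero, map_smul, LinearMap.comp_apply, LinearMap.baseChange_tmul, LinearEquiv.coe_coe,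
      AlgebraTensorModule.rid_tmul, hψ] at h3
    rw [Finset.sum_eq_single i (fun j _ hji => by rw [if_neg hji, zero_smul, smul_zero])
      (fun h => absurd (Finset.mem_univ i) h), if_pos rfl, Algebra.smul_def (R := Df), mul_one, smul_eq_mul] at h3
    exact (mul_eq_zero.mp h3).resolve_right hLe
  · obtain ⟨g, hg, j, hj⟩ := Fintype.not_linearIndependent_iff.mp hz
    obtain ⟨⟨d0, ⟨_, k, rfl⟩⟩, hd0⟩ := IsLocalization.surj (Submonoid.powers f) (g j)
    have hd0ne : d0 ≠ 0 := by
      rintro rfl
      rw [map_zero] at hd0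
      exact mul_ne_zero hj ((map_ne_zero_iff _ hDf).mpr (pow_ne_zero k hf)) hd0
    refine ⟨f * d0, mul_ne_zero hf hd0ne, Or.inr fun L _ _ hL hli => ?_⟩
    rw [map_mul] at hL
    obtain ⟨hLf, hLd⟩ := mul_ne_zero_iff.mp hL
    let ι : Df →+* L := IsLocalization.Away.lift f (isUnit_iff_ne_zero.mpr hLf)
    letI : Algebra Df L := ι.toAlgebra
    haveI : IsScalarTower D Df L := IsScalarTower.of_algebraMap_eq fun a => (IsLocalization.Away.lift_eq f _ a).symm
    let E := AlgebraTensorModule.cancelBaseChange D Df L L M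
    have hE : ∀ j, E ((1 : L) ⊗ₜ[Df] z j) = (1 : L) ⊗ₜ[D] x j := fun j => by simp [E, z]
    have h3 : ∑ j, algebraMap Df L (g j) • (1 : L) ⊗ₜ[D] x j = 0 := by
      rw [← map_zero E, ← TensorProduct.tmul_zero F (1 : L), ← hg, TensorProduct.tmul_sum, map_sum]
      refine Finset.sum_congr rfl fun j _ => ?_
      rw [TensorProduct.tmul_smul, ← IsScalarTower.algebraMap_smul L (g j) ((1 : L) ⊗ₜ[Df] z j), map_smul, hE]
    have h4 := Fintype.linearIndependent_iff.mp hli _ h3 j
    exact hLd (by rw [IsScalarTower.algebraMap_apply D Df L, ← hd0, map_mul, h4, zero_mul])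

/-- Independence in the fibres spreads out from the generisations of a point. -/
theorem exists_nhd {A B : Type u} [CommRing A] [CommRing B] [Algebra A B] [Algebra.FinitePresentation A B]
    {N : Type u} [AddCommGroup N] [Module B N] [Module A N] [IsScalarTower A B N] [Module.FinitePresentation B N]
    {r : ℕ} (x : Fin r → N) (p : Ideal A) [p.IsPrime]
    (hx : ∀ (t : Ideal A) [t.IsPrime], t ≤ p → LinearIndependent t.ResidueField (fun j => (1 : t.ResidueField) ⊗ₜ[A] x j)) :
    ∃ a ∉ p, ∀ (t : Ideal A) [t.IsPrime], a ∉ t →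
      LinearIndependent t.ResidueField (fun j => (1 : t.ResidueField) ⊗ₜ[A] x j) := by
  classical
  obtain ⟨n, m, R₀, Z₀, π, E, hR₀, -, -⟩ := FlatOpen.exists_presentation_model A B N
  let N₀ := FlatOpen.Vec n m R₀ ⧸ Z₀
  let e₀ : A ⊗[R₀] N₀ ≃ₗ[A] N := (FlatOpen.quotEquiv A Z₀).trans E
  choose s hs using fun j => TensorProduct.exists_finset (e₀.symm (x j))
  let R₁ : Subalgebra ℤ A :=
    Algebra.adjoin ℤ (((hR₀.choose : Finset A) : Set A) ∪ ((Finset.univ.biUnion fun j => (s j).image Prod.fst : Finset A) : Set A))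
  have hR₁ : R₁.FG := ⟨hR₀.choose ∪ Finset.univ.biUnion fun j => (s j).image Prod.fst, by rw [Finset.coe_union]⟩
  have hle : R₀ ≤ R₁ := by
    rw [← hR₀.choose_spec]
    exact Algebra.adjoin_mono Set.subset_union_left
  letI : Algebra R₀ R₁ := (Subalgebra.inclusion hle).toRingHom.toAlgebra
  haveI : IsScalarTower R₀ R₁ A := IsScalarTower.of_algebraMap_eq fun _ => rfl
  haveI : Algebra.FiniteType ℤ R₁ := R₁.fg_iff_finiteType.mp hR₁
  haveI : IsNoetherianRing R₁ := Algebra.FiniteType.isNoetherianRing ℤ R₁
  let N₁ := FlatOpen.Quot R₁ Z₀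
  let e₁ : A ⊗[R₁] N₁ ≃ₗ[A] N :=
    ((AlgebraTensorModule.congr (LinearEquiv.refl A A) (FlatOpen.quotEquiv R₁ Z₀).symm).trans
      (AlgebraTensorModule.cancelBaseChange R₀ R₁ A A N₀)).trans e₀
  have hmem : ∀ j, ∀ v ∈ s j, v.1 ∈ R₁ := fun j v hv => Algebra.subset_adjoin (Or.inr
    (Finset.mem_biUnion.mpr ⟨j, Finset.mem_univ _, Finset.mem_image_of_mem _ hv⟩))
  let x₁ : Fin r → N₁ := fun j => FlatOpen.quotEquiv R₁ Z₀ (∑ v ∈ (s j).attach, (⟨v.1.1, hmem j v.1 v.2⟩ : R₁) ⊗ₜ[R₀] v.1.2)
  have hx₁ : ∀ j, e₁ (1 ⊗ₜ x₁ j) = x j := fun j => by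
    apply e₀.symm.injective
    rw [hs j, ← Finset.sum_attach]
    simp only [e₁, x₁, LinearEquiv.trans_apply, AlgebraTensorModule.congr_tmul, LinearEquiv.refl_apply,
      LinearEquiv.symm_apply_apply, TensorProduct.tmul_sum, map_sum, AlgebraTensorModule.cancelBaseChange_tmul]
    refine Finset.sum_congr rfl fun v _ => ?_
    show ((⟨v.1.1, hmem j v.1 v.2⟩ : R₁) • (1 : A)) ⊗ₜ[R₀] v.1.2 = _
    rw [Algebra.smul_def, mul_one]
    rfl
  -- independence over a point of `A` is independence over the Noetherian model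
  have hbc : ∀ (t : Ideal A) [t.IsPrime],
      (LinearIndependent t.ResidueField (fun j => (1 : t.ResidueField) ⊗ₜ[A] x j) ↔
        LinearIndependent t.ResidueField (fun j => (1 : t.ResidueField) ⊗ₜ[R₁] x₁ j)) := by
    intro t _
    let e : t.ResidueField ⊗[A] N ≃ₗ[t.ResidueField] t.ResidueField ⊗[R₁] N₁ :=
      (AlgebraTensorModule.congr (LinearEquiv.refl _ _) e₁.symm).trans
        (AlgebraTensorModule.cancelBaseChange R₁ A t.ResidueField t.ResidueField N₁)
    have he : ∀ j, e ((1 : t.ResidueField) ⊗ₜ[A] x j) = (1 : t.ResidueField) ⊗ₜ[R₁] x₁ j := fun j => by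
      simp only [e, LinearEquiv.trans_apply, AlgebraTensorModule.congr_tmul, LinearEquiv.refl_apply, ← hx₁ j,
        LinearEquiv.symm_apply_apply, AlgebraTensorModule.cancelBaseChange_tmul, one_smul]
    rw [← LinearMap.linearIndependent_iff e.toLinearMap e.ker, Function.comp_def]
    simp only [LinearEquiv.coe_coe, he]
  suffices H : ∀ I : Ideal R₁, ∃ a ∉ p, ∀ (t : Ideal A) [t.IsPrime], I ≤ t.comap (algebraMap R₁ A) → a ∉ t →
      LinearIndependent t.ResidueField (fun j => (1 : t.ResidueField) ⊗ₜ[A] x j) by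
    obtain ⟨a, ha, h⟩ := H ⊥
    exact ⟨a, ha, fun t _ ht => h t bot_le ht⟩
  intro I
  refine IsNoetherian.induction (P := fun I : Ideal R₁ => ∃ a ∉ p, ∀ (t : Ideal A) [t.IsPrime],
    I ≤ t.comap (algebraMap R₁ A) → a ∉ t →
      LinearIndependent t.ResidueField (fun j => (1 : t.ResidueField) ⊗ₜ[A] x j)) (fun (P : Ideal R₁) IH => ?_) I
  by_cases hP : Ideal.IsPrime P
  · haveI := hP
    let D := R₁ ⧸ (P : Ideal R₁)
    let MD := FlatOpen.Quot D Z₀
    obtain ⟨f, hf, hfree, -, -, -⟩ := FlatOpen.exists_genFree D (MvPolynomial (Fin n) D) MD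
    haveI := hfree
    let y : Fin r → MD := fun j => FlatOpen.quotEquiv D Z₀
      (∑ v ∈ (s j).attach, (Ideal.Quotient.mk P (⟨v.1.1, hmem j v.1 v.2⟩ : R₁)) ⊗ₜ[R₀] v.1.2)
    obtain ⟨d₀, hd₀, hdich⟩ := dichotomy f hf y
    obtain ⟨d, rfl⟩ := Ideal.Quotient.mk_surjective d₀
    have hdP : d ∉ P := fun h => hd₀ (Ideal.Quotient.eq_zero_iff_mem.mpr h)
    obtain ⟨a₁, ha₁, hbig⟩ := IH (P ⊔ Ideal.span {d}) (left_lt_sup.mpr fun h => hdP (h (Ideal.mem_span_singleton_self d)))
    have hiff : ∀ (t : Ideal A) [t.IsPrime], P ≤ t.comap (algebraMap R₁ A) →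
        ∀ [Algebra D t.ResidueField] [IsScalarTower R₁ D t.ResidueField],
        (LinearIndependent t.ResidueField (fun j => (1 : t.ResidueField) ⊗ₜ[A] x j) ↔
          LinearIndependent t.ResidueField (fun j => (1 : t.ResidueField) ⊗ₜ[D] y j)) := by
      intro t _ _ _ _
      rw [hbc t]
      haveI : IsScalarTower R₀ R₁ t.ResidueField := IsScalarTower.of_algebraMap_eq fun _ => rfl
      haveI : IsScalarTower R₀ D t.ResidueField := IsScalarTower.of_algebraMap_eq
        (R := R₀) (S := D) (A := t.ResidueField) fun a => by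
        show _ = algebraMap D t.ResidueField (algebraMap R₁ D (algebraMap R₀ R₁ a))
        rw [← IsScalarTower.algebraMap_apply R₁ D t.ResidueField, ← IsScalarTower.algebraMap_apply R₀ R₁ t.ResidueField]
      let e : t.ResidueField ⊗[R₁] N₁ ≃ₗ[t.ResidueField] t.ResidueField ⊗[D] MD :=
        ((AlgebraTensorModule.congr (LinearEquiv.refl _ _) (FlatOpen.quotEquiv R₁ Z₀).symm).trans
          (AlgebraTensorModule.cancelBaseChange R₀ R₁ t.ResidueField t.ResidueField N₀)).trans
        ((AlgebraTensorModule.cancelBaseChange R₀ D t.ResidueField t.ResidueField N₀).symm.trans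
          (AlgebraTensorModule.congr (LinearEquiv.refl _ _) (FlatOpen.quotEquiv D Z₀)))
      have he : ∀ j, e ((1 : t.ResidueField) ⊗ₜ[R₁] x₁ j) = (1 : t.ResidueField) ⊗ₜ[D] y j := fun j => by
        simp only [e, x₁, y, LinearEquiv.trans_apply, AlgebraTensorModule.congr_tmul, LinearEquiv.refl_apply,
          LinearEquiv.symm_apply_apply, TensorProduct.tmul_sum, map_sum, AlgebraTensorModule.cancelBaseChange_tmul,
          AlgebraTensorModule.cancelBaseChange_symm_tmul]
        refine Finset.sum_congr rfl fun v _ => ?_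
        rw [show (Ideal.Quotient.mk P (⟨v.1.1, hmem j v.1 v.2⟩ : R₁)) ⊗ₜ[R₀] v.1.2 =
            (Ideal.Quotient.mk P (⟨v.1.1, hmem j v.1 v.2⟩ : R₁) : D) • ((1 : D) ⊗ₜ[R₀] v.1.2) by
            rw [TensorProduct.smul_tmul', smul_eq_mul, mul_one],
          LinearEquiv.map_smul, TensorProduct.tmul_smul, TensorProduct.smul_tmul', ← Ideal.Quotient.algebraMap_eq,
          IsScalarTower.algebraMap_smul]
      rw [← LinearMap.linearIndependent_iff e.toLinearMap e.ker, Function.comp_def]
      simp only [LinearEquiv.coe_coe, he]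
    let alg : ∀ (t : Ideal A) [t.IsPrime], P ≤ t.comap (algebraMap R₁ A) → (D →+* t.ResidueField) := fun t _ hle' =>
      Ideal.Quotient.lift P (algebraMap R₁ t.ResidueField) fun a ha => by
        rw [IsScalarTower.algebraMap_apply R₁ A t.ResidueField]
        exact Ideal.algebraMap_residueField_eq_zero.mpr (hle' ha)
    have hd : ∀ (t : Ideal A) [t.IsPrime] (hle' : P ≤ t.comap (algebraMap R₁ A)), algebraMap R₁ A d ∉ t →
        alg t hle' (Ideal.Quotient.mk P d) ≠ 0 := fun t _ hle' hd' h0 => hd' (Ideal.algebraMap_residueField_eq_zero.mp h0)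
    rcases hdich with hgood | hbad
    · refine ⟨a₁, ha₁, fun t _ hle' hat => ?_⟩
      by_cases hdt : algebraMap R₁ A d ∈ t
      · exact hbig t (sup_le hle' ((Ideal.span_singleton_le_iff_mem _).mpr hdt)) hat
      · letI := (alg t hle').toAlgebra
        haveI : IsScalarTower R₁ D t.ResidueField := ⟨fun a b v => by
          obtain ⟨b, rfl⟩ := Ideal.Quotient.mk_surjective b
          rw [Algebra.smul_def, Algebra.smul_def, Algebra.smul_def, ← mul_assoc]
          exact congrArg (· * v) (map_mul (algebraMap R₁ t.ResidueField) a b)⟩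
        exact (hiff t hle').mpr (hgood _ (hd t hle' hdt))
    · obtain ⟨a₂, ha₂, k, hk⟩ : ∃ a₂ ∉ p, ∃ k : ℕ, a₂ * algebraMap R₁ A d ^ k ∈ P.map (algebraMap R₁ A) := by
        by_contra hc
        push Not at hc
        obtain ⟨t, ht, htle, hdisj⟩ : ∃ t : Ideal A, t.IsPrime ∧ P.map (algebraMap R₁ A) ≤ t ∧
            Disjoint (t : Set A) ((p.primeCompl ⊔ Submonoid.powers (algebraMap R₁ A d) : Submonoid A) : Set A) := by
          refine Ideal.exists_le_prime_disjoint _ _ (Set.disjoint_left.mpr fun z hz hz' => ?_)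
          obtain ⟨u, hu, w, ⟨k, rfl⟩, rfl⟩ := Submonoid.mem_sup.mp hz'
          exact hc u hu k hz
        haveI := ht
        have htp : t ≤ p := fun z hz => by
          by_contra hzp
          exact Set.disjoint_left.mp hdisj hz (Submonoid.mem_sup_left hzp)
        have hdt : algebraMap R₁ A d ∉ t := fun h =>
          Set.disjoint_left.mp hdisj h (Submonoid.mem_sup_right (Submonoid.mem_powers _))
        have hle' : P ≤ t.comap (algebraMap R₁ A) := Ideal.map_le_iff_le_comap.mp htle
        letI := (alg t hle').toAlgebra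
        haveI : IsScalarTower R₁ D t.ResidueField := ⟨fun a b v => by
          obtain ⟨b, rfl⟩ := Ideal.Quotient.mk_surjective b
          rw [Algebra.smul_def, Algebra.smul_def, Algebra.smul_def, ← mul_assoc]
          exact congrArg (· * v) (map_mul (algebraMap R₁ t.ResidueField) a b)⟩
        exact hbad _ (hd t hle' hdt) ((hiff t hle').mp (hx t htp))
      refine ⟨a₁ * a₂, p.primeCompl.mul_mem ha₁ ha₂, fun t _ hle' hat => ?_⟩
      refine hbig t (sup_le hle' ((Ideal.span_singleton_le_iff_mem _).mpr ?_)) fun h => hat (t.mul_mem_right _ h)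
      by_contra hdt
      have : a₂ * algebraMap R₁ A d ^ k ∈ t := (Ideal.map_le_iff_le_comap.mpr hle') hk
      rcases (inferInstance : t.IsPrime).mem_or_mem this with h | h
      · exact hat (t.mul_mem_left _ h)
      · exact hdt ((inferInstance : t.IsPrime).mem_of_pow_mem k h)
  · by_cases htop : P = ⊤
    · exact ⟨1, fun h => (inferInstance : p.IsPrime).ne_top ((Ideal.eq_top_iff_one p).mpr h),
        fun t _ hle' _ => absurd (htop ▸ hle' : (⊤ : Ideal R₁) ≤ _) fun h =>
          Ideal.IsPrime.ne_top inferInstance (top_le_iff.mp h)⟩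
    · obtain ⟨u, v, hu, hv, huv⟩ : ∃ u v, u ∉ P ∧ v ∉ P ∧ u * v ∈ P := by
        by_contra hc
        push Not at hc
        exact hP ⟨htop, fun {u v} h => or_iff_not_imp_left.mpr fun hu => by_contra fun hv => hc u v hu hv h⟩
      obtain ⟨a₁, ha₁, h1⟩ := IH (P ⊔ Ideal.span {u}) (left_lt_sup.mpr fun h => hu (h (Ideal.mem_span_singleton_self u)))
      obtain ⟨a₂, ha₂, h2⟩ := IH (P ⊔ Ideal.span {v}) (left_lt_sup.mpr fun h => hv (h (Ideal.mem_span_singleton_self v)))
      refine ⟨a₁ * a₂, p.primeCompl.mul_mem ha₁ ha₂, fun t _ hle' hat => ?_⟩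
      rcases (inferInstance : (t.comap (algebraMap R₁ A)).IsPrime).mem_or_mem (hle' huv) with h | h
      · exact h1 t (sup_le hle' ((Ideal.span_singleton_le_iff_mem _).mpr h)) fun h' => hat (t.mul_mem_right _ h')
      · exact h2 t (sup_le hle' ((Ideal.span_singleton_le_iff_mem _).mpr h)) fun h' => hat (t.mul_mem_left _ h')

end Groth.Agent.RGFlat.Indep
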