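import Groth.Agent.RGFlat.WeakAssTensor
import Groth.Agent.S1193
import Mathlib.RingTheory.EssentialFiniteness

/-!
Universal injectivity for flat modules from conditions on the fibres.
-/

set_option autoImplicit false

universe u

open TensorProduct

namespace Groth.Agent.RGFlat

open CAlgA.FibreMod (pN)

theorem mem_pN_of_toFiberMod_eq_zero {R S : Type u} [CommRing R] [IsLocalRing R] [CommRing S] [Algebra R S]
    (N : Type u) [AddCommGroup N] [Module S N] [Module R N] [IsScalarTower R S N] {n : N}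
    (h : FlatCA.toFiberMod (IsLocalRing.maximalIdeal R) S N n = 0) : n ∈ pN (S := S) N (IsLocalRing.maximalIdeal R) := by
  obtain ⟨r, hr, hmem⟩ := CAlgA.FibreMod.exists_smul_mem N _ h
  obtain ⟨v, hv⟩ := ((IsLocalRing.notMem_maximalIdeal.mp hr).map (algebraMap R S)).exists_left_inv
  rw [← one_smul S n, ← hv, mul_smul]
  exact Submodule.smul_mem _ v hmem

/-- An element regular on the closed fibre is regular on `N ⊗ X`. -/
theorem eq_zero_of_fibre_regular_local {R S : Type u} [CommRing R] [IsLocalRing R] [CommRing S] [IsLocalRing S]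
    [Algebra R S] [IsLocalHom (algebraMap R S)] [Algebra.EssFiniteType R S]
    {N : Type u} [AddCommGroup N] [Module S N] [Module R N] [IsScalarTower R S N] [Module.Finite S N] [Module.Flat R N]
    (σ : S) (h : σ ∈ FlatCA.nzdFiber R S N)
    (X : Type u) [AddCommGroup X] [Module R X] (x : N ⊗[R] X) (hx : σ • x = 0) : x = 0 := by
  classical
  let S₀ := Algebra.EssFiniteType.subalgebra R S
  let m := IsLocalRing.maximalIdeal R
  let q : Ideal S₀ := (IsLocalRing.maximalIdeal S).comap (algebraMap S₀ S)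
  haveI : q.IsPrime := Ideal.comap_isPrime _ _
  have hunit : ∀ s : S₀, s ∉ q → IsUnit (algebraMap S₀ S s) := fun s hs => IsLocalRing.notMem_maximalIdeal.mp hs
  haveI : q.LiesOver m := ⟨by
    show m = Ideal.comap (algebraMap R S₀) (Ideal.comap (algebraMap S₀ S) (IsLocalRing.maximalIdeal S))
    rw [Ideal.comap_comap, ← IsScalarTower.algebraMap_eq]
    exact (IsLocalRing.maximalIdeal_comap (algebraMap R S)).symm⟩
  obtain ⟨r, g, hg⟩ := Module.Finite.exists_fin (R := S) (M := N)
  let N₀ := Submodule.span S₀ (Set.range g)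
  haveI : Module.Finite S₀ N₀ := Module.Finite.span_of_finite S₀ (Set.finite_range g)
  let M₀ := Algebra.EssFiniteType.submonoid R S
  have hM₀ : ∀ s ∈ M₀, s ∉ q := fun s hs hsq =>
    IsLocalRing.notMem_maximalIdeal.mpr (IsLocalization.map_units S (⟨s, hs⟩ : M₀)) hsq
  let f : N₀ →ₗ[S₀] N := N₀.subtype
  haveI : IsLocalizedModule q.primeCompl f := by
    refine ⟨fun s => ?_, fun y => ?_, fun {a b} hab => ⟨1, by rw [N₀.injective_subtype hab]⟩⟩
    · obtain ⟨u, hu⟩ := hunit s s.2
      refine ⟨⟨algebraMap S₀ (Module.End S₀ N) s,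
        (LinearMap.lsmul S N (↑u⁻¹ : S)).restrictScalars S₀, ?_, ?_⟩, rfl⟩
      · ext y
        show (s : S₀) • ((↑u⁻¹ : S) • y) = y
        rw [← IsScalarTower.algebraMap_smul S (s : S₀), ← mul_smul, ← hu, Units.mul_inv, one_smul]
      · ext y
        show (↑u⁻¹ : S) • ((s : S₀) • y) = y
        rw [← IsScalarTower.algebraMap_smul S (s : S₀) y, ← mul_smul, ← hu, Units.inv_mul, one_smul]
    · obtain ⟨c, hc⟩ := (Submodule.mem_span_range_iff_exists_fun S).mp (hg.symm ▸ Submodule.mem_top : y ∈ Submodule.span S (Set.range g))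
      obtain ⟨b, hb⟩ := IsLocalization.exist_integer_multiples M₀ Finset.univ c
      choose a ha using fun i => hb i (Finset.mem_univ i)
      refine ⟨⟨⟨∑ i, a i • g i, Submodule.sum_mem _ fun i _ => Submodule.smul_mem _ _ (Submodule.subset_span ⟨i, rfl⟩)⟩,
        ⟨b, hM₀ b b.2⟩⟩, ?_⟩
      show (b : S₀) • y = ∑ i, a i • g i
      rw [← hc, Finset.smul_sum]
      refine Finset.sum_congr rfl fun i _ => ?_
      rw [← smul_assoc]
      exact (congrArg (fun z : S => z • g i) (ha i).symm).trans (IsScalarTower.algebraMap_smul S (a i) (g i))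
  have hflat : FlatCA.FlatAt R q N₀ :=
    Module.Flat.of_linearEquiv ((IsLocalizedModule.iso q.primeCompl f).restrictScalars R)
  obtain ⟨⟨a, b⟩, hab⟩ := IsLocalization.surj M₀ σ
  have hreg : ∀ v : N₀, a • v ∈ pN (S := S₀) N₀ m → ∃ s ∉ q, s • v ∈ pN (S := S₀) N₀ m := by
    intro v hv
    have hmapS : ∀ w ∈ pN (S := S₀) N₀ m, (w : N) ∈ pN (S := S) N m := fun w hw => by
      rw [pN, ← Submodule.restrictScalars_mem R, Submodule.restrictScalars_map_smul_eq,
        Submodule.restrictScalars_top] at hw ⊢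
      refine Submodule.smul_induction_on (p := fun w : N₀ => (w : N) ∈ m • (⊤ : Submodule R N)) hw
        (fun c hc y _ => Submodule.smul_mem_smul hc Submodule.mem_top) fun y z hy hz => add_mem hy hz
    have h1 : σ • (algebraMap S₀ S b • (v : N)) ∈ pN (S := S) N m := by
      rw [← mul_smul, hab, IsScalarTower.algebraMap_smul]
      exact hmapS _ hv
    have h2 : algebraMap S₀ S b • (v : N) ∈ pN (S := S) N m := by
      refine mem_pN_of_toFiberMod_eq_zero N ((mem_nonZeroSMulDivisors_iff.mp h) _ ?_)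
      rw [← map_smul]
      exact CAlgA.FibreMod.toFiberMod_eq_zero_of_mem N m h1
    obtain ⟨u, hu⟩ := (IsLocalization.map_units S b).exists_left_inv
    have h3 : (v : N) ∈ m • (⊤ : Submodule R N) := by
      have h4 : (v : N) ∈ pN (S := S) N m := by
        rw [← one_smul S (v : N), ← hu, mul_smul]
        exact Submodule.smul_mem _ u h2
      rwa [pN, ← Submodule.restrictScalars_mem R, Submodule.restrictScalars_map_smul_eq,
        Submodule.restrictScalars_top] at h4
    have h4 : ∀ z ∈ m • (⊤ : Submodule R N), ∃ s ∉ q, ∃ w ∈ pN (S := S₀) N₀ m, s • z = f w := by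
      intro z hz
      refine Submodule.smul_induction_on hz (fun c hc y _ => ?_) fun y z hy hz => ?_
      · obtain ⟨⟨w, s⟩, hw⟩ := IsLocalizedModule.surj q.primeCompl f y
        refine ⟨s, s.2, c • w, ?_, ?_⟩
        · rw [← algebraMap_smul S₀ c w]
          exact Submodule.smul_mem_smul (Ideal.mem_map_of_mem _ hc) Submodule.mem_top
        · rw [LinearMap.map_smul_of_tower, ← hw]
          exact smul_comm (s : S₀) c y
      · obtain ⟨s, hs, w, hw, hsy⟩ := hy
        obtain ⟨t, ht, w', hw', htz⟩ := hz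
        refine ⟨s * t, q.primeCompl.mul_mem hs ht, t • w + s • w',
          add_mem (Submodule.smul_mem _ t hw) (Submodule.smul_mem _ s hw'), ?_⟩
        rw [map_add, map_smul, map_smul, ← hsy, ← htz, smul_add, ← mul_smul, ← mul_smul, mul_comm t s]
    obtain ⟨s, hs, w, hw, hsw⟩ := h4 _ h3
    exact ⟨s, hs, (N₀.injective_subtype (by rw [map_smul]; exact hsw) : s • v = w) ▸ hw⟩
  let φ := AlgebraTensorModule.rTensor R X f
  haveI : IsLocalizedModule q.primeCompl φ := inferInstance
  obtain ⟨⟨x₀, s⟩, hs⟩ := IsLocalizedModule.surj q.primeCompl φ x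
  have hsm : ∀ (c : S₀) (y : N ⊗[R] X), algebraMap S₀ S c • y = c • y := fun c y => by
    induction y with
    | zero => simp
    | tmul u v => rfl
    | add u v hu hv => simp only [smul_add, hu, hv]
  have h0 : φ (a • x₀) = 0 := by
    rw [map_smul, ← hs, ← hsm a]
    show algebraMap S₀ S a • ((s : S₀) • x) = 0
    rw [← hsm (s : S₀) x, ← hab, mul_comm σ, mul_smul, smul_comm σ, hx, smul_zero, smul_zero]
  obtain ⟨t, ht⟩ := (IsLocalizedModule.eq_zero_iff q.primeCompl φ).mp h0
  rw [Submonoid.smul_def, smul_comm] at ht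
  obtain ⟨t', ht', ht'x⟩ := exists_smul_eq_zero_of_fibre_regular m q hflat a hreg X _ ht
  have h1 : φ x₀ = 0 := (IsLocalizedModule.eq_zero_iff q.primeCompl φ).mpr
    ⟨⟨t', ht'⟩ * t, by rw [Submonoid.smul_def, Submonoid.coe_mul, mul_smul]; exact ht'x⟩
  rw [h1] at hs
  exact (hunit s s.2).smul_eq_zero.mp ((hsm (s : S₀) x).trans hs)

/-- An element dying in a flat extension has an annihilator generating the unit ideal there. -/
theorem map_ann_eq_top {S S' : Type u} [CommRing S] [CommRing S'] [Algebra S S'] [Module.Flat S S']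
    {Y : Type u} [AddCommGroup Y] [Module S Y] (y : Y) (hy : (1 : S') ⊗ₜ[S] y = 0) :
    Ideal.map (algebraMap S S') (LinearMap.ker (LinearMap.toSpanSingleton S Y y)) = ⊤ := by
  let J : Ideal S := LinearMap.ker (LinearMap.toSpanSingleton S Y y)
  let i : S ⧸ J →ₗ[S] Y := J.liftQ (LinearMap.toSpanSingleton S Y y) le_rfl
  have hi : Function.Injective i := LinearMap.ker_eq_bot.mp (Submodule.ker_liftQ_eq_bot _ _ _ le_rfl)
  have h1 : i.lTensor S' ((1 : S') ⊗ₜ Ideal.Quotient.mk J 1) = 0 := by
    show (1 : S') ⊗ₜ[S] ((1 : S) • y) = 0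
    rw [one_smul, hy]
  have h2 : (1 : S') ⊗ₜ[S] Ideal.Quotient.mk J 1 = 0 :=
    Module.Flat.lTensor_preserves_injective_linearMap (M := S') i hi (h1.trans (map_zero _).symm)
  have h3 := congrArg (TensorProduct.tensorQuotEquivQuotSMul S' J) h2
  rw [TensorProduct.tensorQuotEquivQuotSMul_tmul_mk, map_zero, one_smul, Submodule.Quotient.mk_eq_zero,
    Ideal.smul_top_eq_map, Submodule.restrictScalars_mem] at h3
  exact (Ideal.eq_top_iff_one _).mpr h3

theorem one_tmul_eq_zero {R S S' : Type u} [CommRing R] [CommRing S] [CommRing S'] [Algebra R S] [Algebra S S']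
    [Algebra R S'] [IsScalarTower R S S'] {N : Type u} [AddCommGroup N] [Module S N] [Module R N] [IsScalarTower R S N]
    {X : Type u} [AddCommGroup X] [Module R X] (x : N ⊗[R] X)
    (hx : ((TensorProduct.mk S S' N 1).restrictScalars R).rTensor X x = 0) : (1 : S') ⊗ₜ[S] x = 0 := by
  have h : ∀ y : N ⊗[R] X, AlgebraTensorModule.assoc R S S' S' N X
      (((TensorProduct.mk S S' N 1).restrictScalars R).rTensor X y) = (1 : S') ⊗ₜ[S] y := fun y => by
    induction y with
    | zero => simp
    | tmul u v => rfl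
    | add u v hu hv => simp only [map_add, TensorProduct.tmul_add, hu, hv]
  rw [← h, hx, map_zero]

/-- Global universal injectivity for a flat extension covering the relative assassin. -/
theorem univInj_of_covering {R S S' : Type u} [CommRing R] [CommRing S] [CommRing S'] [Algebra R S] [Algebra S S']
    [Algebra R S'] [IsScalarTower R S S'] [Algebra.FiniteType R S] [Module.Flat S S']
    {N : Type u} [AddCommGroup N] [Module S N] [Module R N] [IsScalarTower R S N] [Module.Finite S N] [Module.Flat R N]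
    (h : ∀ (p : Ideal R) (q : Ideal S) [p.IsPrime] [q.IsPrime] [q.LiesOver p],
      FlatCA.fiberIdeal p q ∈ associatedPrimes (p.Fiber S) (FlatCA.fiberMod p S N) →
      ∃ q' : Ideal S', q'.IsPrime ∧ q'.comap (algebraMap S S') = q) :
    FlatCA.UnivInj R ((TensorProduct.mk S S' N 1).restrictScalars R) := by
  intro X _ _
  rw [LinearMap.lTensor_inj_iff_rTensor_inj, injective_iff_map_eq_zero]
  intro x hx
  have htop := map_ann_eq_top x (one_tmul_eq_zero x hx)
  by_contra hne
  have hann : (Submodule.span S {x}).annihilator ≠ ⊤ := fun he => hne (by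
    simpa using WeakAss.mem_ann.mp (he.symm ▸ Submodule.mem_top : (1 : S) ∈ (Submodule.span S {x}).annihilator))
  obtain ⟨q, hq⟩ := Ideal.nonempty_minimalPrimes hann
  haveI : q.IsPrime := hq.1.1
  haveI : (q.comap (algebraMap R S)).IsPrime := Ideal.comap_isPrime _ _
  haveI : q.LiesOver (q.comap (algebraMap R S)) := ⟨rfl⟩
  obtain ⟨q', hq', hq'q⟩ := h (q.comap (algebraMap R S)) q
    ((mem_weakAss_tensor_iff (M := X) (q.comap (algebraMap R S)) q (flatAt_of_flat q)).mp ⟨x, hq⟩).2
  refine hq'.ne_top (top_le_iff.mp (htop ▸ Ideal.map_le_iff_le_comap.mpr fun a ha => ?_))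
  rw [hq'q]
  exact hq.1.2 (WeakAss.mem_ann.mpr ha)

attribute [local instance] Algebra.TensorProduct.rightAlgebra

/-- Local universal injectivity for a flat extension covering the assassin of the closed fibre. -/
theorem univInj_of_covering_local {R S S' : Type u} [CommRing R] [IsLocalRing R] [CommRing S] [IsLocalRing S]
    [CommRing S'] [Algebra R S] [IsLocalHom (algebraMap R S)] [Algebra S S'] [Algebra R S'] [IsScalarTower R S S']
    [Algebra.EssFiniteType R S] [Module.Flat S S']
    {N : Type u} [AddCommGroup N] [Module S N] [Module R N] [IsScalarTower R S N] [Module.Finite S N] [Module.Flat R N]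
    (h : ∀ q ∈ associatedPrimes S (FlatCA.fiberMod (IsLocalRing.maximalIdeal R) S N),
      ∃ q' : Ideal S', q'.IsPrime ∧ q'.comap (algebraMap S S') = q) :
    FlatCA.UnivInj R ((TensorProduct.mk S S' N 1).restrictScalars R) := by
  intro X _ _
  rw [LinearMap.lTensor_inj_iff_rTensor_inj, injective_iff_map_eq_zero]
  intro x hx
  have htop := map_ann_eq_top x (one_tmul_eq_zero x hx)
  haveI : IsNoetherianRing ((IsLocalRing.maximalIdeal R).Fiber S) :=
    Algebra.EssFiniteType.isNoetherianRing (IsLocalRing.maximalIdeal R).ResidueField _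
  haveI : Module.Finite ((IsLocalRing.maximalIdeal R).Fiber S) (FlatCA.fiberMod (IsLocalRing.maximalIdeal R) S N) :=
    inferInstanceAs (Module.Finite ((IsLocalRing.maximalIdeal R).Fiber S)
      (((IsLocalRing.maximalIdeal R).Fiber S) ⊗[S] N))
  let J : Ideal S := LinearMap.ker (LinearMap.toSpanSingleton S (N ⊗[R] X) x)
  obtain ⟨σ, hσJ, hσ⟩ : ∃ σ ∈ J, σ ∈ FlatCA.nzdFiber R S N := by
    by_contra hc
    push Not at hc
    obtain ⟨q, hq, hJq, hd⟩ := Ideal.exists_le_prime_disjoint J (FlatCA.nzdFiber R S N)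
      (Set.disjoint_left.mpr fun a ha ha' => hc a ha ha')
    obtain ⟨q₁, hq₁, hle⟩ := ((S1193.result (R := R) N).1 q).mp hd
    obtain ⟨q', hq', hq'q⟩ := h q₁ hq₁
    refine hq'.ne_top (top_le_iff.mp (htop ▸ Ideal.map_le_iff_le_comap.mpr ?_))
    rw [hq'q]
    exact hJq.trans hle
  exact eq_zero_of_fibre_regular_local σ hσ X x hσJ

end Groth.Agent.RGFlat

namespace Groth.Agent.RGFlat

theorem essFiniteType_of_essFP {R S : Type u} [CommRing R] [CommRing S] [Algebra R S]
    (hS : FlatCA.EssFinitePresentation R S) : Algebra.EssFiniteType R S := by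
  obtain ⟨S₀, _, _, _, _, M, hfp, hloc⟩ := hS
  haveI := hfp
  haveI := hloc
  haveI : Algebra.EssFiniteType R S₀ := inferInstance
  haveI : Algebra.EssFiniteType S₀ S := Algebra.EssFiniteType.of_isLocalization S M
  exact Algebra.EssFiniteType.comp R S₀ S

theorem univInj_smul_and_toLocalization {R S : Type u} [CommRing R] [IsLocalRing R] [CommRing S] [IsLocalRing S]
    [Algebra R S] [IsLocalHom (algebraMap R S)] [Algebra.EssFiniteType R S]
    {N : Type u} [AddCommGroup N] [Module S N] [Module R N] [IsScalarTower R S N] [Module.Finite S N] [Module.Flat R N] :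
    (∀ s ∈ FlatCA.nzdFiber R S N, FlatCA.UnivInj R ((LinearMap.lsmul S N s).restrictScalars R)) ∧
    FlatCA.UnivInj R ((LocalizedModule.mkLinearMap (FlatCA.nzdFiber R S N) N).restrictScalars R) := by
  refine ⟨fun s hs X _ _ => ?_, fun X _ _ => ?_⟩
  · rw [LinearMap.lTensor_inj_iff_rTensor_inj, injective_iff_map_eq_zero]
    intro x hx
    have h : ∀ y : N ⊗[R] X, ((LinearMap.lsmul S N s).restrictScalars R).rTensor X y = s • y := fun y => by
      induction y with
      | zero => simp
      | tmul u v => rfl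
      | add u v hu hv => simp only [map_add, smul_add, hu, hv]
    exact eq_zero_of_fibre_regular_local s hs X x ((h x).symm.trans hx)
  · rw [LinearMap.lTensor_inj_iff_rTensor_inj, injective_iff_map_eq_zero]
    intro x hx
    let φ := AlgebraTensorModule.rTensor R X (LocalizedModule.mkLinearMap (FlatCA.nzdFiber R S N) N)
    haveI : IsLocalizedModule (FlatCA.nzdFiber R S N) φ := inferInstance
    obtain ⟨⟨s, hs⟩, hsx⟩ := (IsLocalizedModule.eq_zero_iff (FlatCA.nzdFiber R S N) φ).mp hx
    exact eq_zero_of_fibre_regular_local s hs X x hsx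

end Groth.Agent.RGFlat
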