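import Groth.Agent.RGFlat.PureFlat
import Groth.Agent.RGFlat.UnivInj
import Groth.Agent.RGFlat.Independent
import Groth.Agent.HP.Etale
import Groth.Agent.S0582

/-!
A flat pure module is projective: pointwise over the henselization, and globally by smallest submodules.
-/

set_option autoImplicit false

universe u

open TensorProduct

attribute [local instance] Algebra.TensorProduct.rightAlgebra

namespace Groth.Agent.RGFlat.Impurity

/-- A module pure along the fibre at `p` is projective over the local ring at `p`. -/
theorem projective_atPrime_of_pure {A B : Type u} [CommRing A] [CommRing B] [Algebra A B] [Algebra.FiniteType A B]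
    (N : Type u) [AddCommGroup N] [Module B N] [Module A N] [IsScalarTower A B N] [Module.Finite B N]
    [Module.Flat A N] (p : Ideal A) [p.IsPrime] (hpure : FlatCA.IsPureAlong A B N p) :
    Module.Projective (Localization.AtPrime p) (Localization.AtPrime p ⊗[A] N) := by
  classical
  obtain ⟨ι, _, g, hproj, hcov⟩ := exists_projective_cover (B := B) N p fun q _ _ => RGFlat.flatAt_of_flat q
  haveI := Fintype.ofFinite ι
  let Ah := HP.Hp p
  let BH := HP.Sp p B
  let NH := BH ⊗[B] N
  haveI : IsScalarTower A B BH := IsScalarTower.of_algebraMap_eq fun a => by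
    show algebraMap A (HP.Hp p) a ⊗ₜ[A] (1 : B) = (1 : HP.Hp p) ⊗ₜ[A] algebraMap A B a
    rw [Algebra.algebraMap_eq_smul_one, Algebra.algebraMap_eq_smul_one, TensorProduct.smul_tmul]
  haveI : Algebra.IsPushout A Ah B BH := inferInstance
  let e : NH ≃ₗ[Ah] Ah ⊗[A] N := Algebra.IsPushout.cancelBaseChange A Ah B BH N
  haveI : Module.Flat Ah NH := Module.Flat.of_linearEquiv e
  let S' := Π i, Localization.Away (g i)
  haveI : Module.Flat BH S' := by
    haveI : Algebra.Etale BH S' := HP.etale_prod g
    exact inferInstance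
  have hinj := RGFlat.univInj_of_covering (R := Ah) (S := BH) (S' := S') (N := NH) fun t' Q _ _ _ hass => by
    obtain ⟨Q', _, hle, hQ'⟩ := exists_specialization_of_isPureAlong hpure t' Q hass
    obtain ⟨i, hi⟩ := hcov Q' hQ'
    have hd : Disjoint (Submonoid.powers (g i) : Set BH) Q :=
      (Ideal.disjoint_powers_iff_notMem _ (Ideal.IsPrime.isRadical ‹_›)).mpr fun h => hi (hle h)
    haveI := IsLocalization.isPrime_of_isPrime_disjoint (Submonoid.powers (g i)) (Localization.Away (g i)) Q ‹_› hd
    refine ⟨(Q.map (algebraMap BH (Localization.Away (g i)))).comap (Pi.evalRingHom _ i), Ideal.comap_isPrime _ _, ?_⟩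
    rw [Ideal.comap_comap]
    exact IsLocalization.under_map_of_isPrime_disjoint (Submonoid.powers (g i)) (Localization.Away (g i)) ‹_› hd
  haveI : Module.Projective Ah (S' ⊗[BH] NH) := by
    haveI : ∀ i, Module.Projective Ah (Localization.Away (g i) ⊗[BH] NH) := fun i => by
      haveI := hproj i
      exact Module.Projective.of_equiv (((isLocalizedModule_iff_isBaseChange (Submonoid.powers (g i)) (Localization.Away (g i))
        (LocalizedModule.mkLinearMap (Submonoid.powers (g i)) NH)).mp inferInstance).equiv.restrictScalars Ah).symm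
    haveI : Module.Projective Ah (Π i, Localization.Away (g i) ⊗[BH] NH) :=
      Module.Projective.of_equiv (DFinsupp.linearEquivFunOnFintype (R := Ah) (M := fun i => Localization.Away (g i) ⊗[BH] NH))
    exact Module.Projective.of_equiv (((TensorProduct.piLeft (R := BH) (M := fun i => Localization.Away (g i))
      (N := NH)).restrictScalars Ah).symm)
  have hML : CAlg.IsMittagLeffler Ah NH :=
    MLMod.isMittagLeffler_of_universallyInjective ((TensorProduct.mk BH S' NH 1).restrictScalars Ah)
      (fun X _ _ => (LinearMap.lTensor_inj_iff_rTensor_inj _ _).mp (hinj X))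
      (ProjDesc.isMittagLeffler_of_projective Ah _)
  haveI : Module.Projective Ah NH := ProjDesc.projective_of_countable Ah NH hML (HP.countablyGenerated_of_finite (C := BH))
  haveI : Module.Projective Ah (Ah ⊗[A] N) := Module.Projective.of_equiv e
  let Ap := Localization.AtPrime p
  haveI := liesOver_max A p
  have hu : ∀ a : p.primeCompl, IsUnit (algebraMap A Ah a) := fun a => IsLocalRing.notMem_maximalIdeal.mp fun h =>
    a.2 (((IsLocalRing.maximalIdeal Ah).over_def p).ge h)
  letI : Algebra Ap Ah := (IsLocalization.lift (M := p.primeCompl) hu).toAlgebra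
  haveI : IsScalarTower A Ap Ah := IsScalarTower.of_algebraMap_eq fun a => (IsLocalization.lift_eq _ a).symm
  haveI : Module.Flat Ap Ah := (Module.flat_iff_of_isLocalization Ap p.primeCompl Ah).mpr inferInstance
  haveI : IsLocalHom (algebraMap Ap Ah) := ⟨fun a ha => by
    obtain ⟨b, c, rfl⟩ := IsLocalization.exists_mk'_eq p.primeCompl a
    rw [IsLocalization.AtPrime.isUnit_mk'_iff Ap p b c]
    intro hb
    have h2 : algebraMap A Ah b ∈ IsLocalRing.maximalIdeal Ah := ((IsLocalRing.maximalIdeal Ah).over_def p).le hb
    rw [IsScalarTower.algebraMap_apply A Ap Ah, ← IsLocalization.mk'_spec Ap b c, map_mul] at h2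
    exact h2 (ha.mul ((IsLocalization.map_units Ap c).map _))⟩
  haveI : Module.FaithfullyFlat Ap Ah := Module.FaithfullyFlat.of_flat_of_isLocalHom
  haveI : Module.Projective Ah (Ah ⊗[Ap] (Ap ⊗[A] N)) :=
    Module.Projective.of_equiv (AlgebraTensorModule.cancelBaseChange A Ap Ah Ah N).symm
  exact ProjDesc.projective_of_baseChange Ap Ah _

/-- A finitely presented flat module over a finitely presented algebra which is projective at every prime of
the base is projective. -/
theorem projective_of_atPrime {A B : Type u} [CommRing A] [CommRing B] [Algebra A B] [Algebra.FinitePresentation A B]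
    (N : Type u) [AddCommGroup N] [Module B N] [Module A N] [IsScalarTower A B N] [Module.FinitePresentation B N]
    [Module.Flat A N]
    (hloc : ∀ (p : Ideal A) [p.IsPrime], Module.Projective (Localization.AtPrime p) (Localization.AtPrime p ⊗[A] N)) :
    Module.Projective A N := by
  classical
  refine ProjDesc.projective_of_countable A N (MLMod.isMittagLeffler_of_exists_smallest fun n x => ?_)
    (HP.countablyGenerated_of_finite (C := B))
  let F := Fin n → A
  have key : ∀ (p : PrimeSpectrum A), ∃ a : A, a ∉ p.asIdeal ∧ ∃ (r : ℕ) (f : Fin r → F) (y : Fin r → N),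
      a • x = ∑ j, f j ⊗ₜ[A] y j ∧
      ∀ (F'' : Submodule A F), x ∈ LinearMap.range (F''.subtype.rTensor N) → ∀ j, ∃ m : ℕ, a ^ m • f j ∈ F'' := by
    intro P
    let p := P.asIdeal
    let Ap := Localization.AtPrime p
    haveI := hloc p
    haveI : Module.Free Ap (Ap ⊗[A] N) := S0582.result Ap _
    let η : N →ₗ[A] Ap ⊗[A] N := TensorProduct.mk A Ap N 1
    haveI hη : IsLocalizedModule p.primeCompl η :=
      (isLocalizedModule_iff_isBaseChange p.primeCompl Ap η).mpr (TensorProduct.isBaseChange A N Ap)
    let b := Module.Free.chooseBasis Ap (Ap ⊗[A] N)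
    obtain ⟨s, hs⟩ := TensorProduct.exists_finset x
    let J : Finset (Module.Free.ChooseBasisIndex Ap (Ap ⊗[A] N)) := s.biUnion fun v => (b.repr (η v.2)).support
    let r := Fintype.card J
    let idx : Fin r → Module.Free.ChooseBasisIndex Ap (Ap ⊗[A] N) := fun j => ((Fintype.equivFin J).symm j).1
    choose num hnum using fun j => IsLocalizedModule.surj p.primeCompl η (b (idx j))
    let y : Fin r → N := fun j => (num j).1
    let den : Fin r → A := fun j => ((num j).2 : p.primeCompl)
    have hy : ∀ j, η (y j) = algebraMap A Ap (den j) • b (idx j) := fun j => by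
      rw [IsScalarTower.algebraMap_smul]
      exact (hnum j).symm
    have hden : ∀ j, IsUnit (algebraMap A Ap (den j)) := fun j => IsLocalization.map_units Ap (num j).2
    -- coordinates of the tensor factors
    have hco : ∀ w : N, (b.repr (η w)).support ⊆ J → ∃ u ∉ p, ∃ c : Fin r → A, u • w = ∑ j, c j • y j := by
      intro w hw
      let c0 : Fin r → Ap := fun j => b.repr (η w) (idx j) * ((hden j).unit⁻¹ : Apˣ)
      obtain ⟨⟨e, he⟩, hC⟩ := IsLocalization.exist_integer_multiples_of_finite p.primeCompl c0
      choose C hC using hC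
      have h1 : η w = ∑ j, c0 j • η (y j) := by
        conv_lhs => rw [← b.linearCombination_repr (η w), Finsupp.linearCombination_apply, Finsupp.sum,
          Finset.sum_subset hw (fun i _ hi => by rw [Finsupp.notMem_support_iff.mp hi, zero_smul])]
        rw [← Finset.sum_coe_sort J, ← Equiv.sum_comp (Fintype.equivFin J).symm]
        refine Finset.sum_congr rfl fun j _ => ?_
        simp only [c0, hy j, smul_smul, mul_assoc, IsUnit.val_inv_mul, mul_one]
        rfl
      have h2 : η (e • w) = η (∑ j, C j • y j) := by
        rw [map_smul, h1, Finset.smul_sum, map_sum]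
        refine Finset.sum_congr rfl fun j _ => ?_
        rw [map_smul, ← smul_assoc, ← IsScalarTower.algebraMap_smul Ap (C j) (η (y j)), hC j]
      obtain ⟨u, hu⟩ := IsLocalizedModule.exists_of_eq (S := p.primeCompl) h2
      refine ⟨(u : A) * e, p.primeCompl.mul_mem u.2 he, fun j => (u : A) * C j, ?_⟩
      rw [mul_smul]
      refine hu.trans ?_
      simp only [Submonoid.smul_def, Finset.smul_sum, smul_smul]
    choose u hu c hc using fun v : s => hco v.1.2 (Finset.subset_biUnion_of_mem (fun v => (b.repr (η v.2)).support) v.2)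
    let U : A := ∏ v : s, u v
    have hU : U ∉ p := fun h => by
      obtain ⟨v, -, hv⟩ := (inferInstance : p.IsPrime).prod_mem_iff.mp h
      exact hu v hv
    let f : Fin r → F := fun j => ∑ v : s, ((∏ w ∈ Finset.univ.erase v, u w) * c v j) • v.1.1
    have hUx : U • x = ∑ j, f j ⊗ₜ[A] y j := by
      rw [hs, ← Finset.sum_attach]
      simp only [f, Finset.smul_sum, TensorProduct.sum_tmul]
      rw [Finset.sum_comm, Finset.univ_eq_attach]
      refine Finset.sum_congr rfl fun v _ => ?_
      have hUv : U = (∏ w ∈ Finset.univ.erase v, u w) * u v := (Finset.prod_erase_mul _ u (Finset.mem_univ v)).symm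
      rw [hUv, mul_smul, ← TensorProduct.tmul_smul (u v), hc v, TensorProduct.tmul_sum, Finset.smul_sum]
      refine Finset.sum_congr rfl fun j _ => ?_
      rw [TensorProduct.tmul_smul, ← TensorProduct.smul_tmul', smul_smul]
      simp only [Finset.univ_eq_attach]
    -- independence at and below `p`
    have hind : ∀ (t : Ideal A) [t.IsPrime], t ≤ p →
        LinearIndependent t.ResidueField (fun j => (1 : t.ResidueField) ⊗ₜ[A] y j) := by
      intro t _ htp
      refine Fintype.linearIndependent_iff.mpr fun l hl i => ?_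
      let ψ : N →ₗ[A] Ap := ((b.coord (idx i)).restrictScalars A).comp η
      have hψ : ∀ j, ψ (y j) = if j = i then algebraMap A Ap (den j) else 0 := fun j => by
        have hidx : idx j = idx i ↔ j = i :=
          (Subtype.val_injective.comp (Fintype.equivFin J).symm.injective).eq_iff
        show b.coord (idx i) (η (y j)) = _
        rw [hy, map_smul, Module.Basis.coord_apply, Module.Basis.repr_self, Finsupp.single_apply, smul_eq_mul, mul_ite,
          mul_one, mul_zero]
        simp only [hidx]
      let ι₀ : Ap →+* t.ResidueField := IsLocalization.lift (M := p.primeCompl) (g := algebraMap A t.ResidueField)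
        fun a => isUnit_iff_ne_zero.mpr fun h0 => a.2 (htp (Ideal.algebraMap_residueField_eq_zero.mp h0))
      let ι₁ : Ap →ₗ[A] t.ResidueField := ({ ι₀ with commutes' := fun a => IsLocalization.lift_eq _ a } : Ap →ₐ[A] t.ResidueField).toLinearMap
      let Φ : t.ResidueField ⊗[A] N →ₗ[A] t.ResidueField :=
        TensorProduct.lift ((LinearMap.mul A t.ResidueField).compl₂ (ι₁.comp ψ))
      have h3 := congrArg Φ hl
      simp only [map_sum, map_zero, TensorProduct.smul_tmul', smul_eq_mul, mul_one, Φ, TensorProduct.lift.tmul,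
        LinearMap.compl₂_apply, LinearMap.comp_apply, LinearMap.mul_apply', hψ] at h3
      rw [Finset.sum_eq_single i (fun j _ hji => by rw [if_neg hji, map_zero, mul_zero])
        (fun h => absurd (Finset.mem_univ i) h), if_pos rfl] at h3
      refine (mul_eq_zero.mp h3).resolve_right fun h0 => ?_
      exact (num i).2.2 (htp (Ideal.algebraMap_residueField_eq_zero.mp ((IsLocalization.lift_eq _ _).symm.trans h0)))
    obtain ⟨a, ha, hnhd⟩ := Indep.exists_nhd (B := B) y p hind
    refine ⟨a * U, p.primeCompl.mul_mem ha hU, r, fun j => a • f j, y, ?_, fun F'' hF'' j => ?_⟩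
    · rw [mul_smul, hUx, Finset.smul_sum]
      exact Finset.sum_congr rfl fun j _ => rfl
    · have h0 : ∑ j, F''.mkQ (f j) ⊗ₜ[A] y j = 0 := by
        have h1 : F''.mkQ.rTensor N x = 0 :=
          ((rTensor_exact N (LinearMap.exact_subtype_mkQ F'') F''.mkQ_surjective) x).mpr hF''
        have h2 := congrArg (fun z => F''.mkQ.rTensor N z) hUx
        simp only [map_smul, h1, smul_zero, map_sum, LinearMap.rTensor_tmul] at h2
        exact h2.symm
      have hrad : a * U ∈ ((⊥ : Submodule A (F ⧸ F'')).colon {F''.mkQ (f j)} : Ideal A).radical := by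
        rw [Ideal.radical_eq_sInf, Submodule.mem_sInf]
        rintro (t : Ideal A) ⟨hle, ht⟩
        by_contra hat
        haveI : t.IsPrime := ht
        obtain ⟨σ, hσ, hσ0⟩ := Indep.exists_smul_eq_zero t y (hnhd t fun h => hat (t.mul_mem_right _ h))
          (fun j => F''.mkQ (f j)) h0
        exact hσ (hle (Submodule.mem_colon_singleton.mpr ((Submodule.mem_bot A).mpr (hσ0 j))))
      obtain ⟨m, hm⟩ := hrad
      rw [Submodule.mem_colon_singleton, Submodule.mem_bot, ← map_smul, Submodule.mkQ_apply,
        Submodule.Quotient.mk_eq_zero] at hm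
      exact ⟨m, by rw [smul_comm]; exact F''.smul_mem a hm⟩
  choose a ha r f y hax hmin using key
  obtain ⟨t, ht⟩ := isCompact_univ.elim_finite_subcover (fun P : PrimeSpectrum A => (PrimeSpectrum.basicOpen (a P) : Set (PrimeSpectrum A)))
    (fun _ => PrimeSpectrum.isOpen_basicOpen) (fun Q _ => Set.mem_iUnion.mpr ⟨Q, ha Q⟩)
  let G : PrimeSpectrum A → Submodule A F := fun P => Submodule.span A (Set.range (f P))
  have hrange : ∀ P, a P • x ∈ LinearMap.range ((G P).subtype.rTensor N) := fun P => by
    rw [hax P]
    exact Submodule.sum_mem _ fun j _ => ⟨⟨f P j, Submodule.subset_span ⟨j, rfl⟩⟩ ⊗ₜ y P j, rfl⟩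
  let V : PrimeSpectrum A → Submodule A F := fun P => LinearMap.ker ((G P).mkQ.comp (LinearMap.lsmul A F (a P)))
  have hV : ∀ P, x ∈ LinearMap.range ((V P).subtype.rTensor N) := fun P => by
    refine MLMod.mem_range_of_rTensor_eq_zero _ x ?_
    have hl : (LinearMap.lsmul A F (a P)).rTensor N x = a P • x := by
      rw [show LinearMap.lsmul A F (a P) = a P • LinearMap.id from rfl, LinearMap.rTensor_smul, LinearMap.rTensor_id]
      rfl
    rw [LinearMap.rTensor_comp_apply, hl]
    exact ((rTensor_exact N (LinearMap.exact_subtype_mkQ (G P)) (G P).mkQ_surjective) _).mpr (hrange P)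
  choose m hm using fun (P P' : PrimeSpectrum A) j => hmin P (V P') (hV P') j
  let M := t.sup fun P => t.sup fun P' => Finset.univ.sup fun j => m P P' j
  let G' : Submodule A F := ⨆ P ∈ t, Submodule.span A (Set.range fun j => a P ^ M • f P j)
  have hspan : ∀ (k : PrimeSpectrum A → ℕ), Ideal.span ((fun P => a P ^ k P) '' (t : Set (PrimeSpectrum A))) = ⊤ := by
    intro k
    by_contra hne
    obtain ⟨Q, hQ, hle⟩ := Ideal.exists_le_maximal _ hne
    obtain ⟨P, hP, hPQ⟩ := Set.mem_iUnion₂.mp (ht (Set.mem_univ (⟨Q, hQ.isPrime⟩ : PrimeSpectrum A)))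
    exact hPQ (hQ.isPrime.mem_of_pow_mem (k P) (hle (Ideal.subset_span ⟨P, hP, rfl⟩)))
  refine ⟨G', ?_, fun F'' hF'' => iSup₂_le fun P hP => Submodule.span_le.mpr ?_⟩
  · have h := hspan fun _ => M + 1
    let R := LinearMap.range (G'.subtype.rTensor N)
    have hle : Ideal.span ((fun P => a P ^ (M + 1)) '' (t : Set (PrimeSpectrum A))) ≤ R.colon {x} := by
      rw [Ideal.span_le]
      rintro _ ⟨P, hP, rfl⟩
      rw [SetLike.mem_coe, Submodule.mem_colon_singleton]
      show a P ^ (M + 1) • x ∈ R
      rw [pow_succ, mul_smul, hax P, Finset.smul_sum]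
      exact Submodule.sum_mem _ fun j _ => ⟨⟨a P ^ M • f P j,
        (le_biSup (fun P => Submodule.span A (Set.range fun j => a P ^ M • f P j)) hP) (Submodule.subset_span ⟨j, rfl⟩)⟩ ⊗ₜ y P j,
        (TensorProduct.smul_tmul' _ _ _).symm⟩
    have h1 : (1 : A) ∈ R.colon {x} := hle (h ▸ Submodule.mem_top)
    rw [Submodule.mem_colon_singleton, one_smul] at h1
    exact h1
  · rintro _ ⟨j, rfl⟩
    choose m' hm' using fun P' j' => hmin P' F'' hF'' j'
    let K : PrimeSpectrum A → ℕ := fun P' => (Finset.univ.sup fun j' => m' P' j') + 1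
    have hle : Ideal.span ((fun P' => a P' ^ K P') '' (t : Set (PrimeSpectrum A))) ≤ F''.colon {a P ^ M • f P j} := by
      rw [Ideal.span_le]
      rintro _ ⟨P', hP', rfl⟩
      rw [SetLike.mem_coe, Submodule.mem_colon_singleton]
      show a P' ^ ((Finset.univ.sup fun j' => m' P' j') + 1) • a P ^ M • f P j ∈ F''
      rw [pow_succ, mul_smul]
      have hV' : a P ^ M • f P j ∈ V P' := by
        have hMm : m P P' j ≤ M := le_trans (Finset.le_sup (f := fun j => m P P' j) (Finset.mem_univ j))
          (le_trans (Finset.le_sup (f := fun P' => Finset.univ.sup fun j => m P P' j) hP')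
            (Finset.le_sup (f := fun P => t.sup fun P' => Finset.univ.sup fun j => m P P' j) hP))
        rw [← Nat.sub_add_cancel hMm, pow_add, mul_smul]
        exact Submodule.smul_mem _ _ (hm P P' j)
      have hG : a P' • a P ^ M • f P j ∈ G P' := (Submodule.Quotient.mk_eq_zero _).mp hV'
      have hGle : G P' ≤ F''.comap (LinearMap.lsmul A F (a P' ^ (Finset.univ.sup fun j' => m' P' j'))) := by
        refine Submodule.span_le.mpr ?_
        rintro _ ⟨j', rfl⟩
        show a P' ^ (Finset.univ.sup fun j' => m' P' j') • f P' j' ∈ F''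
        rw [← Nat.sub_add_cancel (Finset.le_sup (f := fun j' => m' P' j') (Finset.mem_univ j')), pow_add, mul_smul]
        exact Submodule.smul_mem _ _ (hm' P' j')
      exact hGle hG
    have h1 : (1 : A) ∈ F''.colon {a P ^ M • f P j} := hle (hspan K ▸ Submodule.mem_top)
    rw [Submodule.mem_colon_singleton, one_smul] at h1
    exact h1

end Groth.Agent.RGFlat.Impurity
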