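import Groth.Agent.RGFlat.Spread
import Mathlib.RingTheory.Localization.FractionRing
import Mathlib.RingTheory.Flat.TorsionFree

/-!
Finite flat modules are finitely presented near a point as soon as they are so generically.
-/

set_option autoImplicit false

universe u

open TensorProduct

namespace Groth.Agent.RGFlat

variable {R S : Type u} [CommRing R] [CommRing S] [Algebra R S] {M : Type u} [AddCommGroup M]
  [Module S M] [Module R M] [IsScalarTower R S M]

/-- A surjection whose kernel dies at `q` is an isomorphism at `q`. -/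
noncomputable def localizedEquiv {M₀ : Type u} [AddCommGroup M₀] [Module S M₀] (π : M₀ →ₗ[S] M)
    (hπ : Function.Surjective π) (q : Ideal S) [q.IsPrime] (h : ∀ x, π x = 0 → ∃ s : S, s ∉ q ∧ s • x = 0) :
    LocalizedModule q.primeCompl M₀ ≃ₗ[S] LocalizedModule q.primeCompl M :=
  LinearEquiv.ofBijective ((LocalizedModule.map q.primeCompl π).restrictScalars S) (by
    refine ⟨?_, LocalizedModule.map_surjective _ π hπ⟩
    rw [← LinearMap.ker_eq_bot, eq_bot_iff]
    intro x hx
    induction x using LocalizedModule.induction_on with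
    | h m s =>
      rw [LinearMap.mem_ker, LinearMap.restrictScalars_apply, LocalizedModule.map_mk, mk_eq_zero_iff] at hx
      obtain ⟨t, ht⟩ := hx
      rw [← map_smul] at ht
      obtain ⟨a, ha, hax⟩ := h _ ht
      rw [Submodule.mem_bot, mk_eq_zero_iff]
      exact ⟨⟨a, ha⟩ * t, by show (a * (t : S)) • m = 0; rw [mul_smul]; exact hax⟩)

theorem flatAt_iff_of_kernel {M₀ : Type u} [AddCommGroup M₀] [Module S M₀] [Module R M₀] [IsScalarTower R S M₀]
    (π : M₀ →ₗ[S] M) (hπ : Function.Surjective π) (q : Ideal S) [q.IsPrime]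
    (h : ∀ x, π x = 0 → ∃ s : S, s ∉ q ∧ s • x = 0) : FlatCA.FlatAt R q M₀ ↔ FlatCA.FlatAt R q M := by
  let e := (localizedEquiv π hπ q h).restrictScalars R
  exact ⟨fun hf => by haveI : Module.Flat R (LocalizedModule q.primeCompl M₀) := hf; exact Module.Flat.of_linearEquiv e.symm,
    fun hf => by haveI : Module.Flat R (LocalizedModule q.primeCompl M) := hf; exact Module.Flat.of_linearEquiv e⟩

/-- The hypothesis that the kernel of every finitely presented cover is finitely generated generically. -/
def GenericFG (R : Type u) (S : Type u) [CommRing R] [CommRing S] [Algebra R S] (M : Type u) [AddCommGroup M]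
    [Module S M] : Prop :=
  ∀ (r : ℕ) (K : Submodule S (Fin r → S)) (π : ((Fin r → S) ⧸ K) →ₗ[S] M), K.FG → Function.Surjective π →
    ∃ G : Finset ((Fin r → S) ⧸ K), (∀ t ∈ G, π t = 0) ∧
      ∀ g : S, (∀ t ∈ G, g • t = 0) → ∀ x, π x = 0 → ∀ (Q : Ideal S) [Q.IsPrime], g ∉ Q →
        FlatCA.FlatAt R Q ((Fin r → S) ⧸ K) → ∃ s : S, s ∉ Q ∧ s • x = 0

/-- Near a point of flatness the module is finitely presented and flat. -/
theorem exists_away [Algebra.FinitePresentation R S] [Module.Finite S M] (hM : GenericFG R S M)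
    (q : Ideal S) [q.IsPrime] (hq : FlatCA.FlatAt R q M) :
    ∃ g : S, g ∉ q ∧ Module.FinitePresentation (Localization.Away g) (LocalizedModule (Submonoid.powers g) M) ∧
      ∀ (Q : Ideal S) [Q.IsPrime], g ∉ Q → FlatCA.FlatAt R Q M := by
  classical
  haveI : IsScalarTower R (Localization.AtPrime q) (LocalizedModule q.primeCompl M) :=
    IsScalarTower.of_algebraMap_smul fun r x => by
      rw [IsScalarTower.algebraMap_apply R S (Localization.AtPrime q), IsScalarTower.algebraMap_smul,
        IsScalarTower.algebraMap_smul]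
  haveI : Module.Flat R (LocalizedModule q.primeCompl M) := hq
  haveI : Module.Finite (Localization.AtPrime q) (LocalizedModule q.primeCompl M) :=
    Module.Finite.of_isLocalizedModule q.primeCompl (LocalizedModule.mkLinearMap q.primeCompl M)
  haveI := fp_of_flat (R := R) q (Localization.AtPrime q) (LocalizedModule q.primeCompl M)
  obtain ⟨r, K, π, hK, hπ, hker⟩ := exists_model (M := M) q
  haveI : Module.FinitePresentation S ((Fin r → S) ⧸ K) :=
    Module.finitePresentation_of_surjective K.mkQ K.mkQ_surjective (by rw [Submodule.ker_mkQ]; exact hK)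
  have hq₀ : FlatCA.FlatAt R q ((Fin r → S) ⧸ K) := (flatAt_iff_of_kernel π hπ q hker).mpr hq
  obtain ⟨G, hG, hgen⟩ := hM r K π hK hπ
  have hopen := FlatOpen.isOpen_flatLocus R S ((Fin r → S) ⧸ K)
  obtain ⟨-, ⟨g₀, rfl⟩, hqg₀, hsub⟩ :=
    PrimeSpectrum.isTopologicalBasis_basic_opens.exists_subset_of_mem_open
      (show (⟨q, inferInstance⟩ : PrimeSpectrum S) ∈ _ from hq₀) hopen
  have hkill : ∀ t ∈ G, ∃ s : S, s ∉ q ∧ s • t = 0 := fun t ht => hker t (hG t ht)
  choose! s hs hst using hkill
  let g₁ := ∏ t ∈ G, s t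
  have hg₁ : g₁ ∉ q := fun h => by
    obtain ⟨t, ht, h'⟩ := ((inferInstance : q.IsPrime).prod_mem_iff).mp h
    exact hs t ht h'
  have hg₁G : ∀ t ∈ G, g₁ • t = 0 := fun t ht => by
    rw [show g₁ = (∏ x ∈ G.erase t, s x) * s t from (Finset.prod_erase_mul _ _ ht).symm, mul_smul, hst t ht, smul_zero]
  refine ⟨g₀ * g₁, fun h => ((inferInstance : q.IsPrime).mem_or_mem h).elim hqg₀ hg₁, ?_⟩
  have hQ : ∀ (Q : Ideal S) [Q.IsPrime], g₀ * g₁ ∉ Q →
      FlatCA.FlatAt R Q ((Fin r → S) ⧸ K) ∧ ∀ x, π x = 0 → ∃ u : S, u ∉ Q ∧ u • x = 0 := by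
    intro Q hQp hgQ
    have hf : FlatCA.FlatAt R Q ((Fin r → S) ⧸ K) :=
      hsub (show (⟨Q, hQp⟩ : PrimeSpectrum S) ∈ PrimeSpectrum.basicOpen g₀ from fun h => hgQ (Q.mul_mem_right _ h))
    exact ⟨hf, fun x hx => hgen g₁ hg₁G x hx Q (fun h => hgQ (Q.mul_mem_left _ h)) hf⟩
  refine ⟨fp_away π hπ (g₀ * g₁) fun x hx => exists_pow_smul_eq_zero _ x fun Q hQp hgQ => ?_,
    fun Q _ hgQ => (flatAt_iff_of_kernel π hπ Q (hQ Q hgQ).2).mp (hQ Q hgQ).1⟩
  haveI := hQp
  exact (hQ Q hgQ).2 x hx

/-- A finite module flat everywhere is finitely presented if it is so generically. -/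
theorem fp_of_genericFG [Algebra.FinitePresentation R S] [Module.Finite S M] (hM : GenericFG R S M)
    (h : ∀ (Q : Ideal S) [Q.IsPrime], FlatCA.FlatAt R Q M) : Module.FinitePresentation S M := by
  let s : Set S := {g | Module.FinitePresentation (Localization.Away g) (LocalizedModule (Submonoid.powers g) M)}
  refine Module.FinitePresentation.of_localizationSpan s ?_ fun g => g.2
  by_contra hne
  obtain ⟨m, hm, hsm⟩ := Ideal.exists_le_maximal _ hne
  haveI := hm.isPrime
  obtain ⟨g, hg, hfp, -⟩ := exists_away hM m (h m)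
  exact hg (hsm (Ideal.subset_span hfp))

theorem isOpen_of_genericFG [Algebra.FinitePresentation R S] [Module.Finite S M] (hM : GenericFG R S M) :
    IsOpen {q : PrimeSpectrum S | FlatCA.FlatAt R q.asIdeal M} := by
  refine isOpen_iff_forall_mem_open.mpr fun q hq => ?_
  obtain ⟨g, hg, -, hflat⟩ := exists_away hM q.asIdeal hq
  exact ⟨PrimeSpectrum.basicOpen g, fun Q hQ => hflat Q.asIdeal hQ, (PrimeSpectrum.basicOpen g).isOpen, hg⟩

/-- Over a domain the condition always holds. -/
theorem genericFG_of_isDomain [IsDomain R] [Algebra.FiniteType R S] : GenericFG R S M := by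
  intro r K π hK hπ
  classical
  let Fr := FractionRing R
  let Sg' := Algebra.algebraMapSubmonoid S (nonZeroDivisors R)
  let S' := Localization Sg'
  haveI : Algebra.IsPushout R Fr S S' :=
    Algebra.IsPushout.symm (Algebra.isPushout_of_isLocalization (nonZeroDivisors R) Fr S S')
  haveI : IsNoetherianRing S' := by
    haveI : IsNoetherianRing (Fr ⊗[R] S) := Algebra.FiniteType.isNoetherianRing Fr _
    exact isNoetherianRing_of_ringEquiv _ (Algebra.IsPushout.equiv R Fr S S').toRingEquiv
  let M₀ := (Fin r → S) ⧸ K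
  let f := LocalizedModule.mkLinearMap Sg' M₀
  haveI : Module.Finite S' (LocalizedModule Sg' M₀) := Module.Finite.of_isLocalizedModule Sg' f
  obtain ⟨G', hG'⟩ := IsNoetherian.noetherian ((LinearMap.ker π).localized' S' Sg' f)
  have hex : ∀ v ∈ G', ∃ (m : M₀) (σ : Sg'), π m = 0 ∧ IsLocalizedModule.mk' f m σ = v := fun v hv => by
    obtain ⟨m, hm, σ, h⟩ := hG'.le (Submodule.subset_span hv)
    exact ⟨m, σ, hm, h⟩
  choose! m σ hm hmσ using hex
  refine ⟨G'.image m, fun t ht => ?_, fun g hg x hx Q _ hgQ hflat => ?_⟩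
  · obtain ⟨v, hv, rfl⟩ := Finset.mem_image.mp ht
    exact hm v hv
  · have h1 : f x ∈ (LinearMap.ker π).localized' S' Sg' f := ⟨x, hx, 1, IsLocalizedModule.mk'_one _ _ _⟩
    rw [← hG'] at h1
    have h2 : g • f x = 0 := by
      clear hflat
      generalize f x = y at h1
      induction h1 using Submodule.span_induction with
      | mem v hv => rw [← hmσ v hv, ← IsLocalizedModule.mk'_smul, hg _ (Finset.mem_image_of_mem m hv),
          IsLocalizedModule.mk'_zero]
      | zero => simp
      | add a b _ _ ha hb => rw [smul_add, ha, hb, add_zero]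
      | smul a b _ hb => rw [smul_comm, hb, smul_zero]
    rw [← map_smul, IsLocalizedModule.eq_zero_iff Sg'] at h2
    obtain ⟨⟨_, ρ, hρ, rfl⟩, hρx⟩ := h2
    haveI : Module.Flat R (LocalizedModule Q.primeCompl M₀) := hflat
    have h3 : ρ • LocalizedModule.mkLinearMap Q.primeCompl M₀ (g • x) = 0 := by
      rw [← LinearMap.map_smul_of_tower, ← IsScalarTower.algebraMap_smul S ρ (g • x)]
      exact (congrArg _ hρx).trans (map_zero _)
    have h4 : LocalizedModule.mkLinearMap Q.primeCompl M₀ (g • x) = 0 :=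
      (Module.Flat.isSMulRegular_of_nonZeroDivisors hρ) (show ρ • _ = ρ • (0 : LocalizedModule Q.primeCompl M₀) by rw [h3, smul_zero])
    rw [IsLocalizedModule.eq_zero_iff Q.primeCompl] at h4
    obtain ⟨t, ht⟩ := h4
    refine ⟨(t : S) * g, fun h => ((inferInstance : Q.IsPrime).mem_or_mem h).elim t.2 hgQ, ?_⟩
    rw [mul_smul]
    exact ht

/-- Flatness at a prime does not depend on the finite type algebra. -/
theorem flatAt_comap_iff {P : Type u} [CommRing P] [Algebra R P] [Algebra P S] [IsScalarTower R P S]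
    (hs : Function.Surjective (algebraMap P S)) [Module P M] [IsScalarTower P S M] [IsScalarTower R P M]
    (q : Ideal S) [q.IsPrime] :
    FlatCA.FlatAt R (q.comap (algebraMap P S)) M ↔ FlatCA.FlatAt R q M := by
  let T := (q.comap (algebraMap P S)).primeCompl
  have hT : q.primeCompl = Algebra.algebraMapSubmonoid S T := by
    ext x
    constructor
    · intro hx
      obtain ⟨y, rfl⟩ := hs x
      exact ⟨y, hx, rfl⟩
    · rintro ⟨y, hy, rfl⟩
      exact hy
  haveI := FlatOpen.isLocalizedModule_restrict T q.primeCompl hT (LocalizedModule.mkLinearMap q.primeCompl M)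
  let e := (IsLocalizedModule.iso T ((LocalizedModule.mkLinearMap q.primeCompl M).restrictScalars P)).restrictScalars R
  exact ⟨fun hf => by haveI : Module.Flat R (LocalizedModule T M) := hf; exact Module.Flat.of_linearEquiv e.symm,
    fun hf => by haveI : Module.Flat R (LocalizedModule q.primeCompl M) := hf; exact Module.Flat.of_linearEquiv e⟩

theorem flatAt_of_flat [Module.Flat R M] (q : Ideal S) [q.IsPrime] : FlatCA.FlatAt R q M := by
  show Module.Flat R (LocalizedModule q.primeCompl M)
  haveI : Module.Flat S (Localization.AtPrime q) := IsLocalization.flat _ q.primeCompl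
  haveI := flat_tensor R S (Localization.AtPrime q) M
  have h : IsBaseChange (Localization.AtPrime q) (LocalizedModule.mkLinearMap q.primeCompl M) :=
    (isLocalizedModule_iff_isBaseChange q.primeCompl _ _).mp inferInstance
  exact Module.Flat.of_linearEquiv (h.equiv.restrictScalars R).symm

end Groth.Agent.RGFlat
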