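import Groth.Agent.RGFlat.Impurity

/-!
Impurities descend to any parameter ring containing finitely many prescribed elements.
-/

set_option autoImplicit false

universe u

open TensorProduct

attribute [local instance] Algebra.TensorProduct.rightAlgebra

namespace Groth.Agent.RGFlat.Impurity

variable {A B A₁ B₁ : Type u} [CommRing A] [CommRing B] [Algebra A B] [CommRing A₁] [CommRing B₁] [Algebra A A₁]
  [Algebra B B₁] [Algebra A₁ B₁] [Algebra A B₁] [IsScalarTower A B B₁] [IsScalarTower A A₁ B₁]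

/-- The base change map `R ⊗ B → B₁`. -/
noncomputable def desc (R : Type u) [CommRing R] [Algebra A R] [Algebra R A₁] [IsScalarTower A R A₁] :
    R ⊗[A] B →ₐ[A] B₁ :=
  Algebra.TensorProduct.lift ((IsScalarTower.toAlgHom A A₁ B₁).comp (IsScalarTower.toAlgHom A R A₁))
    (IsScalarTower.toAlgHom A B B₁) fun _ _ => Commute.all _ _

theorem desc_tmul (R : Type u) [CommRing R] [Algebra A R] [Algebra R A₁] [IsScalarTower A R A₁] (r : R) (b : B) :
    desc (A := A) (B := B) (B₁ := B₁) (A₁ := A₁) R (r ⊗ₜ[A] b) = algebraMap A₁ B₁ (algebraMap R A₁ r) * algebraMap B B₁ b := rfl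

theorem exists_lift_elem [hpush : Algebra.IsPushout A B A₁ B₁] (z : B₁) :
    ∃ F : Finset A₁, ∀ (R : Type u) [CommRing R] [Algebra A R] [Algebra R A₁] [IsScalarTower A R A₁],
      (F : Set A₁) ⊆ Set.range (algebraMap R A₁) → ∃ y : R ⊗[A] B, desc (B₁ := B₁) (A₁ := A₁) R y = z := by
  classical
  induction z using hpush.out.inductionOn with
  | zero => exact ⟨∅, fun R _ _ _ _ _ => ⟨0, map_zero _⟩⟩
  | tmul a =>
    refine ⟨{a}, fun R _ _ _ _ hF => ?_⟩
    obtain ⟨r, hr⟩ := hF (Finset.mem_singleton_self a)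
    refine ⟨r ⊗ₜ 1, ?_⟩
    rw [desc_tmul, hr, map_one, mul_one]; rfl
  | smul b z ih =>
    obtain ⟨F, hF⟩ := ih
    refine ⟨F, fun R _ _ _ _ h => ?_⟩
    obtain ⟨y, hy⟩ := hF R h
    refine ⟨((1 : R) ⊗ₜ b) * y, ?_⟩
    rw [map_mul, hy, desc_tmul, map_one, map_one, one_mul, Algebra.smul_def]
  | add x y hx hy =>
    obtain ⟨F, hF⟩ := hx
    obtain ⟨G, hG⟩ := hy
    refine ⟨F ∪ G, fun R _ _ _ _ h => ?_⟩
    rw [Finset.coe_union, Set.union_subset_iff] at h
    obtain ⟨u, hu⟩ := hF R h.1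
    obtain ⟨v, hv⟩ := hG R h.2
    exact ⟨u + v, by rw [map_add, hu, hv]⟩

theorem exists_lift_ideal [hpush : Algebra.IsPushout A B A₁ B₁] (t : Ideal A₁) {z : B₁}
    (hz : z ∈ t.map (algebraMap A₁ B₁)) :
    ∃ F : Finset A₁, ∀ (R : Type u) [CommRing R] [Algebra A R] [Algebra R A₁] [IsScalarTower A R A₁],
      (F : Set A₁) ⊆ Set.range (algebraMap R A₁) →
        ∃ y ∈ (t.comap (algebraMap R A₁)).map (algebraMap R (R ⊗[A] B)), desc (B₁ := B₁) (A₁ := A₁) R y = z := by
  classical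
  refine Submodule.span_induction ?_ ⟨∅, fun R _ _ _ _ _ => ⟨0, zero_mem _, map_zero _⟩⟩ ?_ ?_ hz
  · rintro _ ⟨a, ha, rfl⟩
    refine ⟨{a}, fun R _ _ _ _ hF => ?_⟩
    obtain ⟨r, hr⟩ := hF (Finset.mem_singleton_self a)
    refine ⟨algebraMap R (R ⊗[A] B) r, Ideal.mem_map_of_mem _ (by rw [Ideal.mem_comap, hr]; exact ha), ?_⟩
    rw [Algebra.TensorProduct.algebraMap_apply, desc_tmul]
    simp [hr]
  · rintro x y _ _ ⟨F, hF⟩ ⟨G, hG⟩
    refine ⟨F ∪ G, fun R _ _ _ _ h => ?_⟩
    rw [Finset.coe_union, Set.union_subset_iff] at h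
    obtain ⟨u, hu', hu⟩ := hF R h.1
    obtain ⟨v, hv', hv⟩ := hG R h.2
    exact ⟨u + v, add_mem hu' hv', by rw [map_add, hu, hv]⟩
  · rintro c x _ ⟨F, hF⟩
    obtain ⟨G, hG⟩ := exists_lift_elem (A := A) (B := B) (A₁ := A₁) c
    refine ⟨F ∪ G, fun R _ _ _ _ h => ?_⟩
    rw [Finset.coe_union, Set.union_subset_iff] at h
    obtain ⟨u, hu', hu⟩ := hF R h.1
    obtain ⟨v, hv⟩ := hG R h.2
    exact ⟨v * u, Ideal.mul_mem_left _ v hu', by rw [map_mul, hu, hv, smul_eq_mul]⟩

/-- An impurity descends to every parameter ring `R` whose image contains `F`; moreover it has a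
witness `s` such that the point may be moved to any `m` above avoiding `s`. -/
theorem exists_descend [Algebra.FiniteType A B] {N : Type u} [AddCommGroup N] [Module B N] [Module.Finite B N]
    {p : Ideal A} [p.IsPrime]
    {N₁ : Type u} [AddCommGroup N₁] [Module B₁ N₁] [Module B N₁] [IsScalarTower B B₁ N₁] [Module A₁ N₁]
    [IsScalarTower A₁ B₁ N₁] {f : N →ₗ[B] N₁} {t' t : Ideal A₁} [t'.IsPrime] [t.IsPrime] {P : Ideal B₁} [P.IsPrime]
    (h : FlatCA.IsImpurity A B N p A₁ B₁ N₁ f t' t P) :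
    ∃ F : Finset A₁, ∀ (R : Type u) [CommRing R] [Algebra A R] [Algebra R A₁] [IsScalarTower A R A₁],
      (F : Set A₁) ⊆ Set.range (algebraMap R A₁) →
      ∃ (BR NR : Type u) (_ : CommRing BR) (_ : Algebra B BR) (_ : Algebra R BR) (_ : Algebra A BR)
        (_ : IsScalarTower A B BR) (_ : IsScalarTower A R BR) (_ : AddCommGroup NR) (_ : Module BR NR)
        (_ : Module B NR) (_ : IsScalarTower B BR NR) (_ : Module R NR) (_ : IsScalarTower R BR NR)
        (g : N →ₗ[B] NR) (PR : Ideal BR) (_ : PR.IsPrime) (s : R), s ∉ t.comap (algebraMap R A₁) ∧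
        ∀ (m : Ideal R) [m.IsPrime], t.comap (algebraMap R A₁) ≤ m → s ∉ m → m.LiesOver p →
          FlatCA.IsImpurity A B N p R BR NR g (t'.comap (algebraMap R A₁)) m PR := by
  classical
  have h' := h
  obtain ⟨hpush, hf, htt, hover, hP, hass, hno⟩ := h
  haveI := hpush
  haveI := hP
  -- a witness outside `t`
  obtain ⟨a, hat, x, hx, z, hz, hxz⟩ : ∃ a ∉ t, ∃ x ∈ P, ∃ z ∈ t.map (algebraMap A₁ B₁), x + z = algebraMap A₁ B₁ a := by
    by_contra hc
    push Not at hc
    obtain ⟨Q, hQ, hJQ, hd⟩ := Ideal.exists_le_prime_disjoint (P ⊔ t.map (algebraMap A₁ B₁))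
      (Submonoid.map (algebraMap A₁ B₁) t.primeCompl) (Set.disjoint_left.mpr fun w hw hw' => by
        obtain ⟨a, ha, rfl⟩ := hw'
        obtain ⟨x, hx, z, hz, hxz⟩ := Submodule.mem_sup.mp hw
        exact hc a ha x hx z hz hxz)
    refine hno Q (le_sup_left.trans hJQ) ⟨le_antisymm
      (Ideal.map_le_iff_le_comap.mp (le_sup_right.trans hJQ)) fun b hb => by_contra fun hbt => ?_⟩
    exact Set.disjoint_left.mp hd hb ⟨b, hbt, rfl⟩
  obtain ⟨F, hF⟩ := exists_lift_ideal (A := A) (B := B) t hz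
  refine ⟨insert a F, fun R _ _ _ _ hR => ?_⟩
  rw [Finset.coe_insert, Set.insert_subset_iff] at hR
  obtain ⟨⟨s, hs⟩, hFR⟩ := hR
  obtain ⟨y, hy, hyz⟩ := hF R hFR
  let BR := R ⊗[A] B
  let NR := BR ⊗[B] N
  let g : N →ₗ[B] NR := TensorProduct.mk B BR N 1
  haveI : Algebra.IsPushout A B R BR := inferInstance
  have hg : IsBaseChange BR g := TensorProduct.isBaseChange B N BR
  haveI : (t.comap (algebraMap R A₁)).IsPrime := Ideal.comap_isPrime _ _
  haveI : t.LiesOver (t.comap (algebraMap R A₁)) := ⟨rfl⟩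
  obtain ⟨hA, _, _, _, _, _, _, g', hI⟩ :=
    exists_isImpurity_rebase (A' := R) (B' := BR) (N' := NR) g hg (t.comap (algebraMap R A₁)) h'
  obtain ⟨hpush', hbc, -, -, -, hass', -⟩ := hI
  have hdesc : ∀ w : BR, algebraMap BR B₁ w = desc (B₁ := B₁) (A₁ := A₁) R w := fun w => by
    induction w using TensorProduct.induction_on with
    | zero => rw [map_zero, map_zero]
    | tmul r b =>
      rw [desc_tmul, show (r ⊗ₜ[A] b : BR) = algebraMap R BR r * algebraMap B BR b by
        rw [Algebra.TensorProduct.algebraMap_apply, Algebra.TensorProduct.right_algebraMap_apply,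
          Algebra.TensorProduct.tmul_mul_tmul, mul_one, one_mul]; rfl,
        map_mul, ← IsScalarTower.algebraMap_apply R BR B₁, ← IsScalarTower.algebraMap_apply B BR B₁,
        IsScalarTower.algebraMap_apply R A₁ B₁]
    | add u v hu hv => rw [map_add, map_add, hu, hv]
  obtain ⟨hover', hass₂⟩ := assoc_comap hpush' g' hbc (t'.comap (algebraMap R A₁)) t' rfl P hass'
  refine ⟨BR, NR, inferInstance, inferInstance, inferInstance, inferInstance, inferInstance, inferInstance,
    inferInstance, inferInstance, inferInstance, inferInstance, inferInstance, inferInstance, g,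
    P.comap (algebraMap BR B₁), Ideal.comap_isPrime _ _, s, fun h0 => hat (hs ▸ h0), fun m _ hm hsm hmp =>
    ⟨inferInstance, hg, (Ideal.comap_mono htt).trans hm, hmp, hover', hass₂, fun Q _ hle hQ => ?_⟩⟩
  refine hsm ?_
  rw [hQ.over, Ideal.under_def, Ideal.mem_comap]
  have h1 : algebraMap R BR s - y ∈ P.comap (algebraMap BR B₁) := by
    rw [Ideal.mem_comap, map_sub, hdesc y, hyz, ← IsScalarTower.algebraMap_apply R BR B₁,
      IsScalarTower.algebraMap_apply R A₁ B₁, hs, ← hxz, add_sub_cancel_right]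
    exact hx
  have h2 : y ∈ Q := Ideal.map_le_iff_le_comap.mpr (fun r hr => by
    have := hm hr
    rwa [hQ.over] at this) hy
  simpa using add_mem (hle h1) h2

end Groth.Agent.RGFlat.Impurity
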