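import Groth.Agent.RGFlat.FibreReg
import Groth.Agent.FlatMisc.Fiber
import Groth.Agent.S9592
import Mathlib.RingTheory.Ideal.AssociatedPrime.Localization
import Mathlib.RingTheory.IsTensorProduct

/-!
Impurities lift along base change of the parameter ring.
-/

set_option autoImplicit false

universe u

open TensorProduct

attribute [local instance] Algebra.TensorProduct.rightAlgebra

namespace Groth.Agent.RGFlat.Impurity

section Fibre

variable {A₁ A₂ B₁ B₂ : Type u} [CommRing A₁] [CommRing A₂] [Algebra A₁ A₂] [CommRing B₁] [Algebra A₁ B₁]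

/-- `(K ⊗ B₁) ⊗ N → K ⊗ N`, additively. -/
noncomputable def collapse (K : Type u) [AddCommGroup K] [Module A₁ K] (N : Type u) [AddCommGroup N]
    [Module B₁ N] [Module A₁ N] [IsScalarTower A₁ B₁ N] (n : N) : K ⊗[A₁] B₁ →ₗ[A₁] K ⊗[A₁] N :=
  ((LinearMap.toSpanSingleton B₁ N n).restrictScalars A₁).lTensor K

theorem collapse_tmul (K : Type u) [AddCommGroup K] [Module A₁ K] (N : Type u) [AddCommGroup N]
    [Module B₁ N] [Module A₁ N] [IsScalarTower A₁ B₁ N] (n : N) (k : K) (b : B₁) :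
    collapse K N n (k ⊗ₜ b) = k ⊗ₜ[A₁] (b • n) := rfl

variable {N : Type u} [AddCommGroup N] [Module B₁ N] [Module A₁ N] [IsScalarTower A₁ B₁ N]

theorem collapse_add (K : Type u) [AddCommGroup K] [Module A₁ K] (m n : N) (z : K ⊗[A₁] B₁) :
    collapse K N (m + n) z = collapse K N m z + collapse K N n z := by
  induction z with
  | zero => simp
  | tmul k b => rw [collapse_tmul, collapse_tmul, collapse_tmul, smul_add, TensorProduct.tmul_add]
  | add x y hx hy => rw [map_add, map_add, map_add, hx, hy, add_add_add_comm]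

/-- The comparison `(A₂ ⊗ B₁) ⊗ N → A₂ ⊗ N`. -/
noncomputable def collapseHom : (A₂ ⊗[A₁] B₁) ⊗[B₁] N →+ A₂ ⊗[A₁] N :=
  TensorProduct.liftAddHom
    { toFun := fun z =>
        { toFun := fun n => collapse A₂ N n z
          map_zero' := by
            induction z with
            | zero => simp
            | tmul k b => rw [collapse_tmul, smul_zero, TensorProduct.tmul_zero]
            | add x y hx hy => rw [map_add, hx, hy, add_zero]
          map_add' := fun m n => collapse_add A₂ m n z }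
      map_zero' := by ext n; exact map_zero (collapse (B₁ := B₁) A₂ N n)
      map_add' := fun x y => by ext n; exact map_add (collapse (B₁ := B₁) A₂ N n) x y }
    (fun r z n => by
      show collapse A₂ N n (r • z) = collapse A₂ N (r • n) z
      induction z with
      | zero => rw [smul_zero, map_zero, map_zero]
      | tmul k b =>
        rw [Algebra.smul_def, Algebra.TensorProduct.right_algebraMap_apply,
          Algebra.TensorProduct.tmul_mul_tmul, one_mul, collapse_tmul, collapse_tmul, smul_smul, mul_comm]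
      | add x y hx hy => rw [smul_add, map_add, map_add, hx, hy])

theorem collapseHom_tmul (z : A₂ ⊗[A₁] B₁) (n : N) :
    collapseHom (z ⊗ₜ[B₁] n) = collapse A₂ N n z := rfl

/-- `K ⊗ N → (K ⊗ B₁) ⊗ N`. -/
noncomputable def spread (K : Type u) [CommRing K] [Algebra A₁ K] :
    K ⊗[A₁] N →+ (K ⊗[A₁] B₁) ⊗[B₁] N :=
  TensorProduct.liftAddHom
    { toFun := fun k =>
        { toFun := fun n => (k ⊗ₜ[A₁] (1 : B₁)) ⊗ₜ[B₁] n
          map_zero' := TensorProduct.tmul_zero _ _
          map_add' := fun m n => TensorProduct.tmul_add _ _ _ }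
      map_zero' := by ext n; simp
      map_add' := fun x y => by ext n; simp [TensorProduct.add_tmul] }
    (fun r k n => by
      show ((r • k) ⊗ₜ[A₁] (1 : B₁)) ⊗ₜ[B₁] n = (k ⊗ₜ[A₁] (1 : B₁)) ⊗ₜ[B₁] (r • n)
      rw [← IsScalarTower.algebraMap_smul B₁ r n, ← TensorProduct.smul_tmul]
      congr 1
      rw [Algebra.smul_def (algebraMap A₁ B₁ r), Algebra.TensorProduct.right_algebraMap_apply,
        Algebra.TensorProduct.tmul_mul_tmul, one_mul, mul_one, TensorProduct.smul_tmul, Algebra.smul_def, mul_one])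

theorem collapseHom_smul (a : A₂) (w : (A₂ ⊗[A₁] B₁) ⊗[B₁] N) :
    collapseHom (a • w) = a • collapseHom w := by
  induction w using TensorProduct.induction_on with
  | zero => simp
  | tmul z n =>
    rw [TensorProduct.smul_tmul', collapseHom_tmul, collapseHom_tmul]
    induction z with
    | zero => simp
    | tmul k b => rw [TensorProduct.smul_tmul', collapse_tmul, collapse_tmul, TensorProduct.smul_tmul']
    | add x y hx hy => rw [smul_add, map_add, map_add, hx, hy, smul_add]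
  | add x y hx hy => rw [smul_add, map_add, map_add, hx, hy, smul_add]

/-- An element dying in the fibre after base change dies in the fibre. -/
theorem toFiberMod_eq_zero (t : Ideal A₁) [t.IsPrime] (s : Ideal A₂) [s.IsPrime] (hst : s.comap (algebraMap A₁ A₂) = t)
    (n : N) (h : FlatCA.toFiberMod s (A₂ ⊗[A₁] B₁) ((A₂ ⊗[A₁] B₁) ⊗[B₁] N) ((1 : A₂ ⊗[A₁] B₁) ⊗ₜ[B₁] n) = 0) :
    FlatCA.toFiberMod t B₁ N n = 0 := by
  let B₂ := A₂ ⊗[A₁] B₁
  let N₂ := B₂ ⊗[B₁] N
  let γ : N₂ →ₗ[A₂] A₂ ⊗[A₁] N :=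
    { toFun := collapseHom, map_add' := map_add _, map_smul' := collapseHom_smul }
  let β : (s.Fiber B₂) ⊗[B₂] N₂ →+ s.ResidueField ⊗[A₂] N₂ :=
    TensorProduct.liftAddHom
      { toFun := fun z =>
          { toFun := fun w => collapse s.ResidueField N₂ w z
            map_zero' := by
              induction z using TensorProduct.induction_on with
              | zero => simp
              | tmul k b => rw [collapse_tmul, smul_zero, TensorProduct.tmul_zero]
              | add x y hx hy => rw [map_add, hx, hy, add_zero]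
            map_add' := fun m n => collapse_add _ m n z }
        map_zero' := by ext w; exact map_zero (collapse (A₁ := A₂) (B₁ := B₂) s.ResidueField N₂ w)
        map_add' := fun x y => by ext w; exact map_add (collapse (A₁ := A₂) (B₁ := B₂) s.ResidueField N₂ w) x y }
      (fun r z w => by
        show collapse s.ResidueField N₂ w (r • z) = collapse s.ResidueField N₂ (r • w) z
        induction z using TensorProduct.induction_on with
        | zero => rw [Algebra.smul_def, mul_zero, map_zero, map_zero]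
        | tmul k b =>
          rw [Algebra.smul_def, Algebra.TensorProduct.right_algebraMap_apply,
            Algebra.TensorProduct.tmul_mul_tmul, one_mul, collapse_tmul, collapse_tmul, smul_smul, mul_comm]
        | add x y hx hy =>
          rw [Algebra.smul_def, mul_add, ← Algebra.smul_def, ← Algebra.smul_def, map_add, map_add, hx, hy])
  have h2 : β ((1 : s.Fiber B₂) ⊗ₜ[B₂] ((1 : B₂) ⊗ₜ[B₁] n)) = 0 := (congrArg β h).trans (map_zero β)
  have h3 : (1 : s.ResidueField) ⊗ₜ[A₂] ((1 : A₂) ⊗ₜ[A₁] n) = 0 := by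
    have h4 : (1 : s.ResidueField) ⊗ₜ[A₂] ((1 : B₂) • ((1 : B₂) ⊗ₜ[B₁] n)) = 0 := h2
    have h5 := congrArg (γ.lTensor s.ResidueField) h4
    rw [one_smul, LinearMap.lTensor_tmul, map_zero] at h5
    have h6 : γ ((1 : B₂) ⊗ₜ[B₁] n) = (1 : A₂) ⊗ₜ[A₁] n := by
      show collapse A₂ N n ((1 : A₂) ⊗ₜ[A₁] (1 : B₁)) = _
      rw [collapse_tmul, one_smul]
    rwa [h6] at h5
  have h7 : (1 : s.ResidueField) ⊗ₜ[A₁] n = 0 := by
    have := congrArg (AlgebraTensorModule.cancelBaseChange A₁ A₂ A₂ s.ResidueField N) h3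
    rwa [AlgebraTensorModule.cancelBaseChange_tmul, one_smul, map_zero] at this
  let i : t.ResidueField →ₐ[A₁] s.ResidueField := Ideal.ResidueField.mapₐ t s (Algebra.ofId A₁ A₂) hst.symm
  letI : Algebra t.ResidueField s.ResidueField := i.toRingHom.toAlgebra
  haveI : IsScalarTower A₁ t.ResidueField s.ResidueField :=
    IsScalarTower.of_algebraMap_eq fun a => (i.commutes a).symm
  obtain ⟨π, hπ⟩ := LinearMap.exists_leftInverse_of_injective
    (Algebra.linearMap t.ResidueField s.ResidueField)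
    (LinearMap.ker_eq_bot.mpr (RingHom.injective _))
  have hπ1 : π 1 = 1 := by simpa using LinearMap.congr_fun hπ 1
  have h8 : (1 : t.ResidueField) ⊗ₜ[A₁] n = 0 := by
    have := congrArg ((π.restrictScalars A₁).rTensor N) h7
    rwa [LinearMap.rTensor_tmul, LinearMap.restrictScalars_apply, hπ1, map_zero] at this
  have h9 := congrArg (spread (B₁ := B₁) (N := N) t.ResidueField) h8
  rw [map_zero] at h9
  exact h9

end Fibre

/-- An associated point of a fibre lifts to any base change, over any point above it. -/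
theorem exists_assoc_baseChange {A₁ A₂ B₁ : Type u} [CommRing A₁] [CommRing A₂] [Algebra A₁ A₂]
    [CommRing B₁] [Algebra A₁ B₁] [Algebra.FiniteType A₁ B₁]
    (N : Type u) [AddCommGroup N] [Module B₁ N] [Module A₁ N] [IsScalarTower A₁ B₁ N] [Module.Finite B₁ N]
    (t : Ideal A₁) [t.IsPrime] (s : Ideal A₂) [s.IsPrime] (hst : s.comap (algebraMap A₁ A₂) = t)
    (P : Ideal B₁) [P.IsPrime] [P.LiesOver t]
    (hass : FlatCA.fiberIdeal t P ∈ associatedPrimes (t.Fiber B₁) (FlatCA.fiberMod t B₁ N)) :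
    ∃ (P₂ : Ideal (A₂ ⊗[A₁] B₁)) (_ : P₂.IsPrime), P₂.LiesOver s ∧ P₂.comap (algebraMap B₁ (A₂ ⊗[A₁] B₁)) = P ∧
      FlatCA.fiberIdeal s P₂ ∈
        associatedPrimes (s.Fiber (A₂ ⊗[A₁] B₁)) (FlatCA.fiberMod s (A₂ ⊗[A₁] B₁) ((A₂ ⊗[A₁] B₁) ⊗[B₁] N)) := by
  classical
  let B₂ := A₂ ⊗[A₁] B₁
  let N₂ := B₂ ⊗[B₁] N
  haveI : Algebra.FiniteType A₂ B₂ := inferInstance
  haveI : IsNoetherianRing (s.Fiber B₂) := Groth.Agent.RGFlat.isNoetherianRing_fiber (S := B₂) s
  haveI := Groth.Agent.RGFlat.isNoetherianRing_fiber (S := B₁) t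
  -- a witness downstairs
  obtain ⟨n, hn⟩ : ∃ n : N, ∀ b : B₁, b • FlatCA.toFiberMod t B₁ N n = 0 ↔ b ∈ P := by
    obtain ⟨x, hx⟩ := (isAssociatedPrime_iff.mp hass).2
    obtain ⟨r, hr, n, hrn⟩ := Groth.Agent.CAlgA.FibreMod.exists_smul_eq N t x
    refine ⟨n, fun b => ?_⟩
    rw [← hrn, smul_comm, ← Groth.Agent.CAlgA.FibreMod.includeRight_smul N t b]
    conv_rhs => rw [← Groth.Agent.FlatMisc.Fiber.comap_fiberIdeal t P, Ideal.mem_comap]
    constructor
    · intro h
      rw [hx, Submodule.mem_colon_singleton, Submodule.mem_bot]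
      exact Groth.Agent.CAlgA.FibreMod.eq_zero_of_smul_eq_zero N t hr h
    · intro h
      rw [hx, Submodule.mem_colon_singleton, Submodule.mem_bot] at h
      exact (congrArg (algebraMap A₁ B₁ r • ·) h).trans (smul_zero _)
  let y : FlatCA.fiberMod s B₂ N₂ := FlatCA.toFiberMod s B₂ N₂ ((1 : B₂) ⊗ₜ[B₁] n)
  let T := s.Fiber B₂
  let inc : B₂ →+* T := (Algebra.TensorProduct.includeRight (R := A₂) (A := s.ResidueField) (B := B₂)).toRingHom
  let J : Ideal T := (Submodule.span T {y}).annihilator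
  have hJ : ∀ b : B₁, inc (algebraMap B₁ B₂ b) ∈ J ↔ b ∈ P := by
    intro b
    rw [Groth.Agent.WeakAss.mem_ann, show inc (algebraMap B₁ B₂ b) • y = algebraMap B₁ B₂ b • y from
      Groth.Agent.CAlgA.FibreMod.includeRight_smul N₂ s _ y, ← map_smul]
    have e : algebraMap B₁ B₂ b • ((1 : B₂) ⊗ₜ[B₁] n) = (1 : B₂) ⊗ₜ[B₁] (b • n) := by
      rw [IsScalarTower.algebraMap_smul, ← TensorProduct.tmul_smul]
    rw [e]
    refine ⟨fun h => (hn b).mp ?_, fun h => ?_⟩
    · rw [← map_smul]
      exact toFiberMod_eq_zero t s hst _ h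
    · obtain ⟨r, hr, hrm⟩ := Groth.Agent.CAlgA.FibreMod.exists_smul_mem N t
        (show FlatCA.toFiberMod t B₁ N (b • n) = 0 by rw [map_smul]; exact (hn b).mpr h)
      have hr' : algebraMap A₁ A₂ r ∉ s := fun h' => hr (hst ▸ h')
      refine Groth.Agent.CAlgA.FibreMod.eq_zero_of_smul_eq_zero N₂ s hr' ?_
      rw [← map_smul]
      refine Groth.Agent.CAlgA.FibreMod.toFiberMod_eq_zero_of_mem N₂ s ?_
      have : algebraMap A₂ B₂ (algebraMap A₁ A₂ r) • ((1 : B₂) ⊗ₜ[B₁] (b • n)) =
          (1 : B₂) ⊗ₜ[B₁] (algebraMap A₁ B₁ r • (b • n)) := by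
        rw [← IsScalarTower.algebraMap_apply A₁ A₂ B₂, IsScalarTower.algebraMap_apply A₁ B₁ B₂,
          IsScalarTower.algebraMap_smul, ← TensorProduct.tmul_smul]
      rw [this]
      generalize algebraMap A₁ B₁ r • (b • n) = m at hrm ⊢
      refine Submodule.smul_induction_on hrm (fun a ha m _ => ?_) fun u v hu hv => ?_
      · rw [← TensorProduct.smul_tmul, Algebra.smul_def, mul_one,
          show (algebraMap B₁ B₂ a) ⊗ₜ[B₁] m = algebraMap B₁ B₂ a • ((1 : B₂) ⊗ₜ[B₁] m) by
            rw [TensorProduct.smul_tmul', smul_eq_mul, mul_one]]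
        refine Submodule.smul_mem_smul ?_ Submodule.mem_top
        have h10 := Ideal.mem_map_of_mem (algebraMap B₁ B₂) ha
        rw [Ideal.map_map, ← IsScalarTower.algebraMap_eq, IsScalarTower.algebraMap_eq A₁ A₂ B₂, ← Ideal.map_map] at h10
        exact Ideal.map_mono (Ideal.map_le_iff_le_comap.mpr hst.ge) h10
      · rw [TensorProduct.tmul_add]; exact add_mem hu hv
  obtain ⟨Q, hQ, hQc⟩ := Ideal.exists_minimalPrimes_comap_eq (inc.comp (algebraMap B₁ B₂)) (I := J) P (by
    rw [show J.comap (inc.comp (algebraMap B₁ B₂)) = P from Ideal.ext hJ]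
    exact ⟨⟨inferInstance, le_rfl⟩, fun q hq _ => hq.2⟩)
  haveI : Q.IsPrime := hQ.1.1
  have hQass : Q ∈ associatedPrimes T (FlatCA.fiberMod s B₂ N₂) := by
    haveI := Groth.Agent.RGFlat.finite_fiberMod (S := B₂) (N := N₂) s
    obtain ⟨-, m, hm⟩ := Groth.Agent.WeakAss.mem_ass_of_fg (IsNoetherian.noetherian Q)
      (show Q ∈ FlatCA.weakAss T (FlatCA.fiberMod s B₂ N₂) from ⟨y, hQ⟩)
    refine isAssociatedPrime_iff.mpr ⟨inferInstance, m, hm.trans ?_⟩
    ext a
    rw [Groth.Agent.WeakAss.mem_ann, Submodule.mem_colon_singleton, Submodule.mem_bot]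
  let P₂ := PrimeSpectrum.primesOverOrderIsoFiber A₂ B₂ s
  let q := P₂.symm ⟨Q, inferInstance⟩
  have hq : (q : Ideal B₂) = Q.comap inc := rfl
  refine ⟨Q.comap inc, Ideal.comap_isPrime _ _, hq ▸ q.2.2, by rw [Ideal.comap_comap]; exact hQc, ?_⟩
  have : FlatCA.fiberIdeal s (Q.comap inc) = Q := by
    refine le_antisymm Ideal.map_comap_le fun b hb => ?_
    obtain ⟨c, hc, z, hcz⟩ := Ideal.Fiber.exists_smul_eq_one_tmul s b
    have hz : z ∈ Q.comap inc := by
      show (1 : s.ResidueField) ⊗ₜ[A₂] z ∈ Q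
      rw [← hcz]
      have := Q.mul_mem_left (algebraMap A₂ T c) hb
      rwa [← Algebra.smul_def] at this
    have h1 : (1 : s.ResidueField) ⊗ₜ[A₂] z ∈ (Q.comap inc).map inc := Ideal.mem_map_of_mem inc hz
    rw [← hcz] at h1
    replace h1 : algebraMap A₂ T c * b ∈ (Q.comap inc).map inc := by rwa [← Algebra.smul_def]
    rw [IsScalarTower.algebraMap_apply A₂ s.ResidueField T] at h1
    refine (Ideal.unit_mul_mem_iff_mem _ (IsUnit.map _ ?_)).mp h1
    rw [isUnit_iff_ne_zero, Ne, Ideal.algebraMap_residueField_eq_zero]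
    exact hc
  rw [this]
  exact hQass

/-- An impurity lifts along a base change of the parameter ring along which the specialisation lifts. -/
theorem exists_isImpurity_baseChange {A B : Type u} [CommRing A] [CommRing B] [Algebra A B] [Algebra.FiniteType A B]
    {N : Type u} [AddCommGroup N] [Module B N] [Module.Finite B N] {p : Ideal A} [p.IsPrime]
    {A₁ B₁ N₁ : Type u} [CommRing A₁] [CommRing B₁] [Algebra A A₁] [Algebra B B₁] [Algebra A₁ B₁] [Algebra A B₁]
    [IsScalarTower A B B₁] [IsScalarTower A A₁ B₁] [AddCommGroup N₁] [Module B₁ N₁] [Module B N₁]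
    [IsScalarTower B B₁ N₁] [Module A₁ N₁] [IsScalarTower A₁ B₁ N₁] {f : N →ₗ[B] N₁}
    {t' t : Ideal A₁} [t'.IsPrime] [t.IsPrime] {P : Ideal B₁} [P.IsPrime]
    (h : FlatCA.IsImpurity A B N p A₁ B₁ N₁ f t' t P)
    (A₂ : Type u) [CommRing A₂] [Algebra A A₂] [Algebra A₁ A₂] [IsScalarTower A A₁ A₂]
    (s' s : Ideal A₂) [s'.IsPrime] [s.IsPrime] (hss : s' ≤ s)
    (hs' : s'.comap (algebraMap A₁ A₂) = t') (hs : s.comap (algebraMap A₁ A₂) = t) :
    ∃ (B₂ N₂ : Type u) (_ : CommRing B₂) (_ : Algebra B B₂) (_ : Algebra A₂ B₂) (_ : Algebra A B₂)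
      (_ : IsScalarTower A B B₂) (_ : IsScalarTower A A₂ B₂) (_ : AddCommGroup N₂) (_ : Module B₂ N₂)
      (_ : Module B N₂) (_ : IsScalarTower B B₂ N₂) (_ : Module A₂ N₂) (_ : IsScalarTower A₂ B₂ N₂)
      (g : N →ₗ[B] N₂) (P₂ : Ideal B₂) (_ : P₂.IsPrime),
      FlatCA.IsImpurity A B N p A₂ B₂ N₂ g s' s P₂ := by
  obtain ⟨hpush, hf, htt, hover, hPt', hass, hno⟩ := h
  haveI := hpush
  haveI := hPt'
  haveI : Algebra.FiniteType A₁ B₁ :=
    Algebra.FiniteType.equiv (inferInstance : Algebra.FiniteType A₁ (A₁ ⊗[A] B))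
      (haveI := hpush.symm; Algebra.IsPushout.equiv A A₁ B B₁)
  haveI : Module.Finite B₁ N₁ := Module.Finite.equiv hf.equiv
  obtain ⟨P₂, hP₂, hP₂s, hP₂c, hass₂⟩ := exists_assoc_baseChange N₁ t' s' hs' P hass
  let B₂ := A₂ ⊗[A₁] B₁
  letI : Algebra B B₂ := ((algebraMap B₁ B₂).comp (algebraMap B B₁)).toAlgebra
  haveI : IsScalarTower B B₁ B₂ := IsScalarTower.of_algebraMap_eq fun _ => rfl
  haveI : IsScalarTower A B₁ B₂ := IsScalarTower.of_algebraMap_eq fun a => by
    rw [IsScalarTower.algebraMap_apply A A₁ B₁, ← IsScalarTower.algebraMap_apply A₁ B₁ B₂,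
      IsScalarTower.algebraMap_apply A₁ A₂ B₂, ← IsScalarTower.algebraMap_apply A A₁ A₂,
      ← IsScalarTower.algebraMap_apply]
  haveI : IsScalarTower A B B₂ := IsScalarTower.of_algebraMap_eq fun a => by
    rw [IsScalarTower.algebraMap_apply B B₁ B₂, ← IsScalarTower.algebraMap_apply A B B₁,
      ← IsScalarTower.algebraMap_apply A B₁ B₂]
  let N₂ := B₂ ⊗[B₁] N₁
  let g : N →ₗ[B] N₂ := ((TensorProduct.mk B₁ B₂ N₁ 1).restrictScalars B) ∘ₗ f
  haveI : Algebra.IsPushout A A₁ B B₁ := hpush.symm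
  have hpush₂ : Algebra.IsPushout A B A₂ B₂ :=
    ((Algebra.IsPushout.comp_iff (R := A) (S := A₁) (R' := B) (S' := B₁) (T := A₂) (T' := B₂)).mpr inferInstance).symm
  have hg : IsBaseChange B₂ g := hf.comp (TensorProduct.isBaseChange B₁ N₁ B₂)
  have himp : FlatCA.IsImpurity A B N p A₂ B₂ N₂ g s' s P₂ := by
    refine ⟨hpush₂, hg, hss, ⟨?_⟩, hP₂s, hass₂, fun Q _ hle hQ => ?_⟩
    · rw [hover.over, ← hs, Ideal.under_def, Ideal.under_def, Ideal.comap_comap, ← IsScalarTower.algebraMap_eq]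
    · haveI : (Q.comap (algebraMap B₁ B₂)).IsPrime := Ideal.comap_isPrime _ _
      refine hno (Q.comap (algebraMap B₁ B₂)) (hP₂c ▸ Ideal.comap_mono hle) ⟨?_⟩
      rw [← hs, hQ.over, Ideal.under_def, Ideal.under_def, Ideal.comap_comap, Ideal.comap_comap,
        ← IsScalarTower.algebraMap_eq, ← IsScalarTower.algebraMap_eq]
  exact ⟨B₂, N₂, _, _, _, _, inferInstance, inferInstance, _, _, _, inferInstance, _, inferInstance, g, P₂, hP₂, himp⟩

/-- A point of a product of spectra over a common point, given by maps to a field. -/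
theorem exists_field_maps {A : Type u} [CommRing A] (p : Ideal A) [p.IsPrime] (A' A₁ : Type u) [CommRing A']
    [CommRing A₁] [Algebra A A'] [Algebra A A₁] (p' : Ideal A') [p'.IsPrime] [hp' : p'.LiesOver p]
    (t : Ideal A₁) [t.IsPrime] [ht : t.LiesOver p] :
    ∃ (L : Type u) (_ : Field L) (_ : Algebra A L) (α : p'.ResidueField →ₐ[A] L) (β : t.ResidueField →ₐ[A] L), True := by
  classical
  let a := Ideal.ResidueField.mapₐ p p' (Algebra.ofId A A') hp'.over
  let b := Ideal.ResidueField.mapₐ p t (Algebra.ofId A A₁) ht.over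
  letI : Algebra p.ResidueField p'.ResidueField := a.toRingHom.toAlgebra
  letI : Algebra p.ResidueField t.ResidueField := b.toRingHom.toAlgebra
  haveI : IsScalarTower A p.ResidueField p'.ResidueField := IsScalarTower.of_algebraMap_eq fun x => (a.commutes x).symm
  haveI : IsScalarTower A p.ResidueField t.ResidueField := IsScalarTower.of_algebraMap_eq fun x => (b.commutes x).symm
  let T := p'.ResidueField ⊗[p.ResidueField] t.ResidueField
  haveI : Nontrivial T :=
    Function.Injective.nontrivial (f := fun x : p'.ResidueField => (x ⊗ₜ[p.ResidueField] (1 : t.ResidueField) : T))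
      (Algebra.TensorProduct.includeLeft_injective (S := p.ResidueField)
        (RingHom.injective (algebraMap p.ResidueField t.ResidueField)))
  obtain ⟨M, hM⟩ := Ideal.exists_maximal T
  letI : Field (T ⧸ M) := Ideal.Quotient.field M
  exact ⟨T ⧸ M, inferInstance, inferInstance,
    (Ideal.Quotient.mkₐ A M).comp
      ((Algebra.TensorProduct.includeLeft : p'.ResidueField →ₐ[p.ResidueField] T).restrictScalars A),
    (Ideal.Quotient.mkₐ A M).comp
      ((Algebra.TensorProduct.includeRight : t.ResidueField →ₐ[p.ResidueField] T).restrictScalars A), trivial⟩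

/-- Impurities over `A` whose parameter ring factors through `A'` are impurities over `A'`. -/
theorem exists_isImpurity_rebase {A B : Type u} [CommRing A] [CommRing B] [Algebra A B]
    {N : Type u} [AddCommGroup N] [Module B N] {p : Ideal A} [p.IsPrime]
    {A' B' N' : Type u} [CommRing A'] [CommRing B'] [Algebra A A'] [Algebra B B'] [Algebra A' B'] [Algebra A B']
    [IsScalarTower A B B'] [IsScalarTower A A' B'] [Algebra.IsPushout A B A' B']
    [AddCommGroup N'] [Module B' N'] [Module B N'] [IsScalarTower B B' N'] (f : N →ₗ[B] N') (hf : IsBaseChange B' f)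
    (p' : Ideal A') [p'.IsPrime]
    {A₂ B₂ N₂ : Type u} [CommRing A₂] [CommRing B₂] [Algebra A A₂] [Algebra B B₂] [Algebra A₂ B₂] [Algebra A B₂]
    [IsScalarTower A B B₂] [IsScalarTower A A₂ B₂] [AddCommGroup N₂] [Module B₂ N₂] [Module B N₂]
    [IsScalarTower B B₂ N₂] [Module A₂ N₂] [IsScalarTower A₂ B₂ N₂] {g : N →ₗ[B] N₂}
    {s' s : Ideal A₂} [s'.IsPrime] [s.IsPrime] {P₂ : Ideal B₂} [P₂.IsPrime]
    (h : FlatCA.IsImpurity A B N p A₂ B₂ N₂ g s' s P₂)
    [Algebra A' A₂] [IsScalarTower A A' A₂] [s.LiesOver p'] :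
    ∃ (_ : Algebra B' B₂) (_ : Algebra A' B₂) (_ : IsScalarTower A' B' B₂) (_ : IsScalarTower A' A₂ B₂)
      (_ : IsScalarTower B B' B₂) (_ : Module B' N₂) (_ : IsScalarTower B' B₂ N₂) (g' : N' →ₗ[B'] N₂),
      FlatCA.IsImpurity A' B' N' p' A₂ B₂ N₂ g' s' s P₂ := by
  obtain ⟨hpush, hg, hss, -, hP, hass, hno⟩ := h
  let ψ : B' →ₐ[A] B₂ := Algebra.pushoutDesc (R := A) (S := B) (R' := A') B' (IsScalarTower.toAlgHom A B B₂)
    ((IsScalarTower.toAlgHom A A₂ B₂).comp (IsScalarTower.toAlgHom A A' A₂)) fun x y => mul_comm _ _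
  letI : Algebra B' B₂ := ψ.toRingHom.toAlgebra
  letI : Algebra A' B₂ := ((algebraMap A₂ B₂).comp (algebraMap A' A₂)).toAlgebra
  haveI : IsScalarTower A' A₂ B₂ := IsScalarTower.of_algebraMap_eq fun _ => rfl
  haveI : IsScalarTower A' B' B₂ := IsScalarTower.of_algebraMap_eq fun x => by
    show algebraMap A₂ B₂ (algebraMap A' A₂ x) = ψ (algebraMap A' B' x)
    rw [Algebra.pushoutDesc_right]; rfl
  haveI : IsScalarTower B B' B₂ := IsScalarTower.of_algebraMap_eq fun x => by
    show algebraMap B B₂ x = ψ (algebraMap B B' x)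
    rw [Algebra.pushoutDesc_left]; rfl
  haveI : IsScalarTower A B' B₂ := IsScalarTower.of_algebraMap_eq fun x => (ψ.commutes x).symm
  letI : Module B' N₂ := Module.compHom N₂ (algebraMap B' B₂)
  haveI : IsScalarTower B' B₂ N₂ := IsScalarTower.of_algebraMap_smul fun _ _ => rfl
  haveI : IsScalarTower B B' N₂ := IsScalarTower.of_algebraMap_smul fun b w => by
    show algebraMap B' B₂ (algebraMap B B' b) • w = b • w
    rw [← IsScalarTower.algebraMap_apply, IsScalarTower.algebraMap_smul]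
  let g' : N' →ₗ[B'] N₂ := hf.lift g
  have hg' : IsBaseChange B₂ g' := IsBaseChange.of_comp hf (by
    rw [show (g' : N' →ₗ[B] N₂) ∘ₗ f = g from hf.lift_comp g]
    exact hg)
  haveI : Algebra.IsPushout A A' B B' := Algebra.IsPushout.symm inferInstance
  haveI : Algebra.IsPushout A A₂ B B₂ := hpush.symm
  have hpush' : Algebra.IsPushout A' B' A₂ B₂ :=
    ((Algebra.IsPushout.comp_iff (R := A) (S := A') (R' := B) (S' := B') (T := A₂) (T' := B₂)).mp inferInstance).symm
  exact ⟨_, _, inferInstance, inferInstance, inferInstance, _, inferInstance, g', hpush', hg', hss, ‹_›, hP, hass, hno⟩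

end Groth.Agent.RGFlat.Impurity

namespace Groth.Agent.RGFlat.Impurity

section Descend

variable {A₂ B₂ N₂ C BC NC : Type u} [CommRing A₂] [CommRing B₂] [Algebra A₂ B₂] [AddCommGroup N₂] [Module B₂ N₂]
  [CommRing C] [CommRing BC] [Algebra A₂ C] [Algebra B₂ BC] [Algebra C BC] [Algebra A₂ BC]
  [IsScalarTower A₂ B₂ BC] [IsScalarTower A₂ C BC]
  [AddCommGroup NC] [Module BC NC] [Module B₂ NC] [IsScalarTower B₂ BC NC]

/-- The relative assassin maps to the relative assassin under base change. -/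
theorem assoc_comap [Algebra.FiniteType A₂ B₂] [Module.Finite B₂ N₂] (hpush : Algebra.IsPushout A₂ B₂ C BC)
    (f : N₂ →ₗ[B₂] NC) (hf : IsBaseChange BC f) (a : Ideal A₂) [a.IsPrime] (c : Ideal C) [c.IsPrime]
    (hca : c.comap (algebraMap A₂ C) = a) (Pc : Ideal BC) [Pc.IsPrime] [hPc : Pc.LiesOver c]
    (hass : FlatCA.fiberIdeal c Pc ∈ associatedPrimes (c.Fiber BC) (FlatCA.fiberMod c BC NC)) :
    (Pc.comap (algebraMap B₂ BC)).LiesOver a ∧
      FlatCA.fiberIdeal a (Pc.comap (algebraMap B₂ BC)) ∈ associatedPrimes (a.Fiber B₂) (FlatCA.fiberMod a B₂ N₂) := by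
  classical
  let Pa := Pc.comap (algebraMap B₂ BC)
  have hover : Pa.LiesOver a := ⟨by
    rw [← hca, hPc.over, Ideal.under_def, Ideal.under_def, Ideal.comap_comap, Ideal.comap_comap,
      ← IsScalarTower.algebraMap_eq, ← IsScalarTower.algebraMap_eq]⟩
  haveI : Pa.IsPrime := Ideal.comap_isPrime _ _
  refine ⟨hover, ?_⟩
  haveI := hpush
  haveI : Algebra.IsPushout A₂ C B₂ BC := hpush.symm
  haveI : Algebra.FiniteType C BC :=
    Algebra.FiniteType.equiv (inferInstance : Algebra.FiniteType C (C ⊗[A₂] B₂)) (Algebra.IsPushout.equiv A₂ C B₂ BC)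
  haveI : Module.Finite BC NC := Module.Finite.equiv hf.equiv
  let Ta := a.Fiber B₂
  let Tc := c.Fiber BC
  haveI : IsNoetherianRing Ta := Groth.Agent.RGFlat.isNoetherianRing_fiber (S := B₂) a
  haveI : IsNoetherianRing Tc := Groth.Agent.RGFlat.isNoetherianRing_fiber (S := BC) c
  let i : a.ResidueField →ₐ[A₂] c.ResidueField := Ideal.ResidueField.mapₐ a c (Algebra.ofId A₂ C) hca.symm
  letI : Algebra a.ResidueField c.ResidueField := i.toRingHom.toAlgebra
  haveI : IsScalarTower A₂ a.ResidueField c.ResidueField :=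
    IsScalarTower.of_algebraMap_eq fun x => (i.commutes x).symm
  letI : Algebra B₂ Tc := ((algebraMap BC Tc).comp (algebraMap B₂ BC)).toAlgebra
  haveI : IsScalarTower B₂ BC Tc := IsScalarTower.of_algebraMap_eq fun _ => rfl
  haveI : IsScalarTower A₂ B₂ Tc := IsScalarTower.of_algebraMap_eq fun x => by
    show _ = algebraMap BC Tc (algebraMap B₂ BC (algebraMap A₂ B₂ x))
    rw [← IsScalarTower.algebraMap_apply A₂ B₂ BC, IsScalarTower.algebraMap_apply A₂ C BC,
      ← IsScalarTower.algebraMap_apply C BC Tc, ← IsScalarTower.algebraMap_apply A₂ C Tc]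
  haveI : IsScalarTower A₂ BC Tc := IsScalarTower.of_algebraMap_eq fun x => by
    rw [IsScalarTower.algebraMap_apply A₂ C BC, ← IsScalarTower.algebraMap_apply C BC Tc,
      ← IsScalarTower.algebraMap_apply A₂ C Tc]
  let θ : Ta →ₐ[A₂] Tc := Algebra.TensorProduct.lift
    ((IsScalarTower.toAlgHom A₂ c.ResidueField Tc).comp i) (IsScalarTower.toAlgHom A₂ B₂ Tc)
    fun _ _ => Commute.all _ _
  letI : Algebra Ta Tc := θ.toRingHom.toAlgebra
  haveI : IsScalarTower a.ResidueField Ta Tc := IsScalarTower.of_algebraMap_eq fun x => by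
    show algebraMap c.ResidueField Tc (i x) = θ (x ⊗ₜ 1)
    rw [Algebra.TensorProduct.lift_tmul, map_one, mul_one]; rfl
  haveI : IsScalarTower B₂ Ta Tc := IsScalarTower.of_algebraMap_eq fun x => by
    show _ = θ (1 ⊗ₜ x)
    rw [Algebra.TensorProduct.lift_tmul, map_one, one_mul]; rfl
  haveI : IsScalarTower A₂ Ta Tc := IsScalarTower.of_algebraMap_eq fun x => (θ.commutes x).symm
  haveI : IsScalarTower a.ResidueField c.ResidueField Tc := inferInstance
  haveI h1 : Algebra.IsPushout C c.ResidueField BC Tc := inferInstance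
  have h2 : Algebra.IsPushout A₂ c.ResidueField B₂ Tc :=
    (Algebra.IsPushout.comp_iff (R := A₂) (S := C) (R' := B₂) (S' := BC) (T := c.ResidueField) (T' := Tc)).mpr h1
  haveI : Algebra.IsPushout A₂ a.ResidueField B₂ Ta := inferInstance
  haveI h3 : Algebra.IsPushout a.ResidueField c.ResidueField Ta Tc :=
    (Algebra.IsPushout.comp_iff (R := A₂) (S := a.ResidueField) (R' := B₂) (S' := Ta) (T := c.ResidueField) (T' := Tc)).mp h2
  let Fc := FlatCA.fiberMod c BC NC
  let Fa := FlatCA.fiberMod a B₂ N₂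
  letI : Module B₂ Fc := Module.compHom Fc (algebraMap B₂ Tc)
  haveI : IsScalarTower B₂ Tc Fc := IsScalarTower.of_algebraMap_smul fun _ _ => rfl
  letI : Module Ta Fc := Module.compHom Fc (algebraMap Ta Tc)
  haveI : IsScalarTower Ta Tc Fc := IsScalarTower.of_algebraMap_smul fun _ _ => rfl
  haveI : IsScalarTower B₂ Ta Fc := IsScalarTower.of_algebraMap_smul fun x w => by
    show algebraMap Ta Tc (algebraMap B₂ Ta x) • w = algebraMap B₂ Tc x • w
    rw [← IsScalarTower.algebraMap_apply]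
  haveI : IsScalarTower BC Tc Fc := inferInstanceAs (IsScalarTower BC Tc (Tc ⊗[BC] NC))
  haveI : IsScalarTower B₂ BC Fc := IsScalarTower.of_algebraMap_smul fun x w => by
    show algebraMap B₂ BC x • w = algebraMap B₂ Tc x • w
    rw [IsScalarTower.algebraMap_apply B₂ BC Tc]
    exact (IsScalarTower.algebraMap_smul Tc _ w).symm
  haveI : IsScalarTower B₂ Ta Fa := inferInstanceAs (IsScalarTower B₂ Ta (Ta ⊗[B₂] N₂))
  have hc : IsBaseChange Tc (FlatCA.toFiberMod c BC NC) := TensorProduct.isBaseChange BC NC Tc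
  have hac : IsBaseChange Tc ((FlatCA.toFiberMod c BC NC).restrictScalars B₂ ∘ₗ f) := hf.comp hc
  have ha : IsBaseChange Ta (FlatCA.toFiberMod a B₂ N₂) := TensorProduct.isBaseChange B₂ N₂ Ta
  let g : Fa →ₗ[Ta] Fc := ha.lift ((FlatCA.toFiberMod c BC NC).restrictScalars B₂ ∘ₗ f)
  have hg : IsBaseChange Tc g := IsBaseChange.of_comp ha (by
    rw [show (g : Fa →ₗ[B₂] Fc) ∘ₗ FlatCA.toFiberMod a B₂ N₂ = _ from ha.lift_comp _]
    exact hac)
  haveI : (FlatCA.fiberIdeal c Pc).IsPrime := hass.1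
  obtain ⟨x, hx⟩ := (isAssociatedPrime_iff.mp hass).2
  have hw : FlatCA.fiberIdeal c Pc ∈ FlatCA.weakAss Tc Fc := by
    refine Groth.Agent.WeakAss.mem_weakAss_of_mem_ass ⟨inferInstance, x, hx.trans ?_⟩
    ext y
    rw [Groth.Agent.WeakAss.mem_ann, Submodule.mem_colon_singleton, Submodule.mem_bot]
  have hq := Groth.Agent.S9592.result (k := a.ResidueField) (K := c.ResidueField) (R := Ta) Tc Fa Fc g hg
    (FlatCA.fiberIdeal c Pc) hw
  let Qa := (FlatCA.fiberIdeal c Pc).comap (algebraMap Ta Tc)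
  haveI : Qa.IsPrime := Ideal.comap_isPrime _ _
  have hQa : Qa.comap (Algebra.TensorProduct.includeRight (R := A₂) (A := a.ResidueField) (B := B₂)).toRingHom = Pa := by
    show Ideal.comap _ (Ideal.comap _ _) = Ideal.comap _ Pc
    rw [Ideal.comap_comap]
    conv_rhs => rw [← Groth.Agent.FlatMisc.Fiber.comap_fiberIdeal c Pc, Ideal.comap_comap]
    congr 1
    ext y
    show θ (1 ⊗ₜ y) = _
    rw [Algebra.TensorProduct.lift_tmul, map_one, one_mul]; rfl
  have heq : FlatCA.fiberIdeal a Pa = Qa := by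
    refine le_antisymm (Ideal.map_le_iff_le_comap.mpr hQa.ge) fun b hb => ?_
    obtain ⟨r, hr, z, hz⟩ := Ideal.Fiber.exists_smul_eq_one_tmul a b
    have hz' : z ∈ Pa := by
      rw [← hQa]
      show (1 : a.ResidueField) ⊗ₜ[A₂] z ∈ Qa
      rw [← hz]
      have := Qa.mul_mem_left (algebraMap A₂ Ta r) hb
      rwa [← Algebra.smul_def] at this
    have h4 : (1 : a.ResidueField) ⊗ₜ[A₂] z ∈ FlatCA.fiberIdeal a Pa := Ideal.mem_map_of_mem _ hz'
    rw [← hz] at h4
    replace h4 : algebraMap A₂ Ta r * b ∈ FlatCA.fiberIdeal a Pa := by rwa [← Algebra.smul_def]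
    rw [IsScalarTower.algebraMap_apply A₂ a.ResidueField Ta] at h4
    refine (Ideal.unit_mul_mem_iff_mem _ (IsUnit.map _ ?_)).mp h4
    rw [isUnit_iff_ne_zero, Ne, Ideal.algebraMap_residueField_eq_zero]
    exact hr
  rw [heq]
  obtain ⟨-, m, hm⟩ := Groth.Agent.WeakAss.mem_ass_of_fg (IsNoetherian.noetherian Qa) hq
  refine isAssociatedPrime_iff.mpr ⟨inferInstance, m, hm.trans ?_⟩
  ext y
  rw [Groth.Agent.WeakAss.mem_ann, Submodule.mem_colon_singleton, Submodule.mem_bot]

end Descend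

end Groth.Agent.RGFlat.Impurity
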