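import Groth.Agent.RGFlat.ImpurityQF
import Groth.Agent.RGFlat.ImpurityDescend
import Groth.Agent.HP.Apps
import Groth.Agent.HP.Transfer
import Groth.Agent.Hens.Unique
import Groth.Agent.S1217

/-!
Purity of flat modules over a henselian base.
-/

set_option autoImplicit false

universe u

open TensorProduct

attribute [local instance] Algebra.TensorProduct.rightAlgebra

namespace Groth.Agent.RGFlat.Impurity

/-- Base change of a projective localized module. -/
theorem projective_ascend {A Ah SA Sh : Type u} [CommRing A] [CommRing Ah] [CommRing SA] [CommRing Sh] [Algebra A Ah]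
    [Algebra A SA] [Algebra Ah Sh] [Algebra SA Sh] [Algebra A Sh] [IsScalarTower A SA Sh] [IsScalarTower A Ah Sh]
    [Algebra.IsPushout A SA Ah Sh] {M : Type u} [AddCommGroup M] [Module SA M] [Module A M] [IsScalarTower A SA M]
    (g : SA) [Module.Projective A (LocalizedModule (Submonoid.powers g) M)] :
    Module.Projective Ah (LocalizedModule (Submonoid.powers (algebraMap SA Sh g)) (Sh ⊗[SA] M)) := by
  let S := Submonoid.powers g
  let η := LocalizedModule.mkLinearMap S M
  let f : Sh ⊗[SA] M →ₗ[Sh] Sh ⊗[SA] LocalizedModule S M := η.baseChange Sh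
  haveI : IsLocalizedModule S (f.restrictScalars SA) := by
    haveI h0 : IsLocalizedModule S (AlgebraTensorModule.rTensor SA Sh η) := inferInstance
    haveI h1 : IsLocalizedModule S ((AlgebraTensorModule.rTensor SA Sh η).comp (TensorProduct.comm SA Sh M).toLinearMap) :=
      IsLocalizedModule.of_linearEquiv_right S _ _
    haveI h2 := IsLocalizedModule.of_linearEquiv S
      ((AlgebraTensorModule.rTensor SA Sh η).comp (TensorProduct.comm SA Sh M).toLinearMap)
      (TensorProduct.comm SA (LocalizedModule S M) Sh)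
    convert h2 using 1
    refine LinearMap.ext fun v => ?_
    induction v with
    | zero => simp
    | tmul a m => simp [f]
    | add a b ha hb => simp only [map_add, ha, hb]
  let f' := LocalizedModule.mkLinearMap (Submonoid.powers (algebraMap SA Sh g)) (Sh ⊗[SA] M)
  haveI : IsLocalizedModule S (f'.restrictScalars SA) :=
    RGFlat.isLocalizedModule_away_restrict (P := SA) (S := Sh) (M := Sh ⊗[SA] M) g
  obtain ⟨e⟩ := HP.exists_linearEquiv_of_localized (T := Sh)
    (X'' := LocalizedModule (Submonoid.powers (algebraMap SA Sh g)) (Sh ⊗[SA] M)) S f f'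
  haveI : Algebra.IsPushout A Ah SA Sh := Algebra.IsPushout.symm inferInstance
  haveI : Module.Projective Ah (Sh ⊗[SA] LocalizedModule S M) :=
    Module.Projective.of_equiv (Algebra.IsPushout.cancelBaseChange A Ah SA Sh (LocalizedModule S M)).symm
  exact Module.Projective.of_equiv (e.restrictScalars Ah)

/-- An associated point of the generic fibre in a projective neighbourhood meets the closed fibre. -/
theorem exists_above_of_projective {T S : Type u} [CommRing T] [IsDomain T] [IsLocalRing T] [CommRing S]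
    [Algebra T S] [Algebra.FiniteType T S] {M : Type u} [AddCommGroup M] [Module S M] [Module T M]
    [IsScalarTower T S M] [Module.Finite S M] (g : S) [Module.Projective T (LocalizedModule (Submonoid.powers g) M)]
    (P : Ideal S) [P.IsPrime] [P.LiesOver (⊥ : Ideal T)] (hgP : g ∉ P)
    (hass : FlatCA.fiberIdeal (⊥ : Ideal T) P ∈ associatedPrimes ((⊥ : Ideal T).Fiber S) (FlatCA.fiberMod (⊥ : Ideal T) S M)) :
    ∃ Q : Ideal S, Q.IsPrime ∧ P ≤ Q ∧ Q.LiesOver (IsLocalRing.maximalIdeal T) := by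
  classical
  let C := Localization.Away g
  let W := LocalizedModule (Submonoid.powers g) M
  haveI : IsScalarTower T C W := IsScalarTower.of_algebraMap_smul fun a x => by
    rw [IsScalarTower.algebraMap_apply T S C, IsScalarTower.algebraMap_smul, IsScalarTower.algebraMap_smul]
  haveI : Module.Finite C W :=
    Module.Finite.of_isLocalizedModule (Submonoid.powers g) (LocalizedModule.mkLinearMap _ M)
  haveI : Algebra.FiniteType S C := IsLocalization.finiteType_of_monoid_fg (Submonoid.powers g) _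
  haveI : Algebra.FiniteType T C := Algebra.FiniteType.trans (inferInstance : Algebra.FiniteType T S) inferInstance
  haveI : IsNoetherianRing ((IsLocalRing.maximalIdeal T).Fiber C) := isNoetherianRing_fiber (S := C) _
  haveI : Module.Finite ((IsLocalRing.maximalIdeal T).Fiber C) (FlatCA.fiberMod (IsLocalRing.maximalIdeal T) C W) :=
    finite_fiberMod (S := C) (N := W) _
  have hd : Disjoint (Submonoid.powers g : Set S) P :=
    (Ideal.disjoint_powers_iff_notMem _ (Ideal.IsPrime.isRadical ‹_›)).mpr hgP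
  let PC := P.map (algebraMap S C)
  haveI : PC.IsPrime := IsLocalization.isPrime_of_isPrime_disjoint (Submonoid.powers g) C P ‹_› hd
  have hPC : PC.comap (algebraMap S C) = P :=
    IsLocalization.under_map_of_isPrime_disjoint (Submonoid.powers g) C ‹_› hd
  haveI : PC.LiesOver (⊥ : Ideal T) := ⟨by
    rw [Ideal.under_def, IsScalarTower.algebraMap_eq T S C, ← Ideal.comap_comap, hPC, ← Ideal.under_def]
    exact P.over_def (⊥ : Ideal T)⟩
  obtain ⟨n, hn⟩ := exists_elem (⊥ : Ideal T) P hass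
  let j := LocalizedModule.mkLinearMap (Submonoid.powers g) M
  have hzero : ∀ w : W, w ⊗ₜ[T] (1 : (⊥ : Ideal T).ResidueField) = 0 ↔ ∃ r : T, r ≠ 0 ∧ r • w = 0 := by
    refine fun w => ⟨fun hw => ?_, ?_⟩
    · have h1 := congrArg (TensorProduct.comm T W (⊥ : Ideal T).ResidueField) hw
      rw [map_zero, TensorProduct.comm_tmul] at h1
      obtain ⟨r, hr, hrw⟩ := CAlgA.FibreMod.exists_smul_mem W (⊥ : Ideal T)
        ((congrArg (spread (B₁ := C) (N := W) (⊥ : Ideal T).ResidueField) h1).trans (map_zero _))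
      rw [CAlgA.FibreMod.pN, Ideal.map_bot, Submodule.bot_smul, Submodule.mem_bot,
        IsScalarTower.algebraMap_smul] at hrw
      exact ⟨r, fun h0 => hr (h0 ▸ zero_mem _), hrw⟩
    · rintro ⟨r, hr, hrw⟩
      have hu : IsUnit (algebraMap T (⊥ : Ideal T).ResidueField r) :=
        isUnit_iff_ne_zero.mpr (by rwa [Ne, Ideal.algebraMap_residueField_eq_zero, Submodule.mem_bot])
      obtain ⟨v, hv⟩ := hu.exists_right_inv
      rw [← hv, ← Algebra.smul_def, ← TensorProduct.smul_tmul, hrw, TensorProduct.zero_tmul]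
  have hkey : ∀ c : S, c ∈ P ↔ ∃ r : T, r ≠ 0 ∧ r • (c • j n) = 0 := by
    intro c
    constructor
    · intro hc
      obtain ⟨r, hr, hrc⟩ := CAlgA.FibreMod.exists_smul_mem M (⊥ : Ideal T) ((hn c).mp hc)
      rw [CAlgA.FibreMod.pN, Ideal.map_bot, Submodule.bot_smul, Submodule.mem_bot,
        IsScalarTower.algebraMap_smul] at hrc
      exact ⟨r, fun h0 => hr (h0 ▸ zero_mem _), by rw [← map_smul, ← LinearMap.map_smul_of_tower, hrc, map_zero]⟩
    · rintro ⟨r, hr, hrc⟩
      rw [← map_smul, ← LinearMap.map_smul_of_tower, IsLocalizedModule.eq_zero_iff (Submonoid.powers g) j] at hrc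
      obtain ⟨⟨_, k, rfl⟩, hk⟩ := hrc
      have : g ^ k * (algebraMap T S r * c) ∈ P := (hn _).mpr (by
        rw [mul_smul, mul_smul, IsScalarTower.algebraMap_smul, show g ^ k • (r • c • n) = 0 from hk, map_zero])
      refine ((Ideal.IsPrime.mem_or_mem inferInstance ((Ideal.IsPrime.mem_or_mem inferInstance this).resolve_left
        fun h => hgP (Ideal.IsPrime.mem_of_pow_mem inferInstance k h)))).resolve_left fun h => hr ?_
      have := (P.over_def (⊥ : Ideal T)).ge h
      rwa [Submodule.mem_bot] at this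
  have hq : PC ∈ FlatCA.ass C (W ⊗[T] (⊥ : Ideal T).ResidueField) := by
    refine ⟨inferInstance, j n ⊗ₜ[T] (1 : (⊥ : Ideal T).ResidueField), ?_⟩
    ext b
    rw [Groth.Agent.WeakAss.mem_ann, TensorProduct.smul_tmul', hzero]
    obtain ⟨c, s, rfl⟩ := IsLocalization.exists_mk'_eq (Submonoid.powers g) b
    rw [show PC = P.map (algebraMap S C) from rfl, IsLocalization.mk'_mem_map_algebraMap_iff (Submonoid.powers g) C]
    constructor
    · rintro ⟨s', hs', hc⟩
      obtain ⟨r, hr, hrc⟩ := (hkey _).mp hc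
      refine ⟨r, hr, ?_⟩
      have hu : IsUnit (algebraMap S C (s' * (s : S))) := by
        rw [map_mul]; exact (IsLocalization.map_units C ⟨s', hs'⟩).mul (IsLocalization.map_units C s)
      rw [← hu.smul_eq_zero, smul_comm, smul_smul, map_mul, mul_assoc,
        mul_comm (algebraMap S C (s : S)), IsLocalization.mk'_spec, ← map_mul, IsScalarTower.algebraMap_smul]
      exact hrc
    · rintro ⟨r, hr, hrb⟩
      refine ⟨1, one_mem _, (hkey _).mpr ⟨r, hr, ?_⟩⟩
      rw [one_mul, ← IsScalarTower.algebraMap_smul C c (j n), ← IsLocalization.mk'_spec C c s, mul_comm, mul_smul,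
        IsScalarTower.algebraMap_smul, smul_comm, hrb, smul_zero]
  have hne := Groth.Agent.S1212.result W (⊥ : Ideal T) PC hq
  obtain ⟨Q, hQ, hle⟩ := Ideal.exists_le_maximal _ hne
  haveI := hQ.isPrime
  refine ⟨Q.comap (algebraMap S C), Ideal.comap_isPrime _ _, hPC ▸ Ideal.comap_mono (le_sup_left.trans hle), ⟨?_⟩⟩
  rw [Ideal.under_def, Ideal.comap_comap, ← IsScalarTower.algebraMap_eq]
  exact (IsLocalRing.maximalIdeal.isMaximal T).eq_of_le (Ideal.comap_ne_top _ hQ.ne_top)
    (Ideal.map_le_iff_le_comap.mp (le_sup_right.trans hle))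

/-- Over the henselization, finitely many projective neighbourhoods cover the closed fibre. -/
theorem exists_projective_cover {A B : Type u} [CommRing A] [CommRing B] [Algebra A B] [Algebra.FiniteType A B]
    (N : Type u) [AddCommGroup N] [Module B N] [Module A N] [IsScalarTower A B N] [Module.Finite B N]
    (p : Ideal A) [p.IsPrime] (hflat : ∀ (q : Ideal B) [q.IsPrime], q.LiesOver p → FlatCA.FlatAt A q N) :
    ∃ (ι : Type u) (_ : Finite ι) (g : ι → HP.Sp p B),
      (∀ i, Module.Projective (HP.Hp p) (LocalizedModule (Submonoid.powers (g i)) (HP.Sp p B ⊗[B] N))) ∧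
      ∀ (Qh : Ideal (HP.Sp p B)) [Qh.IsPrime], Qh.LiesOver (IsLocalRing.maximalIdeal (HP.Hp p)) → ∃ i, g i ∉ Qh := by
  classical
  have key : ∀ (Qh : PrimeSpectrum (HP.Sp p B)), Qh.asIdeal.LiesOver (IsLocalRing.maximalIdeal (HP.Hp p)) →
      ∃ g ∉ Qh.asIdeal, Module.Projective (HP.Hp p) (LocalizedModule (Submonoid.powers g) (HP.Sp p B ⊗[B] N)) := by
    intro Qh hQ
    haveI := hQ
    haveI : Qh.asIdeal.LiesOver (Qh.asIdeal.comap (algebraMap B (HP.Sp p B))) := ⟨rfl⟩
    obtain ⟨g, hg, -, hproj⟩ := HP.exists_hensel_nbhd p N (Qh.asIdeal.comap (algebraMap B (HP.Sp p B))) Qh.asIdeal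
      (hflat _ (HP.liesOver_comap p Qh.asIdeal))
    have h1 : (1 : HP.Sp p B) ∉ Qh.asIdeal := fun h => Qh.2.ne_top ((Ideal.eq_top_iff_one _).mpr h)
    refine ⟨g * 1, Qh.asIdeal.primeCompl.mul_mem hg h1, hproj 1 h1⟩
  choose g hg hproj using key
  obtain ⟨ι, _, c, hc, hcov⟩ := HP.exists_finite_cover p g hg
  exact ⟨ι, inferInstance, fun i => g (c i) (hc i), fun i => hproj _ _, hcov⟩

theorem liesOver_max (A : Type u) [CommRing A] (p : Ideal A) [p.IsPrime] :
    (IsLocalRing.maximalIdeal (HP.Hp p)).LiesOver p := ⟨Ideal.ext fun a => by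
  rw [Ideal.under_def, Ideal.mem_comap, HP.mem_max_iff, AlgHom.commutes, Ideal.algebraMap_residueField_eq_zero]⟩

/-- Purity along the fibre gives specialisations over the henselization. -/
theorem exists_specialization_of_isPureAlong {A B : Type u} [CommRing A] [CommRing B] [Algebra A B]
    [Algebra.FiniteType A B] {N : Type u} [AddCommGroup N] [Module B N] [Module.Finite B N] {p : Ideal A} [p.IsPrime]
    (hpure : FlatCA.IsPureAlong A B N p) (t' : Ideal (HP.Hp p)) [t'.IsPrime] (Q : Ideal (HP.Sp p B)) [Q.IsPrime]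
    [Q.LiesOver t']
    (hass : FlatCA.fiberIdeal t' Q ∈ associatedPrimes (t'.Fiber (HP.Sp p B)) (FlatCA.fiberMod t' (HP.Sp p B) (HP.Sp p B ⊗[B] N))) :
    ∃ Q' : Ideal (HP.Sp p B), Q'.IsPrime ∧ Q ≤ Q' ∧ Q'.LiesOver (IsLocalRing.maximalIdeal (HP.Hp p)) := by
  classical
  by_contra hc
  push Not at hc
  haveI := liesOver_max A p
  haveI : IsScalarTower A B (HP.Sp p B) := IsScalarTower.of_algebraMap_eq fun a => by
    show algebraMap A (HP.Hp p) a ⊗ₜ[A] (1 : B) = (1 : HP.Hp p) ⊗ₜ[A] algebraMap A B a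
    rw [Algebra.algebraMap_eq_smul_one, Algebra.algebraMap_eq_smul_one, TensorProduct.smul_tmul]
  haveI : Algebra.IsPushout A B (HP.Hp p) (HP.Sp p B) := Algebra.IsPushout.symm inferInstance
  have himp : FlatCA.IsImpurity A B N p (HP.Hp p) (HP.Sp p B) (HP.Sp p B ⊗[B] N) (TensorProduct.mk B _ N 1) t'
      (IsLocalRing.maximalIdeal (HP.Hp p)) Q :=
    ⟨inferInstance, TensorProduct.isBaseChange B N _, IsLocalRing.le_maximalIdeal (Ideal.IsPrime.ne_top inferInstance),
      inferInstance, inferInstance, hass, fun P' hP' hle hover => hc P' hP' hle hover⟩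
  obtain ⟨F, hF⟩ := exists_descend himp
  obtain ⟨R, _, _, het, θ, hθ⟩ := Hens.exists_stage_finset (R := A) (K := p.ResidueField) F
  letI : Algebra R (HP.Hp p) := θ.toRingHom.toAlgebra
  haveI : IsScalarTower A R (HP.Hp p) := IsScalarTower.of_algebraMap_eq fun a => (θ.commutes a).symm
  obtain ⟨BR, NR, _, _, _, _, _, _, _, _, _, _, _, _, g, PR, _, s, hs, hI⟩ := hF R fun a ha => hθ a ha
  let a := (IsLocalRing.maximalIdeal (HP.Hp p)).comap (algebraMap R (HP.Hp p))
  haveI : a.IsPrime := Ideal.comap_isPrime _ _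
  haveI : a.LiesOver p := ⟨by
    show p = ((IsLocalRing.maximalIdeal (HP.Hp p)).comap (algebraMap R (HP.Hp p))).comap (algebraMap A R)
    rw [Ideal.comap_comap, ← IsScalarTower.algebraMap_eq, ← Ideal.under_def,
      ← Ideal.over_def (IsLocalRing.maximalIdeal (HP.Hp p)) p]⟩
  haveI : (t'.comap (algebraMap R (HP.Hp p))).IsPrime := Ideal.comap_isPrime _ _
  refine hpure R BR NR g (t'.comap (algebraMap R (HP.Hp p))) a PR ⟨het, inferInstance, RingHom.injective _, fun z => ?_⟩
    (hI a le_rfl hs inferInstance)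
  let l : R →ₐ[A] p.ResidueField := (Hens.point A p.ResidueField).comp θ
  have hker : ∀ r, l r = 0 ↔ r ∈ a := fun r => (HP.mem_max_iff p (θ r)).symm
  let lk : a.ResidueField →ₐ[A] p.ResidueField :=
    Ideal.ResidueField.liftₐ a l (fun r hr => (hker r).mpr hr)
      (fun r hr => isUnit_iff_ne_zero.mpr fun h0 => hr ((hker r).mp h0))
  refine ⟨lk z, lk.toRingHom.injective ?_⟩
  show lk (Ideal.ResidueField.mapₐ p a (Algebra.ofId A R) _ (lk z)) = lk z
  have : lk.comp (Ideal.ResidueField.mapₐ p a (Algebra.ofId A R) (Ideal.over_def a p)) = AlgHom.id A _ :=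
    Ideal.ResidueField.algHom_ext (Subsingleton.elim _ _)
  exact AlgHom.congr_fun this (lk z)

/-- No impurity over a local domain sees a projective neighbourhood of the closed fibre. -/
theorem false_of_projective_cover {Ah BH NH : Type u} [CommRing Ah] [IsLocalRing Ah] [CommRing BH] [Algebra Ah BH]
    [Algebra.FiniteType Ah BH] [AddCommGroup NH] [Module BH NH] [Module Ah NH] [IsScalarTower Ah BH NH]
    [Module.Finite BH NH] {ι : Type u} (g : ι → BH)
    (hproj : ∀ i, Module.Projective Ah (LocalizedModule (Submonoid.powers (g i)) NH))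
    (hcov : ∀ (Qh : Ideal BH) [Qh.IsPrime], Qh.LiesOver (IsLocalRing.maximalIdeal Ah) → ∃ i, g i ∉ Qh)
    (hspec : ∀ (t' : Ideal Ah) [t'.IsPrime] (Q : Ideal BH) [Q.IsPrime] [Q.LiesOver t'],
      FlatCA.fiberIdeal t' Q ∈ associatedPrimes (t'.Fiber BH) (FlatCA.fiberMod t' BH NH) →
      ∃ Q' : Ideal BH, Q'.IsPrime ∧ Q ≤ Q' ∧ Q'.LiesOver (IsLocalRing.maximalIdeal Ah))
    {T B₂ N₂ : Type u} [CommRing T] [IsDomain T] [IsLocalRing T] [CommRing B₂] [Algebra Ah T] [Algebra BH B₂]
    [Algebra T B₂] [Algebra Ah B₂] [IsScalarTower Ah BH B₂] [IsScalarTower Ah T B₂]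
    [AddCommGroup N₂] [Module B₂ N₂] [Module BH N₂] [IsScalarTower BH B₂ N₂] [Module T N₂] [IsScalarTower T B₂ N₂]
    {g' : NH →ₗ[BH] N₂} {P₂ : Ideal B₂} [P₂.IsPrime] [(⊥ : Ideal T).IsPrime]
    (hI : FlatCA.IsImpurity Ah BH NH (IsLocalRing.maximalIdeal Ah) T B₂ N₂ g' (⊥ : Ideal T) (IsLocalRing.maximalIdeal T) P₂) :
    False := by
  obtain ⟨hpush', hbc, -, -, hP₂, hass₂, hno⟩ := hI
  haveI := hP₂
  haveI := hpush'
  obtain ⟨hQr, hassQ⟩ := assoc_comap hpush' g' hbc ((⊥ : Ideal T).comap (algebraMap Ah T)) (⊥ : Ideal T) rfl P₂ hass₂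
  haveI := hQr
  haveI : (P₂.comap (algebraMap BH B₂)).IsPrime := Ideal.comap_isPrime _ _
  haveI : ((⊥ : Ideal T).comap (algebraMap Ah T)).IsPrime := Ideal.comap_isPrime _ _
  obtain ⟨Q', _, hle, hQ'⟩ := hspec ((⊥ : Ideal T).comap (algebraMap Ah T)) (P₂.comap (algebraMap BH B₂)) hassQ
  obtain ⟨i, hi⟩ := hcov Q' hQ'
  haveI := hproj i
  haveI := projective_ascend (A := Ah) (Ah := T) (Sh := B₂) (M := NH) (g i)
  haveI : Algebra.IsPushout Ah T BH B₂ := hpush'.symm
  haveI : Algebra.FiniteType T B₂ :=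
    Algebra.FiniteType.equiv (inferInstance : Algebra.FiniteType T (T ⊗[Ah] BH))
      (Algebra.IsPushout.equiv Ah T BH B₂)
  haveI : Module.Finite B₂ N₂ := Module.Finite.equiv hbc.equiv
  haveI : Module.Projective T (LocalizedModule (Submonoid.powers (algebraMap BH B₂ (g i))) N₂) :=
    Module.Projective.of_equiv (((HP.locEquiv _ hbc.equiv).restrictScalars B₂).restrictScalars T)
  obtain ⟨Q, hQ, hPQ, hQm⟩ := exists_above_of_projective (algebraMap BH B₂ (g i)) P₂
    (fun h => hi (hle h)) hass₂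
  haveI := hQ
  exact hno Q hPQ hQm

/-- A module flat along a fibre whose relative assassin over the henselization specialises to the closed
fibre is universally pure along the fibre. -/
theorem isUnivPureAlong_of_specialization {A B : Type u} [CommRing A] [CommRing B] [Algebra A B]
    [Algebra.FiniteType A B] {N : Type u} [AddCommGroup N] [Module B N] [Module A N] [IsScalarTower A B N]
    [Module.Finite B N] {p : Ideal A} [p.IsPrime]
    (hflat : ∀ (q : Ideal B) [q.IsPrime], q.LiesOver p → FlatCA.FlatAt A q N)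
    (hspec : ∀ (t' : Ideal (HP.Hp p)) [t'.IsPrime] (Q : Ideal (HP.Sp p B)) [Q.IsPrime] [Q.LiesOver t'],
      FlatCA.fiberIdeal t' Q ∈ associatedPrimes (t'.Fiber (HP.Sp p B)) (FlatCA.fiberMod t' (HP.Sp p B) (HP.Sp p B ⊗[B] N)) →
      ∃ Q' : Ideal (HP.Sp p B), Q'.IsPrime ∧ Q ≤ Q' ∧ Q'.LiesOver (IsLocalRing.maximalIdeal (HP.Hp p))) :
    FlatCA.IsUnivPureAlong A B N p := by
  classical
  intro A₁ B₁ N₁ _ _ _ _ _ _ _ _ _ _ _ _ _ _ f t' t _ _ P _ himp
  obtain ⟨ι, _, g, hproj, hcov⟩ := exists_projective_cover N p hflat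
  haveI := himp.2.2.2.1
  haveI := liesOver_max A p
  let Ah := HP.Hp p
  let mx := IsLocalRing.maximalIdeal Ah
  haveI : Module.Flat Ah (Localization.AtPrime mx) := IsLocalization.flat (Localization.AtPrime mx) mx.primeCompl
  haveI : Module.Flat A (Localization.AtPrime mx) := Module.Flat.trans A Ah (Localization.AtPrime mx)
  obtain ⟨L, _, _, α₀, β₀, -⟩ := exists_field_maps p Ah A₁ mx t
  have hα : RingHom.ker (α₀.comp (IsScalarTower.toAlgHom A Ah mx.ResidueField)).toRingHom = mx :=
    Ideal.ext fun x => by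
      rw [RingHom.mem_ker]
      exact (map_eq_zero_iff _ (RingHom.injective α₀.toRingHom)).trans Ideal.algebraMap_residueField_eq_zero
  have hβ : RingHom.ker (β₀.comp (IsScalarTower.toAlgHom A A₁ t.ResidueField)).toRingHom = t :=
    Ideal.ext fun x => by
      rw [RingHom.mem_ker]
      exact (map_eq_zero_iff _ (RingHom.injective β₀.toRingHom)).trans Ideal.algebraMap_residueField_eq_zero
  obtain ⟨s', s, _, _, hss, -, hs', hs, hsp⟩ :=
    Groth.Agent.S1217.exists_points Ah A₁ mx t' t himp.2.2.1 L _ _ hα hβ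
  let D := Ah ⊗[A] A₁
  let π := Ideal.Quotient.mk s'
  let sb := s.map π
  have hsb : sb.comap π = s := by
    rw [Ideal.comap_map_of_surjective π Ideal.Quotient.mk_surjective, ← RingHom.ker_eq_comap_bot, Ideal.mk_ker,
      sup_eq_left.mpr hss]
  haveI : sb.IsPrime := Ideal.map_isPrime_of_surjective Ideal.Quotient.mk_surjective (by rw [Ideal.mk_ker]; exact hss)
  let T := Localization.AtPrime sb
  haveI : IsDomain T := IsLocalization.isDomain_localization sb.primeCompl_le_nonZeroDivisors
  have hbot : (⊥ : Ideal T).comap (algebraMap D T) = s' := by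
    rw [IsScalarTower.algebraMap_eq D (D ⧸ s') T, ← Ideal.comap_comap,
      Ideal.comap_bot_of_injective _ (IsLocalization.injective T sb.primeCompl_le_nonZeroDivisors),
      Ideal.Quotient.algebraMap_eq, ← RingHom.ker_eq_comap_bot, Ideal.mk_ker]
  have hmax : (IsLocalRing.maximalIdeal T).comap (algebraMap D T) = s := by
    rw [IsScalarTower.algebraMap_eq D (D ⧸ s') T, ← Ideal.comap_comap, ← Ideal.under_def (A := D ⧸ s'),
      IsLocalization.AtPrime.under_maximalIdeal T sb]
    exact hsb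
  obtain ⟨B₂, N₂, _, _, _, _, _, _, _, _, _, _, _, _, g₂, P₂, _, himp₂⟩ :=
    exists_isImpurity_baseChange himp T (⊥ : Ideal T) (IsLocalRing.maximalIdeal T) bot_le
      (by rw [IsScalarTower.algebraMap_eq A₁ D T, ← Ideal.comap_comap, hbot]; exact hs')
      (by rw [IsScalarTower.algebraMap_eq A₁ D T, ← Ideal.comap_comap, hmax]; exact hs)
  haveI : IsScalarTower A B (HP.Sp p B) := IsScalarTower.of_algebraMap_eq fun a => by
    show algebraMap A (HP.Hp p) a ⊗ₜ[A] (1 : B) = (1 : HP.Hp p) ⊗ₜ[A] algebraMap A B a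
    rw [Algebra.algebraMap_eq_smul_one, Algebra.algebraMap_eq_smul_one, TensorProduct.smul_tmul]
  haveI : Algebra.IsPushout A B Ah (HP.Sp p B) := Algebra.IsPushout.symm inferInstance
  haveI : (IsLocalRing.maximalIdeal T).LiesOver mx := ⟨by
    rw [Ideal.under_def, IsScalarTower.algebraMap_eq Ah D T, ← Ideal.comap_comap, hmax]
    exact hsp.over⟩
  obtain ⟨_, _, _, _, _, _, _, g', hI⟩ := exists_isImpurity_rebase (A' := Ah) (B' := HP.Sp p B)
    (N' := HP.Sp p B ⊗[B] N) (TensorProduct.mk B _ N 1) (TensorProduct.isBaseChange B N _) mx himp₂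
  exact false_of_projective_cover g hproj hcov hspec hI

end Groth.Agent.RGFlat.Impurity
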