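import Groth.Agent.RGFlat.Loc
import Groth.Agent.S1233
import Mathlib.RingTheory.Flat.Equalizer

/-!
Torsion of `N ⊗ M` for a finite flat module `N` over a local ring of a finite type algebra: no nonzero
element is killed by powers of every element of a set which no weakly associated prime of `M` contains.
-/

set_option autoImplicit false

universe u

open MvPolynomial TensorProduct

attribute [local instance] MvPolynomial.algebraMvPolynomial Algebra.TensorProduct.rightAlgebra

namespace Groth.Agent.RGFlat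

section Basic

variable {A : Type u} [CommRing A]

/-- No nonzero element is killed by powers of all elements of `J`. -/
def NilFree (J : Set A) (X : Type u) [AddCommGroup X] [Module A X] : Prop :=
  ∀ x : X, (∀ a ∈ J, ∃ k : ℕ, a ^ k • x = 0) → x = 0

/-- No weakly associated prime contains `J`. -/
def Cond (J : Set A) (M : Type u) [AddCommGroup M] [Module A M] : Prop :=
  ∀ v ∈ FlatCA.weakAss A M, ∃ a ∈ J, a ∉ v

theorem nilFree_of_cond {J : Set A} {M : Type u} [AddCommGroup M] [Module A M] (h : Cond J M) : NilFree J M := by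
  intro x hx
  by_contra hne
  have htop : (Submodule.span A {x}).annihilator ≠ ⊤ := fun htop =>
    hne (by
      have h1 : (1 : A) ∈ (Submodule.span A {x}).annihilator := by rw [htop]; trivial
      simpa using WeakAss.mem_ann.mp h1)
  obtain ⟨v, hv⟩ := Ideal.nonempty_minimalPrimes htop
  obtain ⟨a, haJ, hav⟩ := h v ⟨x, hv⟩
  obtain ⟨k, hk⟩ := hx a haJ
  exact hav (hv.1.1.mem_of_pow_mem k (hv.1.2 (WeakAss.mem_ann.mpr hk)))

theorem NilFree.of_injective {J : Set A} {X Y : Type u} [AddCommGroup X] [Module A X] [AddCommGroup Y] [Module A Y]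
    (f : X →ₗ[A] Y) (hf : Function.Injective f) (h : NilFree J Y) : NilFree J X := fun x hx =>
  hf ((h (f x) fun a ha => by
    obtain ⟨k, hk⟩ := hx a ha
    exact ⟨k, by rw [← map_smul, hk, map_zero]⟩).trans (map_zero f).symm)

theorem NilFree.of_exact {J : Set A} {X Y Z : Type u} [AddCommGroup X] [Module A X] [AddCommGroup Y] [Module A Y]
    [AddCommGroup Z] [Module A Z] (f : X →ₗ[A] Y) (g : Y →ₗ[A] Z) (hf : Function.Injective f)
    (hfg : Function.Exact f g) (hX : NilFree J X) (hZ : NilFree J Z) : NilFree J Y := by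
  intro y hy
  have h1 : g y = 0 := hZ _ fun a ha => by
    obtain ⟨k, hk⟩ := hy a ha
    exact ⟨k, by rw [← map_smul, hk, map_zero]⟩
  obtain ⟨x, rfl⟩ := (hfg y).mp h1
  rw [hX x fun a ha => by
    obtain ⟨k, hk⟩ := hy a ha
    exact ⟨k, hf (by rw [map_smul, hk, map_zero])⟩, map_zero]

theorem NilFree.pi {J : Set A} {ι : Type*} {X : Type u} {Y : Type u} [AddCommGroup X] [Module A X] [AddCommGroup Y]
    [Module A Y] (h : NilFree J Y) (f : ι → (X →ₗ[A] Y)) (hf : ∀ x, (∀ i, f i x = 0) → x = 0) : NilFree J X :=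
  fun x hx => hf x fun i => h _ fun a ha => by
    obtain ⟨k, hk⟩ := hx a ha
    exact ⟨k, by rw [← map_smul, hk, map_zero]⟩

variable {D : Type u} [CommRing D] [Algebra A D] {σ : Type} (co : D →ₗ[A] σ → A)

/-- The `ν`-th coefficient of `D ⊗ M`. -/
noncomputable def tcoef (M : Type u) [AddCommGroup M] [Module A M] (ν : σ) : D ⊗[A] M →ₗ[A] M :=
  TensorProduct.lift ((LinearMap.lsmul A M).comp ((LinearMap.proj ν).comp co))

theorem tcoef_tmul (M : Type u) [AddCommGroup M] [Module A M] (ν : σ) (d : D) (m : M) :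
    tcoef co M ν (d ⊗ₜ m) = co d ν • m := rfl

theorem tcoef_map {M M' : Type u} [AddCommGroup M] [Module A M] [AddCommGroup M'] [Module A M'] (f : M →ₗ[A] M')
    (ν : σ) (x : D ⊗[A] M) : tcoef co M' ν (f.lTensor D x) = f (tcoef co M ν x) := by
  induction x with
  | zero => simp
  | tmul d m => simp [tcoef_tmul]
  | add x y hx hy => simp only [map_add, hx, hy]

/-- The coefficients separate the elements of `D ⊗ M`. -/
theorem eq_zero_of_tcoef [Module.Flat A D]
    (hsep : ∀ (I : Ideal A) (d : D), (∀ ν, co d ν ∈ I) → d ∈ I.map (algebraMap A D))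
    {M : Type u} [AddCommGroup M] [Module A M] (x : D ⊗[A] M) (hx : ∀ ν, tcoef co M ν x = 0) : x = 0 := by
  classical
  have hcyc : ∀ (M : Type u) [AddCommGroup M] [Module A M] (z : M), Submodule.span A {z} = ⊤ →
      ∀ x : D ⊗[A] M, (∀ ν, tcoef co M ν x = 0) → x = 0 := by
    intro M _ _ z hz x hx
    obtain ⟨d, rfl⟩ : ∃ d : D, d ⊗ₜ[A] z = x := by
      induction x with
      | zero => exact ⟨0, TensorProduct.zero_tmul _ _⟩
      | tmul d m =>
        obtain ⟨a, rfl⟩ := Submodule.mem_span_singleton.mp (hz ▸ Submodule.mem_top : m ∈ Submodule.span A {z})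
        exact ⟨a • d, TensorProduct.smul_tmul _ _ _⟩
      | add x y hx' hy' =>
        clear hx hx' hy'
        have hall : ∀ w : D ⊗[A] M, ∃ d : D, d ⊗ₜ[A] z = w := by
          intro w
          induction w with
          | zero => exact ⟨0, TensorProduct.zero_tmul _ _⟩
          | tmul d m =>
            obtain ⟨a, rfl⟩ := Submodule.mem_span_singleton.mp (hz ▸ Submodule.mem_top : m ∈ Submodule.span A {z})
            exact ⟨a • d, TensorProduct.smul_tmul _ _ _⟩
          | add u v hu hv =>
            obtain ⟨d, rfl⟩ := hu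
            obtain ⟨e, rfl⟩ := hv
            exact ⟨d + e, TensorProduct.add_tmul _ _ _⟩
        exact hall _
    have h := hsep (LinearMap.ker (LinearMap.toSpanSingleton A M z)) d fun ν => hx ν
    rw [← Submodule.restrictScalars_mem A, ← Ideal.smul_top_eq_map] at h
    refine Submodule.smul_induction_on h (fun a ha d _ => ?_) fun d e hd he => by rw [TensorProduct.add_tmul, hd, he, add_zero]
    rw [TensorProduct.smul_tmul, show a • z = 0 from ha, TensorProduct.tmul_zero]
  have hfin : ∀ (k : ℕ) (M : Type u) [AddCommGroup M] [Module A M] (g : Fin k → M), Submodule.span A (Set.range g) = ⊤ →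
      ∀ x : D ⊗[A] M, (∀ ν, tcoef co M ν x = 0) → x = 0 := by
    intro k
    induction k with
    | zero =>
      intro M _ _ g hg x _
      haveI : Subsingleton M := subsingleton_of_forall_eq 0 fun m => by
        have hm : m ∈ Submodule.span A (Set.range g) := hg ▸ Submodule.mem_top
        simpa [Set.range_eq_empty g] using hm
      exact Subsingleton.elim _ _
    | succ k ih =>
      intro M _ _ g hg x hx
      let M₁ := Submodule.span A (Set.range (g ∘ Fin.castSucc))
      have h2 : Submodule.span A {M₁.mkQ (g (Fin.last k))} = ⊤ := by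
        rw [eq_top_iff, ← Submodule.range_mkQ M₁, LinearMap.range_eq_map, ← hg, Submodule.map_span, Submodule.span_le]
        rintro _ ⟨_, ⟨i, rfl⟩, rfl⟩
        induction i using Fin.lastCases with
        | last => exact Submodule.mem_span_singleton_self _
        | cast i =>
          rw [show M₁.mkQ (g i.castSucc) = 0 from (Submodule.Quotient.mk_eq_zero M₁).mpr (Submodule.subset_span ⟨i, rfl⟩)]
          exact zero_mem _
      have h3 : M₁.mkQ.lTensor D x = 0 := hcyc _ _ h2 _ fun ν => by rw [tcoef_map, hx, map_zero]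
      obtain ⟨x', rfl⟩ := ((lTensor_exact D (LinearMap.exact_subtype_mkQ M₁) M₁.mkQ_surjective) x).mp h3
      rw [ih M₁ (fun i => ⟨g i.castSucc, Submodule.subset_span ⟨i, rfl⟩⟩) ?_ x' (fun ν => M₁.injective_subtype ?_), map_zero]
      · rw [eq_top_iff, ← Submodule.map_le_map_iff_of_injective M₁.injective_subtype, Submodule.map_span, Submodule.map_top,
          Submodule.range_subtype]
        exact Submodule.span_mono (by rintro _ ⟨i, rfl⟩; exact ⟨⟨g i.castSucc, Submodule.subset_span ⟨i, rfl⟩⟩, ⟨i, rfl⟩, rfl⟩)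
      · rw [← tcoef_map, hx, map_zero]
  obtain ⟨S, hS⟩ := TensorProduct.exists_finset x
  classical
  let M' := Submodule.span A ((S.image Prod.snd : Finset M) : Set M)
  let x' : D ⊗[A] M' := ∑ i ∈ S.attach, i.1.1 ⊗ₜ ⟨i.1.2, Submodule.subset_span (Finset.mem_image_of_mem _ i.2)⟩
  have hx' : M'.subtype.lTensor D x' = x := by
    rw [hS, map_sum, ← Finset.sum_attach S fun i => i.1 ⊗ₜ[A] i.2]
    rfl
  haveI : Module.Finite A M' := Module.Finite.of_fg ⟨_, rfl⟩
  obtain ⟨k, g, hg⟩ := Module.Finite.exists_fin (R := A) (M := M')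
  rw [← hx', hfin k M' g hg x' (fun ν => M'.injective_subtype (by rw [← tcoef_map, hx', hx, map_zero])), map_zero]

end Basic

/-- The statement for rational points quasi-finite over affine `n`-space. -/
def QT (n : ℕ) : Prop :=
  ∀ (A : Type u) [CommRing A] [IsLocalRing A] (C : Type u) [CommRing C] [Algebra A C] [Algebra.FiniteType A C]
    (z : Ideal C) [z.IsPrime],
    (IsLocalRing.maximalIdeal A).map (algebraMap A C) ≤ z → (∀ c : C, ∃ a : A, c - algebraMap A C a ∈ z) →
    ∀ [Algebra (MvPolynomial (Fin n) A) C] [IsScalarTower A (MvPolynomial (Fin n) A) C],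
    (∀ i, algebraMap _ C (X i : MvPolynomial (Fin n) A) ∈ z) → Algebra.QuasiFiniteAt (MvPolynomial (Fin n) A) z →
    ∀ (Cz : Type u) [CommRing Cz] [Algebra C Cz] [Algebra A Cz] [IsScalarTower A C Cz] [IsLocalization.AtPrime Cz z]
      (N : Type u) [AddCommGroup N] [Module Cz N] [Module A N] [IsScalarTower A Cz N] [Module.Finite Cz N]
      [Module.Flat A N] (M : Type u) [AddCommGroup M] [Module A M] (J : Set A), Cond J M → NilFree J (N ⊗[A] M)

theorem nilFree_of_faithfullyFlat {A B L : Type u} [CommRing A] [CommRing B] [CommRing L] [Algebra A B] [Algebra A L]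
    [Algebra B L] [IsScalarTower A B L] [Module.FaithfullyFlat B L] {N : Type u} [AddCommGroup N] [Module B N]
    [Module A N] [IsScalarTower A B N] {M : Type u} [AddCommGroup M] [Module A M] {J : Set A}
    (h : NilFree J ((L ⊗[B] N) ⊗[A] M)) : NilFree J (N ⊗[A] M) := by
  let e := (AlgebraTensorModule.assoc A B L L N M).restrictScalars A
  let i : N ⊗[A] M →ₗ[A] L ⊗[B] (N ⊗[A] M) := (TensorProduct.mk B L (N ⊗[A] M) 1).restrictScalars A
  have hi : Function.Injective i := Module.FaithfullyFlat.tensorProduct_mk_injective (A := B) (B := L) (N ⊗[A] M)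
  exact NilFree.of_injective (e.symm.toLinearMap ∘ₗ i) (e.symm.injective.comp hi) h

/-- Descent along a flat base change. -/
theorem nilFree_of_baseChange {A A' C C' : Type u} [CommRing A] [CommRing A'] [CommRing C] [CommRing C']
    [Algebra A A'] [Algebra A C] [Algebra A' C'] [Algebra C C'] [Algebra A C'] [IsScalarTower A A' C']
    [IsScalarTower A C C'] [Algebra.IsPushout A A' C C'] [Module.Flat A A']
    (z : Ideal C) [z.IsPrime] (z' : Ideal C') [z'.IsPrime] [z'.LiesOver z]
    {Cz : Type u} [CommRing Cz] [Algebra C Cz] [Algebra A Cz] [IsScalarTower A C Cz] [IsLocalization.AtPrime Cz z]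
    {N : Type u} [AddCommGroup N] [Module Cz N] [Module A N] [IsScalarTower A Cz N] [Module.Finite Cz N]
    [Module.Flat A N] {M : Type u} [AddCommGroup M] [Module A M] {J : Set A}
    (hJ : Cond (algebraMap A A' '' J) (A' ⊗[A] M))
    (h : ∀ (L : Type u) [CommRing L] [Algebra C' L] [Algebra A' L] [IsScalarTower A' C' L]
      [IsLocalization.AtPrime L z'] (N' : Type u) [AddCommGroup N'] [Module L N'] [Module A' N']
      [IsScalarTower A' L N'] [Module.Finite L N'] [Module.Flat A' N'],
      Cond (algebraMap A A' '' J) (A' ⊗[A] M) → NilFree (algebraMap A A' '' J) (N' ⊗[A'] (A' ⊗[A] M))) :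
    NilFree J (N ⊗[A] M) := by
  let L := Localization.AtPrime z'
  obtain ⟨g, hg, hloc⟩ := exists_comap_localRingHom z z' (algebraMap C C') (z'.over_def z).symm Cz L
  letI : Algebra Cz L := g.toAlgebra
  haveI : IsScalarTower C Cz L := IsScalarTower.of_algebraMap_eq' (by
    rw [RingHom.algebraMap_toAlgebra, hg, ← IsScalarTower.algebraMap_eq])
  haveI : IsLocalHom (algebraMap Cz L) := hloc
  letI : Module C N := Module.compHom N (algebraMap C Cz)
  haveI : IsScalarTower C Cz N := IsScalarTower.of_algebraMap_smul fun c x => rfl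
  haveI : IsScalarTower A C N := IsScalarTower.of_algebraMap_smul fun a x => by
    show algebraMap C Cz (algebraMap A C a) • x = a • x
    rw [← IsScalarTower.algebraMap_apply, IsScalarTower.algebraMap_smul]
  haveI : IsLocalRing Cz := IsLocalization.AtPrime.isLocalRing Cz z
  haveI : Algebra.IsPushout A C A' C' := Algebra.IsPushout.symm inferInstance
  haveI : Module.Flat C C' :=
    Module.Flat.isBaseChange A C A' C' (Algebra.IsPushout.out (R := A) (S := C) (R' := A') (S' := C'))
  haveI : Module.Flat C' L := IsLocalization.flat L z'.primeCompl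
  haveI : Module.Flat C L := Module.Flat.trans C C' L
  haveI : Module.Flat Cz L := (Module.flat_iff_of_isLocalization Cz z.primeCompl L).mpr inferInstance
  haveI : Module.FaithfullyFlat Cz L := Module.FaithfullyFlat.of_flat_of_isLocalHom
  haveI : Module.Flat A' (C' ⊗[C] N) :=
    Module.Flat.of_linearEquiv (Algebra.IsPushout.cancelBaseChange A A' C C' N)
  haveI : Module.Flat A' (L ⊗[C'] (C' ⊗[C] N)) := flat_tensor A' C' L (C' ⊗[C] N)
  let e : L ⊗[C'] (C' ⊗[C] N) ≃ₗ[L] L ⊗[Cz] N :=
    (AlgebraTensorModule.cancelBaseChange C C' L L N).trans (haveI := IsLocalization.tensorProduct_compatibleSMul z.primeCompl Cz L N; (TensorProduct.equivOfCompatibleSMul C Cz L L N).symm)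
  haveI : Module.Flat A' (L ⊗[Cz] N) := Module.Flat.of_linearEquiv (e.restrictScalars A').symm
  haveI : IsScalarTower A A' L := IsScalarTower.of_algebraMap_eq fun a => by
    rw [IsScalarTower.algebraMap_apply A C' L, IsScalarTower.algebraMap_apply A A' C',
      ← IsScalarTower.algebraMap_apply A' C' L]
  haveI : IsScalarTower A Cz L := IsScalarTower.of_algebraMap_eq fun a => by
    rw [IsScalarTower.algebraMap_apply A C Cz, ← IsScalarTower.algebraMap_apply C Cz L,
      IsScalarTower.algebraMap_apply C C' L, ← IsScalarTower.algebraMap_apply A C C', ← IsScalarTower.algebraMap_apply A C' L]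
  have h' := h L (L ⊗[Cz] N) hJ
  let c := (AlgebraTensorModule.cancelBaseChange A A' A' (L ⊗[Cz] N) M).restrictScalars A
  refine nilFree_of_faithfullyFlat (L := L) (B := Cz) fun x hx => ?_
  refine c.symm.injective ((h' (c.symm x) ?_).trans (map_zero c.symm).symm)
  rintro _ ⟨a, ha, rfl⟩
  obtain ⟨k, hk⟩ := hx a ha
  exact ⟨k, by rw [← map_pow, IsScalarTower.algebraMap_smul A', ← map_smul, hk, map_zero]⟩

variable {n : ℕ}

theorem tor_section (H : ∀ k < n, QT.{u} k) {A : Type u} [CommRing A] [IsLocalRing A] {E : Type u} [CommRing E]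
    [Algebra (MvPolynomial (Fin n) A) E] [Algebra.Etale (MvPolynomial (Fin n) A) E]
    [Algebra A E] [IsScalarTower A (MvPolynomial (Fin n) A) E]
    (ε : E →ₐ[A] A) (hX : ∀ i, ε (algebraMap _ E (X i : MvPolynomial (Fin n) A)) = 0)
    (y : Ideal E) (hy : y = (IsLocalRing.maximalIdeal A).comap ε) [y.IsPrime]
    {D : Type u} [CommRing D] [Algebra A D] [Algebra E D] [IsScalarTower A E D] [IsLocalization.AtPrime D y]
    {G : Type u} [AddCommGroup G] [Module D G] [Module A G] [IsScalarTower A D G] [Module.Finite D G]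
    [Module.Flat A G] {M : Type u} [AddCommGroup M] [Module A M] {J : Set A} (hM : Cond J M) : NilFree J (G ⊗[A] M) := by
  subst hy
  haveI : Algebra.FinitePresentation A E := Algebra.FinitePresentation.trans A (MvPolynomial (Fin n) A) E
  obtain ⟨co, hsep, hprime⟩ := exists_coeff ε hX (D := D)
  obtain ⟨r, α, s, hs, hsQ, hα, hflat⟩ := exists_step (G := G) co hsep hprime
  haveI := hflat
  let Q := LinearMap.range α
  suffices hGQ : NilFree J ((G ⧸ Q) ⊗[A] M) by
    haveI : Module.Flat A (MvPolynomial (Fin n) A) := inferInstance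
    haveI : Module.Flat A E := Module.Flat.trans A (MvPolynomial (Fin n) A) E
    haveI : Module.Flat E D := IsLocalization.flat D ((IsLocalRing.maximalIdeal A).comap ε).primeCompl
    haveI : Module.Flat A D := Module.Flat.trans A E D
    have hex : Function.Exact (α.restrictScalars A) (Q.mkQ.restrictScalars A) := LinearMap.exact_map_mkQ_range α
    have hinj : Function.Injective ((α.restrictScalars A).rTensor M) := by
      rw [← LinearMap.lTensor_inj_iff_rTensor_inj]
      exact LinearMap.lTensor_injective_of_exact_of_flat (Q.mkQ.restrictScalars A) Q.mkQ_surjective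
        (α.restrictScalars A) hα hex M
    refine NilFree.of_exact _ _ hinj (rTensor_exact M hex Q.mkQ_surjective) ?_ hGQ
    refine NilFree.pi (nilFree_of_cond hM)
      (fun iν : Fin r × (Fin n →₀ ℕ) => (tcoef co M iν.2).comp ((LinearMap.proj (R := A) (φ := fun _ : Fin r => D) iν.1).rTensor M))
      fun x hx => ?_
    have h0 : ∀ i, (LinearMap.proj (R := A) (φ := fun _ : Fin r => D) i).rTensor M x = 0 := fun i =>
      eq_zero_of_tcoef co hsep _ fun ν => hx (i, ν)
    have hsum : ∀ w : (Fin r → D) ⊗[A] M, w = ∑ i, (LinearMap.single A (fun _ : Fin r => D) i).rTensor M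
        ((LinearMap.proj (R := A) (φ := fun _ : Fin r => D) i).rTensor M w) := by
      intro w
      induction w with
      | zero => simp
      | tmul d m =>
        simp only [LinearMap.rTensor_tmul, ← TensorProduct.sum_tmul, LinearMap.coe_proj, Function.eval,
          LinearMap.coe_single, Finset.univ_sum_single]
      | add a b ha hb =>
        simp only [map_add, Finset.sum_add_distrib]
        rw [← ha, ← hb]
    rw [hsum x]
    exact Finset.sum_eq_zero fun i _ => by rw [h0, map_zero]
  set y := (IsLocalRing.maximalIdeal A).comap ε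
  obtain ⟨⟨s0, u⟩, hsu⟩ := IsLocalization.surj y.primeCompl s
  have hs0 : algebraMap E D s0 ∉ (IsLocalRing.maximalIdeal A).map (algebraMap A D) := fun h =>
    hs ((Ideal.mul_unit_mem_iff_mem _ (IsLocalization.map_units D u)).mp (hsu ▸ h))
  have hkill : ∀ x : G ⧸ Q, algebraMap E D s0 • x = 0 := by
    intro x
    obtain ⟨x, rfl⟩ := Q.mkQ_surjective x
    rw [← map_smul, Submodule.mkQ_apply, Submodule.Quotient.mk_eq_zero, ← hsu, mul_comm, mul_smul]
    exact Q.smul_mem _ (hsQ x)
  by_cases hsy : s0 ∈ y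
  swap
  · haveI : Subsingleton (G ⧸ Q) := ⟨fun a b => by
      have hu : IsUnit (algebraMap E D s0) := IsLocalization.map_units D (⟨s0, hsy⟩ : y.primeCompl)
      rw [hu.smul_eq_zero.mp (hkill a), hu.smul_eq_zero.mp (hkill b)]⟩
    exact fun x _ => Subsingleton.elim _ _
  obtain ⟨d, e, hd, he, hmin⟩ := exists_params ε hX hprime s0 hsy hs0
  let I : Ideal E := Ideal.span {s0}
  have hIy : I ≤ y := (Ideal.span_singleton_le_iff_mem _).mpr hsy
  let J' : Ideal D := I.map (algebraMap E D)
  have hJ : J' = Ideal.span {algebraMap E D s0} := by simp [J', I, Ideal.map_span]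
  have hT : Module.IsTorsionBySet D (G ⧸ Q) (J' : Set D) := fun x a => by
    obtain ⟨c, hc⟩ := Ideal.mem_span_singleton'.mp (show (a : D) ∈ Ideal.span {algebraMap E D s0} from hJ ▸ a.2)
    show (a : D) • x = 0
    rw [← hc, mul_smul, hkill, smul_zero]
  letI : Module (D ⧸ J') (G ⧸ Q) := hT.module
  haveI : IsScalarTower D (D ⧸ J') (G ⧸ Q) := IsScalarTower.of_algebraMap_smul fun c x => rfl
  haveI : IsScalarTower A (D ⧸ J') (G ⧸ Q) := IsScalarTower.of_algebraMap_smul fun a x => by
    show algebraMap A D a • x = a • x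
    rw [IsScalarTower.algebraMap_smul]
  haveI : Module.Finite (D ⧸ J') (G ⧸ Q) := Module.Finite.of_restrictScalars_finite D _ _
  let z : Ideal (E ⧸ I) := y.map (Ideal.Quotient.mk I)
  haveI : z.IsPrime := Ideal.map_isPrime_of_surjective Ideal.Quotient.mk_surjective (by rw [Ideal.mk_ker]; exact hIy)
  have hzmem : ∀ {v : E}, Ideal.Quotient.mk I v ∈ z → v ∈ y := fun {v} hv => by
    rwa [Ideal.mem_quotient_iff_mem_sup, sup_eq_left.mpr hIy] at hv
  haveI : IsLocalization.AtPrime (D ⧸ J') z := by
    have h := (inferInstance : IsLocalization (Algebra.algebraMapSubmonoid (E ⧸ I) y.primeCompl) (D ⧸ J'))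
    have heq : Algebra.algebraMapSubmonoid (E ⧸ I) y.primeCompl = z.primeCompl := by
      ext v
      constructor
      · rintro ⟨v, hv, rfl⟩ hvz
        exact hv (hzmem hvz)
      · intro hv
        obtain ⟨v, rfl⟩ := Ideal.Quotient.mk_surjective v
        exact ⟨v, fun h => hv (Ideal.mem_map_of_mem _ h), rfl⟩
    show IsLocalization z.primeCompl (D ⧸ J')
    rw [← heq]
    exact h
  haveI : Algebra.FiniteType A (E ⧸ I) := Algebra.FiniteType.of_surjective (Ideal.Quotient.mkₐ A I) Ideal.Quotient.mk_surjective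
  let φ : MvPolynomial (Fin d) A →ₐ[A] E ⧸ I := aeval fun i => Ideal.Quotient.mk I (e i)
  letI : Algebra (MvPolynomial (Fin d) A) (E ⧸ I) := φ.toRingHom.toAlgebra
  haveI : IsScalarTower A (MvPolynomial (Fin d) A) (E ⧸ I) :=
    IsScalarTower.of_algebraMap_eq fun a => (φ.commutes a).symm
  have hXz : ∀ i, algebraMap _ (E ⧸ I) (X i : MvPolynomial (Fin d) A) ∈ z := fun i => by
    show φ (X i) ∈ z
    simp only [φ, aeval_X]
    exact Ideal.mem_map_of_mem _ (he i)
  have hmz : (IsLocalRing.maximalIdeal A).map (algebraMap A (E ⧸ I)) ≤ z := by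
    rw [IsScalarTower.algebraMap_eq A E (E ⧸ I), ← Ideal.map_map]
    refine Ideal.map_mono (Ideal.map_le_iff_le_comap.mpr fun a ha => ?_)
    show ε (algebraMap A E a) ∈ IsLocalRing.maximalIdeal A
    rwa [ε.commutes]
  have hrat : ∀ c : E ⧸ I, ∃ a : A, c - algebraMap A (E ⧸ I) a ∈ z := by
    intro c
    obtain ⟨c, rfl⟩ := Ideal.Quotient.mk_surjective c
    refine ⟨ε c, ?_⟩
    rw [IsScalarTower.algebraMap_apply A E (E ⧸ I), Ideal.Quotient.algebraMap_eq, ← map_sub]
    refine Ideal.mem_map_of_mem _ ?_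
    show ε (c - algebraMap A E (ε c)) ∈ IsLocalRing.maximalIdeal A
    simp
  have hqf : Algebra.QuasiFiniteAt (MvPolynomial (Fin d) A) z := by
    refine quasiFiniteAt_of_minimal z hrat hmz fun Q' hQ' hQz hmQ hPQ => ?_
    haveI := hQ'
    have h1 := hmin (Q'.comap (Ideal.Quotient.mk I)) inferInstance
      (fun v hv => hzmem (hQz hv)) ?_ ?_ fun i => ?_
    · rw [← Ideal.map_comap_of_surjective (Ideal.Quotient.mk I) Ideal.Quotient.mk_surjective Q', h1]
    · refine Ideal.map_le_iff_le_comap.mp ?_
      rw [Ideal.map_map]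
      exact hmQ
    · show Ideal.Quotient.mk I s0 ∈ Q'
      rw [Ideal.Quotient.eq_zero_iff_mem.mpr (Ideal.mem_span_singleton_self s0)]
      exact zero_mem _
    · show Ideal.Quotient.mk I (e i) ∈ Q'
      have h2 : φ (X i) ∈ Q' := hPQ (Ideal.mem_map_of_mem _ (hXz i))
      simpa [φ] using h2
  haveI : IsScalarTower A (E ⧸ I) (D ⧸ J') := IsScalarTower.of_algebraMap_eq fun a => by
    show Ideal.Quotient.mk J' (algebraMap A D a) = Ideal.Quotient.mk J' (algebraMap E D (algebraMap A E a))
    rw [← IsScalarTower.algebraMap_apply]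
  exact H d hd A (E ⧸ I) z hmz hrat hXz hqf (D ⧸ J') (G ⧸ Q) M J hM

theorem tor_baseChange (H : ∀ k < n, QT.{u} k) {A : Type u} [CommRing A] [IsLocalRing A] {E : Type u} [CommRing E]
    [Algebra (MvPolynomial (Fin n) A) E] [Algebra.Etale (MvPolynomial (Fin n) A) E]
    [Algebra A E] [IsScalarTower A (MvPolynomial (Fin n) A) E]
    {A2 : Type u} [CommRing A2] [IsLocalRing A2] [Algebra A A2] [Module.Flat A A2]
    (ψ : E →ₐ[A] A2) (hψ : ∀ i, ψ (algebraMap _ E (X i : MvPolynomial (Fin n) A)) = 0)
    (y : Ideal E) (hy : y = (IsLocalRing.maximalIdeal A2).comap ψ) [y.IsPrime]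
    {D : Type u} [CommRing D] [Algebra A D] [Algebra E D] [IsScalarTower A E D] [IsLocalization.AtPrime D y]
    {G : Type u} [AddCommGroup G] [Module D G] [Module A G] [IsScalarTower A D G] [Module.Finite D G]
    [Module.Flat A G] {M : Type u} [AddCommGroup M] [Module A M] {J : Set A}
    (hJ : Cond (algebraMap A A2 '' J) (A2 ⊗[A] M)) : NilFree J (G ⊗[A] M) := by
  let P := MvPolynomial (Fin n) A
  let P2 := MvPolynomial (Fin n) A2
  haveI : IsScalarTower A P P2 := IsScalarTower.of_algebraMap_eq fun a => by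
    show algebraMap A P2 a = MvPolynomial.map (algebraMap A A2) (C a)
    rw [MvPolynomial.map_C, MvPolynomial.algebraMap_apply]
  let E2 := P2 ⊗[P] E
  haveI : IsScalarTower A E E2 := IsScalarTower.of_algebraMap_eq fun a => by
    rw [IsScalarTower.algebraMap_apply A P E a, ← IsScalarTower.algebraMap_apply P E E2,
      IsScalarTower.algebraMap_apply P P2 E2, ← IsScalarTower.algebraMap_apply A P P2,
      ← IsScalarTower.algebraMap_apply A P2 E2]
  haveI : Algebra.IsPushout P E P2 E2 := Algebra.IsPushout.symm inferInstance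
  haveI : Algebra.IsPushout A E A2 E2 := (Algebra.IsPushout.comp_iff A P A2 P2).mpr inferInstance
  haveI : Algebra.IsPushout A A2 E E2 := Algebra.IsPushout.symm inferInstance
  let ε2 : E2 →ₐ[A2] A2 := (Algebra.TensorProduct.lift (Algebra.ofId A2 A2) ψ fun _ _ => Commute.all _ _).comp
    (Algebra.IsPushout.equiv A A2 E E2).symm.toAlgHom
  have hε2 : ∀ v : E, ε2 (algebraMap E E2 v) = ψ v := fun v => by
    have h1 : (Algebra.IsPushout.equiv A A2 E E2).symm (algebraMap E E2 v) = (1 : A2) ⊗ₜ[A] v :=
      (Algebra.IsPushout.equiv A A2 E E2).injective (by simp [Algebra.IsPushout.equiv_tmul])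
    simp [ε2, h1]
  let y2 : Ideal E2 := (IsLocalRing.maximalIdeal A2).comap ε2
  haveI : y2.IsPrime := Ideal.comap_isPrime _ _
  haveI : y2.LiesOver y := ⟨by
    ext v
    show v ∈ y ↔ ε2 (algebraMap E E2 v) ∈ IsLocalRing.maximalIdeal A2
    rw [hε2, hy]
    rfl⟩
  refine nilFree_of_baseChange (A := A) (A' := A2) (C := E) (C' := E2) y y2 (Cz := D) hJ ?_
  intro L _ _ _ _ _ N' _ _ _ _ _ _ hJ'
  exact tor_section (G := N') (D := L) (J := algebraMap A A2 '' J) (hM := hJ') H ε2 (fun i => by
    rw [show algebraMap P2 E2 (X i) = algebraMap E E2 (algebraMap P E (X i)) by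
      rw [← IsScalarTower.algebraMap_apply P E E2, IsScalarTower.algebraMap_apply P P2 E2]
      simp [RingHom.algebraMap_toAlgebra]
      exact congrArg _ (MvPolynomial.map_X _ i).symm, hε2, hψ]) y2 rfl

theorem tor_rational (H : ∀ k < n, QT.{u} k) {A : Type u} [CommRing A] [IsLocalRing A] {E : Type u} [CommRing E]
    [Algebra (MvPolynomial (Fin n) A) E] [Algebra.Etale (MvPolynomial (Fin n) A) E]
    [Algebra A E] [IsScalarTower A (MvPolynomial (Fin n) A) E]
    (y : Ideal E) [y.IsPrime] (hym : (IsLocalRing.maximalIdeal A).map (algebraMap A E) ≤ y)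
    (hyX : ∀ i, algebraMap _ E (X i : MvPolynomial (Fin n) A) ∈ y)
    (hrat : ∀ v : E, ∃ a : A, v - algebraMap A E a ∈ y)
    {D : Type u} [CommRing D] [Algebra A D] [Algebra E D] [IsScalarTower A E D] [IsLocalization.AtPrime D y]
    {G : Type u} [AddCommGroup G] [Module D G] [Module A G] [IsScalarTower A D G] [Module.Finite D G]
    [Module.Flat A G] {M : Type u} [AddCommGroup M] [Module A M] {J : Set A} (hM : Cond J M) : NilFree J (G ⊗[A] M) := by
  let P := MvPolynomial (Fin n) A
  let m := IsLocalRing.maximalIdeal A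
  letI : Field (A ⧸ m) := Ideal.Quotient.field m
  let j : A ⧸ m →ₐ[A] E ⧸ y := Ideal.Quotient.liftₐ m (Algebra.ofId A (E ⧸ y)) fun a ha =>
    Ideal.Quotient.eq_zero_iff_mem.mpr (hym (Ideal.mem_map_of_mem _ ha))
  have hj : Function.Bijective j := by
    refine ⟨RingHom.injective (j : A ⧸ m →+* E ⧸ y), fun v => ?_⟩
    obtain ⟨v, rfl⟩ := Ideal.Quotient.mk_surjective v
    obtain ⟨a, ha⟩ := hrat v
    exact ⟨Ideal.Quotient.mk m a, (Ideal.Quotient.eq.mpr ha).symm⟩
  let g : E →ₐ[A] A ⧸ m := (AlgEquiv.ofBijective j hj).symm.toAlgHom.comp (Ideal.Quotient.mkₐ A y)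
  have hg : ∀ v, g v = 0 ↔ v ∈ y := fun v => by
    show (AlgEquiv.ofBijective j hj).symm (Ideal.Quotient.mk y v) = 0 ↔ _
    rw [map_eq_zero_iff _ (AlgEquiv.ofBijective j hj).symm.injective, Ideal.Quotient.eq_zero_iff_mem]
  letI : Algebra P A := (MvPolynomial.constantCoeff : P →+* A).toAlgebra
  haveI : IsScalarTower A P A := IsScalarTower.of_algebraMap_eq fun a => (constantCoeff_C _ a).symm
  have hgP : ∀ p : P, g (algebraMap P E p) = algebraMap P (A ⧸ m) p := fun p => by
    have h : g.comp (IsScalarTower.toAlgHom A P E) = IsScalarTower.toAlgHom A P (A ⧸ m) :=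
      MvPolynomial.algHom_ext fun i => by
        show g (algebraMap P E (X i)) = Ideal.Quotient.mk m (MvPolynomial.constantCoeff (X i : P))
        rw [(hg _).mpr (hyX i), constantCoeff_X, map_zero]
    exact AlgHom.congr_fun h p
  let gP : E →ₐ[P] A ⧸ m := { toRingHom := g.toRingHom, commutes' := hgP }
  let Eb := A ⊗[P] E
  let l : Eb →ₐ[A] A ⧸ m := Algebra.TensorProduct.lift (Algebra.ofId A (A ⧸ m)) gP fun _ _ => Commute.all _ _
  let yb : Ideal Eb := RingHom.ker l
  haveI : yb.IsPrime := RingHom.ker_isPrime _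
  let A2 := Localization.AtPrime yb
  haveI : Module.Flat Eb A2 := IsLocalization.flat A2 yb.primeCompl
  haveI : Module.Flat A A2 := Module.Flat.trans A Eb A2
  let ψ : E →ₐ[A] A2 :=
    (IsScalarTower.toAlgHom A Eb A2).comp ((Algebra.TensorProduct.includeRight : E →ₐ[P] Eb).restrictScalars A)
  have hM2 : Cond (algebraMap A A2 '' J) (A2 ⊗[A] M) := by
    intro v hv
    haveI : v.IsPrime := by
      obtain ⟨w, hw⟩ := hv
      exact hw.1.1
    haveI : Algebra.Etale A Eb := inferInstance
    rw [Groth.Agent.FlatMisc.WeakAssFlat.mem_iff_of_isLocalization (A := A) (C := Eb) yb.primeCompl v] at hv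
    haveI : (v.comap (algebraMap Eb A2)).IsPrime := Ideal.comap_isPrime _ _
    haveI : (v.comap (algebraMap Eb A2)).LiesOver (v.comap (algebraMap A A2)) := ⟨by
      rw [Ideal.under_def, Ideal.comap_comap, ← IsScalarTower.algebraMap_eq]⟩
    obtain ⟨a, haJ, hav⟩ := hM _ ((Groth.Agent.S1233.result M (v.comap (algebraMap A A2)) (v.comap (algebraMap Eb A2))).mp hv)
    exact ⟨_, ⟨a, haJ, rfl⟩, hav⟩
  refine tor_baseChange (D := D) (G := G) (hJ := hM2) H ψ (fun i => ?_) y ?_
  · show algebraMap Eb A2 ((1 : A) ⊗ₜ[P] algebraMap P E (X i)) = 0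
    rw [show (1 : A) ⊗ₜ[P] algebraMap P E (X i) = algebraMap P Eb (X i) from
        (Algebra.TensorProduct.includeRight : E →ₐ[P] Eb).commutes _,
      IsScalarTower.algebraMap_apply P A Eb, show algebraMap P A (X i) = 0 from constantCoeff_X (R := A) i, map_zero, map_zero]
  · ext v
    show v ∈ y ↔ algebraMap Eb A2 ((1 : A) ⊗ₜ[P] v) ∈ IsLocalRing.maximalIdeal A2
    rw [IsLocalization.AtPrime.to_map_mem_maximal_iff A2 yb]
    show v ∈ y ↔ l ((1 : A) ⊗ₜ[P] v) = 0
    rw [show l ((1 : A) ⊗ₜ[P] v) = g v from (Algebra.TensorProduct.lift_tmul _ _ _ (1 : A) v).trans (by rw [map_one, one_mul]; rfl), hg]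

theorem tor_qf (H : ∀ k < n, QT.{u} k) : QT.{u} n := by
  intro A _ _ C _ _ _ z _ hz hrat _ _ hX hqf Cz _ _ _ _ _ N _ _ _ _ _ _ M _ _ J hM
  haveI := hqf
  let P := MvPolynomial (Fin n) A
  haveI : Algebra.FiniteType P C := .of_restrictScalars_finiteType A P C
  let y0 : Ideal P := z.comap (algebraMap P C)
  haveI : y0.IsPrime := Ideal.comap_isPrime _ _
  haveI : z.LiesOver y0 := ⟨rfl⟩
  obtain ⟨E, _, _, _, y, _, _, e, he, P', _, _, hP'z, heP', hbij, hfin, huniq⟩ :=
    Algebra.exists_etale_isIdempotentElem_forall_liesOver_eq y0 z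
  have hy0rat : ∀ p : P, p - algebraMap A P (MvPolynomial.constantCoeff p) ∈ y0 := fun p => by
    refine SetLike.le_def.mp ?_ (sub_C_mem A p)
    rw [show MvPolynomial.idealOfVars (Fin n) A = Ideal.span (Set.range X) from rfl, Ideal.span_le]
    rintro _ ⟨i, rfl⟩
    exact hX i
  have hy0m : (IsLocalRing.maximalIdeal A).map (algebraMap A P) ≤ y0 := by
    refine Ideal.map_le_iff_le_comap.mpr fun a ha => ?_
    show algebraMap P C (algebraMap A P a) ∈ z
    rw [← IsScalarTower.algebraMap_apply]
    exact hz (Ideal.mem_map_of_mem _ ha)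
  haveI : y0.IsMaximal := isMaximal_of_rational y0 hy0m fun p => ⟨_, hy0rat p⟩
  have hy0y : ∀ p ∈ y0, algebraMap P E p ∈ y := fun p hp => (y.over_def y0).le hp
  letI : Algebra A E := ((algebraMap P E).comp (algebraMap A P)).toAlgebra
  haveI : IsScalarTower A P E := IsScalarTower.of_algebraMap_eq' rfl
  have hym : (IsLocalRing.maximalIdeal A).map (algebraMap A E) ≤ y := by
    refine Ideal.map_le_iff_le_comap.mpr fun a ha => ?_
    exact hy0y _ (hy0m (Ideal.mem_map_of_mem _ ha))
  have hyrat : ∀ v : E, ∃ a : A, v - algebraMap A E a ∈ y := by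
    intro v
    obtain ⟨w, hw⟩ := hbij.2 (algebraMap E y.ResidueField v)
    obtain ⟨p, rfl⟩ := y0.algebraMap_residueField_surjective w
    have h1 : v - algebraMap P E p ∈ y := by
      rw [← Ideal.algebraMap_residueField_eq_zero, map_sub, ← hw, ← IsScalarTower.algebraMap_apply,
        AlgHom.commutes, sub_self]
    refine ⟨MvPolynomial.constantCoeff p, ?_⟩
    have h2 := add_mem h1 (hy0y _ (hy0rat p))
    rwa [map_sub, sub_add_sub_cancel, ← IsScalarTower.algebraMap_apply A P E] at h2
  let EC := E ⊗[P] C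
  let T := Localization.Away e
  let D := Localization.AtPrime y
  let L := Localization.AtPrime P'
  obtain ⟨gD, hgD, -⟩ := exists_comap_localRingHom y P' (algebraMap E EC) (P'.over_def y).symm D L
  letI : Algebra D L := gD.toAlgebra
  haveI : IsScalarTower E D L := IsScalarTower.of_algebraMap_eq' (by
    rw [RingHom.algebraMap_toAlgebra, hgD, ← IsScalarTower.algebraMap_eq])
  haveI : Module.Finite D L := by
    let ψ : T →ₐ[E] L := IsLocalization.liftAlgHom (M := Submonoid.powers e) (f := IsScalarTower.toAlgHom E EC L) (by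
      rintro ⟨_, k, rfl⟩
      rw [IsScalarTower.coe_toAlgHom', map_pow]
      exact (IsLocalization.map_units L (⟨e, heP'⟩ : P'.primeCompl)).pow k)
    have hψ : ∀ v : EC, ψ (algebraMap EC T v) = algebraMap EC L v := fun v => IsLocalization.lift_eq _ v
    let Φ : D ⊗[E] T →ₐ[D] L := Algebra.TensorProduct.lift (Algebra.ofId D L) ψ fun _ _ => Commute.all _ _
    haveI : Module.Finite D (D ⊗[E] T) := inferInstance
    haveI : Algebra.IsIntegral D (D ⊗[E] T) := Algebra.IsIntegral.of_finite _ _
    haveI : IsLocalRing D := inferInstance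
    let ρ : EC →+* D ⊗[E] T := (Algebra.TensorProduct.includeRight (R := E) (A := D) (B := T)).toRingHom.comp (algebraMap EC T)
    have hunit : ∀ v : EC, v ∉ P' → IsUnit (ρ v) := by
      intro v hv
      by_contra hu
      obtain ⟨M, hM, hvM⟩ := exists_max_ideal_of_mem_nonunits hu
      refine hv ?_
      have hMD : M.comap (algebraMap D (D ⊗[E] T)) = IsLocalRing.maximalIdeal D :=
        IsLocalRing.eq_maximalIdeal (Ideal.isMaximal_comap_of_isIntegral_of_isMaximal M)
      have hover : (M.comap ρ).LiesOver y := ⟨by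
        refine (IsLocalization.AtPrime.under_maximalIdeal D y).symm.trans ?_
        rw [← hMD]
        show Ideal.comap _ (Ideal.comap _ M) = Ideal.comap _ (Ideal.comap ρ M)
        rw [Ideal.comap_comap, Ideal.comap_comap]
        congr 1
        ext v
        simp [ρ, ← IsScalarTower.algebraMap_apply E EC T]
        rfl⟩
      have heM : e ∉ M.comap ρ := fun h =>
        hM.ne_top (M.eq_top_of_isUnit_mem h ((IsLocalization.Away.algebraMap_isUnit (S := T) e).map (Algebra.TensorProduct.includeRight (R := E) (A := D) (B := T))))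
      rw [← huniq _ (Ideal.comap_isPrime _ _) hover heM]
      exact hvM
    have hΦ : ∀ v : EC, Φ (ρ v) = algebraMap EC L v := fun v => by
      show Φ ((1 : D) ⊗ₜ[E] algebraMap EC T v) = _
      simp [Φ, hψ]
    refine Module.Finite.of_surjective Φ.toLinearMap fun x => ?_
    obtain ⟨b, s, rfl⟩ := IsLocalization.exists_mk'_eq P'.primeCompl x
    refine ⟨ρ b * ((hunit _ s.2).unit⁻¹ : (D ⊗[E] T)ˣ), ?_⟩
    show Φ _ = _
    rw [IsLocalization.eq_mk'_iff_mul_eq, map_mul, ← hΦ s, ← hΦ b, mul_assoc, ← map_mul,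
      IsUnit.val_inv_mul, map_one, mul_one]
  obtain ⟨gC, hgC, hlocC⟩ := exists_comap_localRingHom z P' Algebra.TensorProduct.includeRight.toRingHom hP'z Cz L
  letI : Algebra Cz L := gC.toAlgebra
  haveI : IsScalarTower C Cz L := IsScalarTower.of_algebraMap_eq' (by
    rw [RingHom.algebraMap_toAlgebra gC, hgC, IsScalarTower.algebraMap_eq C EC L]
    rfl)
  haveI : IsLocalHom (algebraMap Cz L) := hlocC
  haveI : IsLocalRing Cz := IsLocalization.AtPrime.isLocalRing Cz z
  haveI : Module.Flat C EC := by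
    haveI : Algebra.IsPushout P C E EC := Algebra.IsPushout.symm inferInstance
    exact Module.Flat.isBaseChange P C E EC (Algebra.IsPushout.out (R := P) (S := C) (R' := E) (S' := EC))
  haveI : Module.Flat EC L := IsLocalization.flat L P'.primeCompl
  haveI : Module.Flat C L := Module.Flat.trans C EC L
  haveI : Module.Flat Cz L := (Module.flat_iff_of_isLocalization Cz z.primeCompl L).mpr inferInstance
  haveI : Module.FaithfullyFlat Cz L := Module.FaithfullyFlat.of_flat_of_isLocalHom
  haveI : IsScalarTower A C EC := IsScalarTower.of_algebraMap_eq fun a => by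
    rw [IsScalarTower.algebraMap_apply A P C, ← IsScalarTower.algebraMap_apply P C EC,
      IsScalarTower.algebraMap_apply P E EC, ← IsScalarTower.algebraMap_apply A P E,
      ← IsScalarTower.algebraMap_apply A E EC]
  haveI : IsScalarTower A Cz L := IsScalarTower.of_algebraMap_eq fun a => by
    rw [IsScalarTower.algebraMap_apply A C Cz, ← IsScalarTower.algebraMap_apply C Cz L,
      IsScalarTower.algebraMap_apply C EC L, ← IsScalarTower.algebraMap_apply A C EC,
      ← IsScalarTower.algebraMap_apply A EC L]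
  haveI : IsScalarTower A D L := IsScalarTower.of_algebraMap_eq fun a => by
    rw [IsScalarTower.algebraMap_apply A E D, ← IsScalarTower.algebraMap_apply E D L,
      IsScalarTower.algebraMap_apply E EC L, ← IsScalarTower.algebraMap_apply A E EC,
      ← IsScalarTower.algebraMap_apply A EC L]
  haveI : Module.Flat A (L ⊗[Cz] N) := flat_tensor A Cz L N
  haveI : Module.Finite L (L ⊗[Cz] N) := inferInstance
  haveI : Module.Finite D (L ⊗[Cz] N) := Module.Finite.trans L _
  have h := tor_rational H (A := A) (E := E) (D := D) (G := L ⊗[Cz] N) y hym (fun i => hy0y _ (hX i)) hyrat hM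
  exact nilFree_of_faithfullyFlat (L := L) (B := Cz) h

theorem qt_all (n : ℕ) : QT.{u} n := by
  induction n using Nat.strong_induction_on with
  | _ n ih => exact tor_qf ih

/-- The coefficients of a polynomial. -/
noncomputable def polyCo (n : ℕ) (A : Type u) [CommRing A] : MvPolynomial (Fin n) A →ₗ[A] (Fin n →₀ ℕ) → A :=
  LinearMap.pi fun ν => MvPolynomial.lcoeff A ν

theorem polyCo_sep {n : ℕ} {A : Type u} [CommRing A] (I : Ideal A) (d : MvPolynomial (Fin n) A)
    (hd : ∀ ν, polyCo n A d ν ∈ I) : d ∈ I.map (algebraMap A (MvPolynomial (Fin n) A)) :=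
  MvPolynomial.mem_map_C_iff.mpr hd

theorem regular_of_notMem {A : Type u} [CommRing A] [IsLocalRing A] {n : ℕ} (M : Type u) [AddCommGroup M] [Module A M]
    (t : MvPolynomial (Fin n) A)
    (ht : t ∉ (IsLocalRing.maximalIdeal A).map (C : A →+* MvPolynomial (Fin n) A)) :
    Function.Injective ((LinearMap.mulLeft A t).rTensor M) := by
  let P := MvPolynomial (Fin n) A
  let m := IsLocalRing.maximalIdeal A
  have hprime : (m.map (algebraMap A P)).IsPrime := by
    have : m.map (algebraMap A P) = RingHom.ker (MvPolynomial.map (σ := Fin n) (IsLocalRing.residue A)) := by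
      rw [MvPolynomial.ker_map, IsLocalRing.ker_residue]; rfl
    rw [this]
    exact RingHom.ker_isPrime _
  let co := polyCo n A
  have hsep : ∀ (I : Ideal A) (d : P), (∀ ν, co d ν ∈ I) → d ∈ I.map (algebraMap A P) := polyCo_sep
  have hind : ∀ e : Fin 1 → P, ∑ i, e i • (![t] : Fin 1 → P) i ∈ m • (⊤ : Submodule A P) → ∀ i, e i ∈ m.map (algebraMap A P) := by
    intro e he i
    fin_cases i
    rw [Ideal.smul_top_eq_map, Submodule.restrictScalars_mem] at he
    simp only [Fin.sum_univ_one, Matrix.cons_val_fin_one, smul_eq_mul] at he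
    exact (hprime.mem_or_mem he).resolve_right ht
  have hflat := flat_quotient (G := P) co hsep (![t] : Fin 1 → P) hind
  have hex : Function.Exact (LinearMap.mulLeft A t) ((Submodule.span P (Set.range (![t] : Fin 1 → P))).mkQ.restrictScalars A) := by
    intro p
    simp only [LinearMap.restrictScalars_apply, Submodule.mkQ_apply, Submodule.Quotient.mk_eq_zero,
      Matrix.range_cons, Matrix.range_empty, Set.union_empty, Set.mem_range, LinearMap.mulLeft_apply]
    rw [Ideal.submodule_span_eq, Ideal.mem_span_singleton']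
    exact exists_congr fun c => by rw [mul_comm]
  rw [← LinearMap.lTensor_inj_iff_rTensor_inj]
  let Q := Submodule.span P (Set.range (![t] : Fin 1 → P))
  let q : P →ₗ[A] P ⧸ Q := Q.mkQ.restrictScalars A
  haveI : Module.Flat A (P ⧸ Q) := hflat
  have hq : Function.Surjective q := Q.mkQ_surjective
  refine LinearMap.lTensor_injective_of_exact_of_flat (N := P) (P := P ⧸ Q) q hq (LinearMap.mulLeft A t) ?_ hex M
  intro a b hab
  have h := mem_map_of_sum_mem co hsep (![t] : Fin 1 → P) hind ⊥ ![a - b] (by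
    rw [Submodule.bot_smul, Submodule.mem_bot]
    simp only [Fin.sum_univ_one, Matrix.cons_val_fin_one, smul_eq_mul]
    rw [sub_mul, sub_eq_zero, mul_comm a, mul_comm b]
    exact hab) 0
  rw [Ideal.map_bot, Submodule.mem_bot] at h
  exact sub_eq_zero.mp h

/-- No nonzero element of `N ⊗ M` is killed by powers of the maximal ideal of `A` unless that is weakly
associated to `M`. -/
theorem nilFree_of_flat {R S : Type u} [CommRing R] [IsLocalRing R] [CommRing S] [Algebra R S] [Algebra.FiniteType R S]
    (q : Ideal S) [q.IsPrime] (Sq : Type u) [CommRing Sq] [Algebra S Sq] [Algebra R Sq] [IsScalarTower R S Sq]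
    [IsLocalization.AtPrime Sq q] (N : Type u) [AddCommGroup N] [Module Sq N] [Module R N] [IsScalarTower R Sq N]
    [Module.Finite Sq N] [Module.Flat R N]
    (hq : q.comap (algebraMap R S) = IsLocalRing.maximalIdeal R) (M : Type u) [AddCommGroup M] [Module R M]
    (hM : IsLocalRing.maximalIdeal R ∉ FlatCA.weakAss R M) :
    NilFree (IsLocalRing.maximalIdeal R : Set R) (N ⊗[R] M) := by
  obtain ⟨n, π, hπ⟩ := Algebra.FiniteType.iff_quotient_mvPolynomial''.mp (inferInstance : Algebra.FiniteType R S)
  let P := MvPolynomial (Fin n) R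
  let K := q.ResidueField
  let Q : Ideal P := q.comap π
  haveI : Q.IsPrime := Ideal.comap_isPrime _ _
  let A1 := Localization.AtPrime Q
  have hu : ∀ p : Q.primeCompl, IsUnit (((IsScalarTower.toAlgHom R S K).comp π) p) := fun p =>
    IsUnit.mk0 _ fun h => p.2 ((Ideal.algebraMap_residueField_eq_zero (I := q)).mp h)
  let f : A1 →ₐ[R] K := IsLocalization.liftAlgHom (M := Q.primeCompl) hu
  have hf : ∀ p : P, f (algebraMap P A1 p) = algebraMap S K (π p) := fun p => IsLocalization.lift_eq _ p
  have hfsurj : Function.Surjective f := by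
    intro x
    obtain ⟨a, b, hb, rfl⟩ := IsFractionRing.div_surjective (S ⧸ q) x
    obtain ⟨a, rfl⟩ := Ideal.Quotient.mk_surjective a
    obtain ⟨b, rfl⟩ := Ideal.Quotient.mk_surjective b
    obtain ⟨a, rfl⟩ := hπ a
    obtain ⟨b, rfl⟩ := hπ b
    have hbQ : b ∈ Q.primeCompl := fun h => nonZeroDivisors.ne_zero hb (Ideal.Quotient.eq_zero_iff_mem.mpr h)
    refine ⟨IsLocalization.mk' A1 a ⟨b, hbQ⟩, ?_⟩
    rw [← Ideal.Quotient.algebraMap_eq, ← IsScalarTower.algebraMap_apply, ← IsScalarTower.algebraMap_apply, ← hf, ← hf,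
      eq_div_iff (by rw [hf]; exact fun h => hbQ ((Ideal.algebraMap_residueField_eq_zero (I := q)).mp h)), ← map_mul,
      IsLocalization.mk'_spec_mk]
  let C1 := A1 ⊗[R] S
  let l : C1 →ₐ[R] K := Algebra.TensorProduct.lift f (IsScalarTower.toAlgHom R S K) fun _ _ => Commute.all _ _
  have hl : ∀ (a : A1) (s : S), l (a ⊗ₜ s) = f a * algebraMap S K s := fun a s => Algebra.TensorProduct.lift_tmul _ _ _ a s
  let z : Ideal C1 := RingHom.ker l
  haveI : z.IsPrime := RingHom.ker_isPrime _
  haveI : z.LiesOver q := ⟨by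
    ext s
    show s ∈ q ↔ l ((1 : A1) ⊗ₜ s) = 0
    rw [hl, map_one, one_mul, Ideal.algebraMap_residueField_eq_zero]⟩
  have hz : (IsLocalRing.maximalIdeal A1).map (algebraMap A1 C1) ≤ z := by
    refine Ideal.map_le_iff_le_comap.mpr fun a ha => ?_
    obtain ⟨p, u, rfl⟩ := IsLocalization.exists_mk'_eq Q.primeCompl a
    show l (IsLocalization.mk' A1 p u ⊗ₜ 1) = 0
    have hp : p ∈ Q := (IsLocalization.AtPrime.mk'_mem_maximal_iff A1 Q p u).mp ha
    rw [hl, IsLocalization.mk'_eq_mul_mk'_one, map_mul, hf, (Ideal.algebraMap_residueField_eq_zero (I := q)).mpr hp, zero_mul, zero_mul]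
  have hrat : ∀ c : C1, ∃ a : A1, c - algebraMap A1 C1 a ∈ z := fun c => by
    obtain ⟨a, ha⟩ := hfsurj (l c)
    refine ⟨a, ?_⟩
    show l (c - a ⊗ₜ 1) = 0
    rw [map_sub, hl, map_one, mul_one, ha, sub_self]
  let x : Fin n → C1 := fun i => (1 : A1) ⊗ₜ π (X i) - algebraMap A1 C1 (algebraMap P A1 (X i))
  let φ : MvPolynomial (Fin n) A1 →ₐ[A1] C1 := aeval x
  letI : Algebra (MvPolynomial (Fin n) A1) C1 := φ.toRingHom.toAlgebra
  haveI : IsScalarTower A1 (MvPolynomial (Fin n) A1) C1 := IsScalarTower.of_algebraMap_eq fun a => (φ.commutes a).symm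
  have hφ : Function.Surjective φ := by
    have h1 : ∀ p : P, (1 : A1) ⊗ₜ π p ∈ φ.range := by
      intro p
      have : (⊤ : Subalgebra R P) ≤ (φ.range.restrictScalars R).comap
          ((Algebra.TensorProduct.includeRight : S →ₐ[R] C1).comp π) := by
        rw [← MvPolynomial.adjoin_range_X, Algebra.adjoin_le_iff]
        rintro _ ⟨i, rfl⟩
        refine ⟨X i + MvPolynomial.C (algebraMap P A1 (X i)), ?_⟩
        show φ _ = (1 : A1) ⊗ₜ π (X i)
        simp [φ, x]
      exact this (Algebra.mem_top (x := p))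
    intro c
    induction c using TensorProduct.induction_on with
    | zero => exact ⟨0, map_zero _⟩
    | tmul a s =>
      obtain ⟨p, rfl⟩ := hπ s
      have := φ.range.smul_mem (h1 p) a
      rwa [TensorProduct.smul_tmul', smul_eq_mul, mul_one] at this
    | add c d hc hd =>
      obtain ⟨c, rfl⟩ := hc
      obtain ⟨d, rfl⟩ := hd
      exact ⟨c + d, map_add _ _ _⟩
  haveI : Module.Finite (MvPolynomial (Fin n) A1) C1 := Module.Finite.of_surjective (Algebra.linearMap _ C1) hφ
  haveI : Module.Flat P A1 := IsLocalization.flat A1 Q.primeCompl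
  haveI : Module.Flat R A1 := Module.Flat.trans R P A1
  have hQm : Q.comap (algebraMap R P) = IsLocalRing.maximalIdeal R := by
    rw [← hq]
    ext a
    simp [Q]
  have hcond : Cond (algebraMap R A1 '' (IsLocalRing.maximalIdeal R : Set R)) (A1 ⊗[R] M) := by
    intro v hv
    by_contra hall
    simp only [not_exists, not_and, not_not] at hall
    haveI : v.IsPrime := by
      obtain ⟨w, hw⟩ := hv
      exact hw.1.1
    rw [Groth.Agent.FlatMisc.WeakAssFlat.mem_iff_of_isLocalization (A := R) (C := P) Q.primeCompl v] at hv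
    haveI : (v.comap (algebraMap P A1)).IsPrime := Ideal.comap_isPrime _ _
    obtain ⟨w, hw, hw'⟩ := WeakAss.mem_weakAss_iff.mp hv
    have hmv : (IsLocalRing.maximalIdeal R).map (algebraMap R P) ≤ v.comap (algebraMap P A1) :=
      Ideal.map_le_iff_le_comap.mpr fun a ha => by
        show algebraMap P A1 (algebraMap R P a) ∈ v
        rw [← IsScalarTower.algebraMap_apply]
        exact hall _ ⟨a, ha, rfl⟩
    have hfree : NilFree (IsLocalRing.maximalIdeal R : Set R) (P ⊗[R] M) := by
      have hMn : NilFree (IsLocalRing.maximalIdeal R : Set R) M := nilFree_of_cond fun u hu => by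
        by_contra h
        simp only [not_exists, not_and, not_not] at h
        refine hM ?_
        have hup : u.IsPrime := by
          obtain ⟨m, hm⟩ := hu
          exact hm.1.1
        rwa [show IsLocalRing.maximalIdeal R = u from
          (IsLocalRing.maximalIdeal.isMaximal R).eq_of_le hup.ne_top h]
      refine NilFree.pi hMn (fun ν : Fin n →₀ ℕ => tcoef (polyCo n R) M ν) fun x hx => ?_
      exact eq_zero_of_tcoef (polyCo n R) polyCo_sep x hx
    have hw0 : w = 0 := hfree w fun a ha => by
      obtain ⟨t, ht, k, hk⟩ := hw' _ (hmv (Ideal.mem_map_of_mem _ ha))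
      refine ⟨k, regular_of_notMem M t (fun h => ht (hmv h)) ?_⟩
      rw [map_zero]
      have hmul : ∀ y : P ⊗[R] M, (LinearMap.mulLeft R t).rTensor M y = t • y := fun y => by
        induction y with
        | zero => simp
        | tmul p m => simp [TensorProduct.smul_tmul']
        | add a b ha hb => simp only [map_add, smul_add, ha, hb]
      rw [hmul, ← IsScalarTower.algebraMap_smul P (a ^ k) w, map_pow, ← mul_smul, hk]
    exact (inferInstance : (v.comap (algebraMap P A1)).IsPrime).ne_top
      ((Ideal.eq_top_iff_one _).mpr (hw 1 (by rw [hw0, smul_zero])))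
  refine nilFree_of_baseChange (A := R) (A' := A1) (C := S) (C' := C1) q z (Cz := Sq) hcond ?_
  intro L _ _ _ _ _ N' _ _ _ _ _ _ hJ'
  refine qt_all n A1 C1 z hz hrat (fun i => ?_) inferInstance L N' _ _ hJ'
  show l (φ (X i)) = 0
  rw [show φ (X i) = x i from aeval_X _ i]
  show l ((1 : A1) ⊗ₜ π (X i) - algebraMap P A1 (X i) ⊗ₜ (1 : S)) = 0
  rw [map_sub, hl, hl, hf, map_one, map_one, one_mul, mul_one, sub_self]

end Groth.Agent.RGFlat
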