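import Mathlib.RingTheory.Flat.Stability
import Mathlib.RingTheory.Flat.Localization
import Mathlib.RingTheory.Flat.FaithfullyFlat.Algebra
import Mathlib.RingTheory.Finiteness.Descent
import Mathlib.RingTheory.IsTensorProduct
import Mathlib.Algebra.Module.FinitePresentation
import Mathlib.RingTheory.Localization.AtPrime.Basic

/-!
Descent of finite presentation along flat local base change.
-/

set_option autoImplicit false

universe u

open TensorProduct

namespace Groth.Agent.RGFlat

theorem flat_tensor (A B L N : Type u) [CommRing A] [CommRing B] [Algebra A B] [CommRing L] [Algebra B L]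
    [Algebra A L] [IsScalarTower A B L] [AddCommGroup N] [Module B N] [Module A N] [IsScalarTower A B N]
    [Module.Flat A N] [Module.Flat B L] : Module.Flat A (L ⊗[B] N) := by
  rw [Module.Flat.iff_lTensor_preserves_injective_linearMap]
  intro X Y _ _ _ _ j hj
  let e₁ := AlgebraTensorModule.assoc A B L L N X
  let e₂ := AlgebraTensorModule.assoc A B L L N Y
  let f : N ⊗[A] X →ₗ[B] N ⊗[A] Y := AlgebraTensorModule.lTensor B N j
  have hf : Function.Injective f := Module.Flat.lTensor_preserves_injective_linearMap _ hj
  have hg : Function.Injective (f.lTensor L) := Module.Flat.lTensor_preserves_injective_linearMap _ hf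
  have heq : ∀ t, e₂ (j.lTensor (L ⊗[B] N) t) = f.lTensor L (e₁ t) := by
    intro t
    induction t with
    | zero => simp
    | tmul x i =>
      induction x with
      | zero => simp
      | tmul l m => simp [e₁, e₂, f]
      | add x y hx hy => simp only [add_tmul, map_add, hx, hy]
    | add x y hx hy => simp only [map_add, hx, hy]
  intro x y hxy
  exact e₁.injective (hg (by rw [← heq, ← heq, hxy]))

theorem fp_descend (B L : Type u) [CommRing B] [CommRing L] [Algebra B L] [Module.FaithfullyFlat B L]
    {N : Type u} [AddCommGroup N] [Module B N] [Module.Finite B N]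
    [Module.FinitePresentation L (L ⊗[B] N)] : Module.FinitePresentation B N := by
  obtain ⟨n, f, hf⟩ := Module.Finite.exists_fin' B N
  refine Module.finitePresentation_of_surjective f hf ?_
  rw [← Module.Finite.iff_fg]
  let i : L ⊗[B] LinearMap.ker f →ₗ[L] L ⊗[B] (Fin n → B) := (LinearMap.ker f).subtype.baseChange L
  have hi : Function.Injective i :=
    Module.Flat.lTensor_preserves_injective_linearMap _ (LinearMap.ker f).injective_subtype
  have hex : Function.Exact i (f.baseChange L) := lTensor_exact L f.exact_subtype_ker_map hf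
  have hfg := Module.FinitePresentation.fg_ker (f.baseChange L) (LinearMap.lTensor_surjective L hf)
  rw [LinearMap.exact_iff.mp hex] at hfg
  haveI : Module.Finite L (LinearMap.range i) := Module.Finite.of_fg hfg
  haveI : Module.Finite L (L ⊗[B] LinearMap.ker f) := .equiv (LinearEquiv.ofInjective i hi).symm
  exact Module.Finite.of_finite_tensorProduct_of_faithfullyFlat L

theorem fp_of_finite (D L : Type u) [CommRing D] [CommRing L] [Algebra D L] [Module.Finite D L]
    {N : Type u} [AddCommGroup N] [Module D N] [Module L N] [IsScalarTower D L N] [Module.Finite L N]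
    [Module.FinitePresentation D N] : Module.FinitePresentation L N := by
  obtain ⟨n, f, hf⟩ := Module.Finite.exists_fin' L N
  refine Module.finitePresentation_of_surjective f hf ?_
  refine Submodule.FG.of_restrictScalars D ?_
  rw [← LinearMap.ker_restrictScalars]
  exact Module.FinitePresentation.fg_ker (f.restrictScalars D) hf

theorem exists_comap_localRingHom {C C' : Type u} [CommRing C] [CommRing C'] (z : Ideal C) (z' : Ideal C')
    [z.IsPrime] [z'.IsPrime] (f : C →+* C') (hf : z'.comap f = z)
    (Cz : Type u) [CommRing Cz] [Algebra C Cz] [IsLocalization.AtPrime Cz z]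
    (L : Type u) [CommRing L] [Algebra C' L] [IsLocalization.AtPrime L z'] :
    ∃ g : Cz →+* L, g.comp (algebraMap C Cz) = (algebraMap C' L).comp f ∧ IsLocalHom g := by
  have hu : ∀ c : z.primeCompl, IsUnit ((algebraMap C' L).comp f c) := fun c =>
    IsLocalization.map_units L (⟨f c, fun h => c.2 (hf.le h)⟩ : z'.primeCompl)
  refine ⟨IsLocalization.lift hu, IsLocalization.lift_comp hu, ⟨fun x hx => ?_⟩⟩
  obtain ⟨c, s, rfl⟩ := IsLocalization.exists_mk'_eq z.primeCompl x
  rw [IsLocalization.AtPrime.isUnit_mk'_iff Cz z c s]
  intro hc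
  rw [IsLocalization.lift_mk'] at hx
  have h1 : IsUnit ((algebraMap C' L).comp f c) := (IsUnit.mul_iff.mp hx).1
  exact (IsLocalization.AtPrime.isUnit_to_map_iff L z' (f c)).mp h1 (hf.ge hc)

/-- Finite presentation descends along a flat base change. -/
theorem fp_of_baseChange {A A' C C' : Type u} [CommRing A] [CommRing A'] [CommRing C] [CommRing C']
    [Algebra A A'] [Algebra A C] [Algebra A' C'] [Algebra C C'] [Algebra A C'] [IsScalarTower A A' C']
    [IsScalarTower A C C'] [Algebra.IsPushout A A' C C'] [Module.Flat A A']
    (z : Ideal C) [z.IsPrime] (z' : Ideal C') [z'.IsPrime] [z'.LiesOver z]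
    {Cz : Type u} [CommRing Cz] [Algebra C Cz] [Algebra A Cz] [IsScalarTower A C Cz] [IsLocalization.AtPrime Cz z]
    {N : Type u} [AddCommGroup N] [Module Cz N] [Module A N] [IsScalarTower A Cz N] [Module.Finite Cz N]
    [Module.Flat A N]
    (h : ∀ (L : Type u) [CommRing L] [Algebra C' L] [Algebra A' L] [IsScalarTower A' C' L]
      [IsLocalization.AtPrime L z'] (N' : Type u) [AddCommGroup N'] [Module L N'] [Module A' N']
      [IsScalarTower A' L N'] [Module.Finite L N'] [Module.Flat A' N'], Module.FinitePresentation L N') :
    Module.FinitePresentation Cz N := by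
  let L := Localization.AtPrime z'
  obtain ⟨g, hg, hloc⟩ := exists_comap_localRingHom z z' (algebraMap C C') (z'.over_def z).symm Cz L
  letI : Algebra Cz L := g.toAlgebra
  haveI : IsScalarTower C Cz L := IsScalarTower.of_algebraMap_eq' (by
    rw [RingHom.algebraMap_toAlgebra, hg, ← IsScalarTower.algebraMap_eq])
  haveI : IsLocalHom (algebraMap Cz L) := hloc
  letI : Module C N := Module.compHom N (algebraMap C Cz)
  haveI : IsScalarTower C Cz N := IsScalarTower.of_algebraMap_smul fun c x => rfl
  haveI : IsScalarTower A C N := IsScalarTower.of_algebraMap_smul fun a x => by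
    show algebraMap C Cz (algebraMap A C a) • x = a • x
    rw [← IsScalarTower.algebraMap_apply, IsScalarTower.algebraMap_smul]
  haveI : IsLocalRing Cz := IsLocalization.AtPrime.isLocalRing Cz z
  haveI : Algebra.IsPushout A C A' C' := Algebra.IsPushout.symm inferInstance
  haveI : Module.Flat C C' :=
    Module.Flat.isBaseChange A C A' C' (Algebra.IsPushout.out (R := A) (S := C) (R' := A') (S' := C'))
  haveI : Module.Flat C' L := IsLocalization.flat L z'.primeCompl
  haveI : Module.Flat C L := Module.Flat.trans C C' L
  haveI : Module.Flat Cz L := (Module.flat_iff_of_isLocalization Cz z.primeCompl L).mpr inferInstance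
  haveI : Module.FaithfullyFlat Cz L := Module.FaithfullyFlat.of_flat_of_isLocalHom
  haveI : Module.Flat A' (C' ⊗[C] N) :=
    Module.Flat.of_linearEquiv (Algebra.IsPushout.cancelBaseChange A A' C C' N)
  haveI : Module.Flat A' (L ⊗[C'] (C' ⊗[C] N)) := flat_tensor A' C' L (C' ⊗[C] N)
  let e : L ⊗[C'] (C' ⊗[C] N) ≃ₗ[L] L ⊗[Cz] N :=
    (AlgebraTensorModule.cancelBaseChange C C' L L N).trans (haveI := IsLocalization.tensorProduct_compatibleSMul z.primeCompl Cz L N; (TensorProduct.equivOfCompatibleSMul C Cz L L N).symm)
  haveI : Module.Flat A' (L ⊗[Cz] N) := Module.Flat.of_linearEquiv (e.restrictScalars A').symm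
  haveI : Module.FinitePresentation L (L ⊗[Cz] N) := h L _
  exact fp_descend Cz L

end Groth.Agent.RGFlat
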