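import Groth.Agent.RGFlat.Series
import Mathlib.RingTheory.MvPowerSeries.Inverse
import Mathlib.RingTheory.Polynomial.Basic
import Mathlib.Algebra.MvPolynomial.Eval

/-!
The local ring of an étale algebra over `A[x]` at a point of a section has content ideals.
-/

set_option autoImplicit false

universe u

open MvPolynomial TensorProduct

namespace Groth.Agent.RGFlat

variable {n : ℕ}

/-- Descent to a Noetherian subring. -/
theorem exists_mul_eq_zero {A : Type u} [CommRing A] (m : Ideal A) [m.IsPrime] {E : Type u} [CommRing E]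
    [Algebra (MvPolynomial (Fin n) A) E] [Algebra.Etale (MvPolynomial (Fin n) A) E]
    (ι : E →ₐ[MvPolynomial (Fin n) A] MvPowerSeries (Fin n) A) (d : E) (hd : ι d = 0) :
    ∃ w : E, MvPowerSeries.constantCoeff (ι w) ∉ m ∧ w * d = 0 := by
  classical
  let P := MvPolynomial (Fin n) A
  obtain ⟨A₀, B₀, _, _, ⟨sA, hsA⟩, _, ⟨e⟩⟩ := Algebra.Etale.exists_subalgebra_fg ℤ P E
  obtain ⟨sB, hsB⟩ := (inferInstance : Algebra.FiniteType A₀ B₀).out
  obtain ⟨sd, hsd⟩ := TensorProduct.exists_finset (e d)
  let cb : B₀ → A := fun b => MvPowerSeries.constantCoeff (ι (e.symm (1 ⊗ₜ b)))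
  let R₀ : Subalgebra ℤ A := Algebra.adjoin ℤ
    (↑((sA.biUnion fun p => p.support.image fun x => coeff x p) ∪ sB.image cb ∪
      sd.biUnion fun pb => pb.1.support.image fun x => coeff x pb.1) : Set A)
  haveI : Algebra.FiniteType ℤ R₀ := (Subalgebra.fg_iff_finiteType R₀).mp ⟨_, rfl⟩
  haveI : IsNoetherianRing R₀ := Algebra.FiniteType.isNoetherianRing ℤ R₀
  let P₀ := MvPolynomial (Fin n) R₀
  let incl : P₀ →ₐ[ℤ] P := MvPolynomial.mapAlgHom R₀.val
  have hincl : Function.Injective incl := MvPolynomial.map_injective _ Subtype.val_injective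
  have hmem : ∀ p : P, (∀ x, coeff x p ∈ R₀) → p ∈ incl.range := fun p hp => by
    refine MvPolynomial.mem_range_map_iff_coeffs_subset.mpr ?_
    intro a ha
    obtain ⟨x, -, rfl⟩ := MvPolynomial.mem_coeffs_iff.mp ha
    exact ⟨⟨_, hp x⟩, rfl⟩
  have hA₀ : ∀ a : A₀, (a : P) ∈ incl.range := by
    intro a
    have : A₀ ≤ incl.range := by
      rw [← hsA, Algebra.adjoin_le_iff]
      intro p hp
      refine hmem p fun x => ?_
      by_cases hx : x ∈ p.support
      · exact Algebra.subset_adjoin (Finset.mem_union_left _ (Finset.mem_union_left _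
          (Finset.mem_biUnion.mpr ⟨p, hp, Finset.mem_image_of_mem _ hx⟩)))
      · rw [MvPolynomial.notMem_support_iff.mp hx]; exact R₀.zero_mem
    exact this a.2
  let φ : A₀ →+* P₀ :=
    ((AlgEquiv.ofInjective incl hincl).symm : incl.range →+* P₀).comp
      ((A₀.val : A₀ →+* P).codRestrict incl.range.toSubring hA₀)
  have hφ : ∀ a : A₀, incl (φ a) = (a : P) := fun a =>
    congrArg Subtype.val ((AlgEquiv.ofInjective incl hincl).apply_symm_apply ⟨(a : P), hA₀ a⟩)
  letI : Algebra A₀ P₀ := φ.toAlgebra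
  let E₀ := P₀ ⊗[A₀] B₀
  let incl' : P₀ →ₐ[A₀] P := { toRingHom := (incl : P₀ →+* P), commutes' := hφ }
  let θ : E₀ →+* E := (e.symm : P ⊗[A₀] B₀ →+* E).comp
    (Algebra.TensorProduct.map incl' (AlgHom.id A₀ B₀)).toRingHom
  have hθ : ∀ (p : P₀) (b : B₀), θ (p ⊗ₜ b) = e.symm (incl p ⊗ₜ b) := fun p b => rfl
  have hθP : ∀ p : P₀, θ (algebraMap P₀ E₀ p) = algebraMap P E (incl p) := fun p => by
    rw [Algebra.TensorProduct.algebraMap_apply, hθ]
    exact (congrArg e.symm (Algebra.TensorProduct.algebraMap_apply (incl p)).symm).trans (e.symm.commutes _)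
  let cc : E₀ →+* A := (MvPowerSeries.constantCoeff.comp (ι : E →+* MvPowerSeries (Fin n) A)).comp θ
  have hccP : ∀ p : P₀, cc (algebraMap P₀ E₀ p) = ((MvPolynomial.constantCoeff p : R₀) : A) := fun p => by
    show MvPowerSeries.constantCoeff (ι (θ (algebraMap P₀ E₀ p))) = _
    rw [hθP, ι.commutes, MvPowerSeries.algebraMap_apply']
    simp [incl, constantCoeff_eq, ← MvPowerSeries.coeff_zero_eq_constantCoeff_apply]
    exact MvPolynomial.coeff_map (R₀.val : R₀ →+* A) p 0
  have hcb : ∀ b : B₀, cb b ∈ R₀ := by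
    intro b
    have hb : b ∈ Algebra.adjoin A₀ (sB : Set B₀) := hsB ▸ Algebra.mem_top
    have h1 : cb b = cc (1 ⊗ₜ b) := by
      show _ = MvPowerSeries.constantCoeff (ι (θ ((1 : P₀) ⊗ₜ b)))
      rw [hθ, map_one]
    induction hb using Algebra.adjoin_induction with
    | mem x hx =>
      exact Algebra.subset_adjoin (Finset.mem_union_left _ (Finset.mem_union_right _ (Finset.mem_image_of_mem _ hx)))
    | algebraMap a =>
      rw [h1, show (1 : P₀) ⊗ₜ[A₀] algebraMap A₀ B₀ a = algebraMap P₀ E₀ (φ a) by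
        rw [Algebra.TensorProduct.algebraMap_apply, Algebra.algebraMap_self, RingHom.id_apply,
          Algebra.algebraMap_eq_smul_one, TensorProduct.tmul_smul, TensorProduct.smul_tmul', Algebra.smul_def,
          mul_one]
        rfl, hccP]
      exact SetLike.coe_mem _
    | add x y _ _ hx hy =>
      have : cb (x + y) = cb x + cb y := by simp [cb, TensorProduct.tmul_add]
      rw [this]
      exact R₀.add_mem (hx (by show _ = MvPowerSeries.constantCoeff (ι (θ _)); rw [hθ, map_one]))
        (hy (by show _ = MvPowerSeries.constantCoeff (ι (θ _)); rw [hθ, map_one]))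
    | mul x y _ _ hx hy =>
      have : cb (x * y) = cb x * cb y := by
        show MvPowerSeries.constantCoeff _ = _ * _
        rw [← map_mul, ← map_mul, ← map_mul, Algebra.TensorProduct.tmul_mul_tmul, one_mul]
      rw [this]
      exact R₀.mul_mem (hx (by show _ = MvPowerSeries.constantCoeff (ι (θ _)); rw [hθ, map_one]))
        (hy (by show _ = MvPowerSeries.constantCoeff (ι (θ _)); rw [hθ, map_one]))
  have hcc : ∀ z : E₀, cc z ∈ R₀ := by
    intro z
    induction z using TensorProduct.induction_on with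
    | zero => rw [map_zero]; exact R₀.zero_mem
    | tmul p b =>
      rw [show p ⊗ₜ[A₀] b = algebraMap P₀ E₀ p * (1 ⊗ₜ b) by
        rw [Algebra.TensorProduct.algebraMap_apply, Algebra.algebraMap_self, RingHom.id_apply,
          Algebra.TensorProduct.tmul_mul_tmul, mul_one, one_mul], map_mul, hccP]
      refine R₀.mul_mem (SetLike.coe_mem _) ?_
      have := hcb b
      rwa [show cb b = cc (1 ⊗ₜ b) from by
        show _ = MvPowerSeries.constantCoeff (ι (θ _)); rw [hθ, map_one]] at this
    | add x y hx hy => rw [map_add]; exact R₀.add_mem hx hy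
  let ε₀ : E₀ →+* R₀ := cc.codRestrict R₀.toSubring hcc
  have hε₀ : ∀ p : P₀, ε₀ (algebraMap P₀ E₀ p) = MvPolynomial.constantCoeff p := fun p =>
    Subtype.ext (hccP p)
  obtain ⟨ι₀, hι₀⟩ := exists_series (n := n) (A := R₀) (E := E₀) ε₀ hε₀
  have hmap : (MvPowerSeries.map R₀.val.toRingHom).comp (ι₀ : E₀ →+* MvPowerSeries (Fin n) R₀) =
      (ι : E →+* MvPowerSeries (Fin n) A).comp θ := by
    refine series_unique (P := P₀) (E := E₀) (B := A) ((MvPowerSeries.map R₀.val.toRingHom).comp (ι₀ : E₀ →+* MvPowerSeries (Fin n) R₀))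
      ((ι : E →+* MvPowerSeries (Fin n) A).comp θ) (fun p => ?_) fun z => ?_
    · show MvPowerSeries.map R₀.val.toRingHom (ι₀ (algebraMap P₀ E₀ p)) = ι (θ (algebraMap P₀ E₀ p))
      rw [hθP, ι.commutes, ι₀.commutes, MvPowerSeries.algebraMap_apply', MvPowerSeries.algebraMap_apply']
      refine MvPowerSeries.ext fun x => ?_
      simp [incl, MvPowerSeries.coeff_map]
      exact (MvPolynomial.coeff_map (R₀.val : R₀ →+* A) p x).symm
    · show MvPowerSeries.constantCoeff (MvPowerSeries.map R₀.val.toRingHom (ι₀ z)) = cc z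
      rw [MvPowerSeries.constantCoeff_map, hι₀]
      rfl
  obtain ⟨d₀, hd₀⟩ : ∃ d₀ : E₀, θ d₀ = d := by
    have hpb : ∀ pb ∈ sd, ∃ z : E₀, θ z = e.symm (pb.1 ⊗ₜ pb.2) := by
      intro pb hpb
      obtain ⟨p₀, hp₀⟩ := hmem pb.1 fun x => by
        by_cases hx : x ∈ pb.1.support
        · exact Algebra.subset_adjoin (Finset.mem_union_right _
            (Finset.mem_biUnion.mpr ⟨pb, hpb, Finset.mem_image_of_mem _ hx⟩))
        · rw [MvPolynomial.notMem_support_iff.mp hx]; exact R₀.zero_mem
      exact ⟨p₀ ⊗ₜ pb.2, by rw [hθ, ← hp₀]; rfl⟩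
    choose! z hz using hpb
    refine ⟨∑ pb ∈ sd, z pb, ?_⟩
    rw [map_sum, Finset.sum_congr rfl hz, ← map_sum, ← hsd, e.symm_apply_apply]
  have hι₀d : ι₀ d₀ = 0 := by
    refine MvPowerSeries.ext fun x => Subtype.val_injective ?_
    rw [map_zero]
    have h := congrArg (MvPowerSeries.coeff x) (RingHom.congr_fun hmap d₀)
    simp only [RingHom.comp_apply, MvPowerSeries.coeff_map] at h
    rw [show θ d₀ = d from hd₀] at h
    refine h.trans ?_
    show MvPowerSeries.coeff x (ι d) = _
    rw [hd, map_zero]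
    rfl
  haveI : IsScalarTower R₀ P₀ E₀ := TensorProduct.isScalarTower_left
  let εA : E₀ →ₐ[R₀] R₀ :=
    { toRingHom := ε₀
      commutes' := fun a => by
        show ε₀ (algebraMap R₀ E₀ a) = a
        rw [IsScalarTower.algebraMap_apply R₀ P₀ E₀]
        exact (hε₀ (C a)).trans (constantCoeff_C _ a) }
  haveI : IsNoetherianRing P₀ := inferInstance
  obtain ⟨w, hw, hwd⟩ := exists_mul_eq_zero_of_noetherian (E := E₀) εA
    (fun i => (hε₀ (X i)).trans (constantCoeff_X (R := R₀) i)) (m.comap R₀.val) ι₀ hι₀ d₀ hι₀d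
  refine ⟨θ w, hw, ?_⟩
  rw [← hd₀, ← map_mul, hwd, map_zero]

variable {A : Type u} [CommRing A] [IsLocalRing A] {E : Type u} [CommRing E]
  [Algebra (MvPolynomial (Fin n) A) E] [Algebra.Etale (MvPolynomial (Fin n) A) E]

/-- An element whose coefficients lie in an ideal lies in it, up to localisation. -/
theorem exists_mul_mem (ι : E →ₐ[MvPolynomial (Fin n) A] MvPowerSeries (Fin n) A) (I : Ideal A)
    (d : E) (hd : ∀ x, MvPowerSeries.coeff x (ι d) ∈ I) :
    ∃ w : E, IsUnit (MvPowerSeries.constantCoeff (ι w)) ∧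
      w * d ∈ I.map ((algebraMap (MvPolynomial (Fin n) A) E).comp C) := by
  by_cases hI : I = ⊤
  · exact ⟨1, by simp, by rw [hI, Ideal.map_top]; trivial⟩
  let P := MvPolynomial (Fin n) A
  let Pq := MvPolynomial (Fin n) (A ⧸ I)
  haveI : Nontrivial (A ⧸ I) := Ideal.Quotient.nontrivial_iff.mpr hI
  haveI : IsLocalRing (A ⧸ I) := IsLocalRing.of_surjective' _ Ideal.Quotient.mk_surjective
  let q := Ideal.Quotient.mk I
  haveI : IsLocalHom q := IsLocalHom.of_surjective q Ideal.Quotient.mk_surjective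
  letI : Algebra P Pq := (MvPolynomial.map q).toAlgebra
  letI : Algebra P (MvPowerSeries (Fin n) (A ⧸ I)) :=
    ((algebraMap Pq (MvPowerSeries (Fin n) (A ⧸ I))).comp (algebraMap P Pq)).toAlgebra
  haveI : IsScalarTower P Pq (MvPowerSeries (Fin n) (A ⧸ I)) := IsScalarTower.of_algebraMap_eq' rfl
  let g : E →ₐ[P] MvPowerSeries (Fin n) (A ⧸ I) :=
    { toRingHom := (MvPowerSeries.map q).comp (ι : E →+* MvPowerSeries (Fin n) A)
      commutes' := fun p => by
        show MvPowerSeries.map q (ι (algebraMap P E p)) = algebraMap Pq _ (MvPolynomial.map q p)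
        rw [ι.commutes, MvPowerSeries.algebraMap_apply', MvPowerSeries.algebraMap_apply']
        refine MvPowerSeries.ext fun x => ?_
        simp [MvPowerSeries.coeff_map, MvPolynomial.coeff_map] }
  let ι' : Pq ⊗[P] E →ₐ[Pq] MvPowerSeries (Fin n) (A ⧸ I) :=
    Algebra.TensorProduct.lift (Algebra.ofId Pq _) g fun _ _ => Commute.all _ _
  have hι' : ∀ z : E, ι' (1 ⊗ₜ z) = g z := fun z => by simp [ι']
  have h0 : ι' (1 ⊗ₜ d) = 0 := by
    rw [hι']
    refine MvPowerSeries.ext fun x => ?_
    show MvPowerSeries.coeff x (MvPowerSeries.map q (ι d)) = 0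
    rw [MvPowerSeries.coeff_map]
    exact Ideal.Quotient.eq_zero_iff_mem.mpr (hd x)
  obtain ⟨w, hw, hwd⟩ := exists_mul_eq_zero (n := n) (A := A ⧸ I) (E := Pq ⊗[P] E) (IsLocalRing.maximalIdeal (A ⧸ I)) ι' _ h0
  have hPq : Function.Surjective (algebraMap P Pq) := MvPolynomial.map_surjective _ Ideal.Quotient.mk_surjective
  obtain ⟨w, rfl⟩ := Algebra.TensorProduct.includeRight_surjective E hPq w
  refine ⟨w, ?_, ?_⟩
  · by_contra hu
    refine hw ?_
    rw [show Algebra.TensorProduct.includeRight w = (1 : Pq) ⊗ₜ[P] w from rfl, hι']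
    show MvPowerSeries.constantCoeff (MvPowerSeries.map q (ι w)) ∈ _
    rw [MvPowerSeries.constantCoeff_map]
    exact fun h => hu ((isUnit_map_iff q _).mp h)
  · set K := I.map ((algebraMap P E).comp C)
    letI : Algebra Pq (E ⧸ K) := (RingHom.liftOfSurjective (algebraMap P Pq) hPq
      ⟨(Ideal.Quotient.mk K).comp (algebraMap P E), fun p hp => by
        rw [RingHom.mem_ker, RingHom.comp_apply, Ideal.Quotient.eq_zero_iff_mem]
        have hp' : p ∈ I.map C := by
          rw [RingHom.mem_ker, show algebraMap P Pq = MvPolynomial.map q from rfl] at hp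
          have : p ∈ RingHom.ker (MvPolynomial.map (σ := Fin n) q) := hp
          rwa [MvPolynomial.ker_map, Ideal.mk_ker] at this
        show algebraMap P E p ∈ K
        rw [show K = (I.map C).map (algebraMap P E) from (Ideal.map_map _ _).symm]
        exact Ideal.mem_map_of_mem _ hp'⟩).toAlgebra
    haveI : IsScalarTower P Pq (E ⧸ K) := IsScalarTower.of_algebraMap_eq' (by
      rw [RingHom.algebraMap_toAlgebra, RingHom.liftOfSurjective_comp]
      rfl)
    have h1 := congrArg (Algebra.TensorProduct.lift (Algebra.ofId Pq (E ⧸ K)) (IsScalarTower.toAlgHom P E (E ⧸ K))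
      fun _ _ => Commute.all _ _) hwd
    rw [map_zero, map_mul, Algebra.TensorProduct.includeRight_apply] at h1
    simp only [Algebra.TensorProduct.lift_tmul, map_one, one_mul, IsScalarTower.coe_toAlgHom'] at h1
    rw [← map_mul] at h1
    exact Ideal.Quotient.eq_zero_iff_mem.mp h1

/-- Content ideals in the local ring at the point of the section. -/
theorem exists_coeff [Algebra A E] [IsScalarTower A (MvPolynomial (Fin n) A) E]
    (ε : E →ₐ[A] A) (hX : ∀ i, ε (algebraMap _ E (X i : MvPolynomial (Fin n) A)) = 0)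
    {D : Type u} [CommRing D] [Algebra A D] [Algebra E D] [IsScalarTower A E D]
    [((IsLocalRing.maximalIdeal A).comap ε).IsPrime]
    [IsLocalization.AtPrime D ((IsLocalRing.maximalIdeal A).comap ε)] :
    ∃ co : D →ₗ[A] ((Fin n →₀ ℕ) → A),
      (∀ (I : Ideal A) (d : D), (∀ ν, co d ν ∈ I) → d ∈ I.map (algebraMap A D)) ∧
      ((IsLocalRing.maximalIdeal A).map (algebraMap A D)).IsPrime := by
  set y := (IsLocalRing.maximalIdeal A).comap ε
  obtain ⟨ι, hι⟩ := exists_series (ε : E →+* A) (eval_algebraMap ε hX)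
  have hu : ∀ u : y.primeCompl, IsUnit ((ι : E →+* MvPowerSeries (Fin n) A) u) := fun u => by
    rw [MvPowerSeries.isUnit_iff_constantCoeff]
    show IsUnit (MvPowerSeries.constantCoeff (ι u.1))
    rw [hι]
    exact not_not.mp fun h => u.2 h
  let ιD : D →+* MvPowerSeries (Fin n) A := IsLocalization.lift hu
  have hιD : ∀ z : E, ιD (algebraMap E D z) = ι z := fun z => IsLocalization.lift_eq hu z
  have hA : ∀ a : A, ιD (algebraMap A D a) = MvPowerSeries.C a := fun a => by
    rw [IsScalarTower.algebraMap_apply A E D, hιD, IsScalarTower.algebraMap_apply A (MvPolynomial (Fin n) A) E,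
      ι.commutes, MvPowerSeries.algebraMap_apply']
    simp [MvPolynomial.algebraMap_eq]
  let co : D →ₗ[A] ((Fin n →₀ ℕ) → A) :=
    { toFun := fun d x => MvPowerSeries.coeff x (ιD d)
      map_add' := fun a b => funext fun x => by simp
      map_smul' := fun a d => funext fun x => by
        simp [Algebra.smul_def, hA, MvPowerSeries.coeff_C_mul] }
  have hsep : ∀ (I : Ideal A) (d : D), (∀ ν, co d ν ∈ I) → d ∈ I.map (algebraMap A D) := by
    intro I d hd
    obtain ⟨⟨z, u⟩, hz⟩ := IsLocalization.surj y.primeCompl d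
    obtain ⟨w, hw, hwz⟩ := exists_mul_mem ι I z fun x => by
      rw [← hιD, ← hz, map_mul]
      classical
      rw [MvPowerSeries.coeff_mul]
      exact sum_mem fun p _ => I.mul_mem_right _ (hd p.1)
    have hwy : w ∈ y.primeCompl := fun h => (IsLocalRing.mem_maximalIdeal _).mp h (by rwa [hι] at hw)
    have h1 : algebraMap E D (w * z) ∈ I.map (algebraMap A D) := by
      have := Ideal.mem_map_of_mem (algebraMap E D) hwz
      rwa [Ideal.map_map, show (algebraMap E D).comp ((algebraMap (MvPolynomial (Fin n) A) E).comp C) =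
        algebraMap A D by
          rw [← RingHom.comp_assoc, ← MvPolynomial.algebraMap_eq, RingHom.comp_assoc,
            ← IsScalarTower.algebraMap_eq, ← IsScalarTower.algebraMap_eq]] at this
    rw [map_mul, ← hz, Ideal.unit_mul_mem_iff_mem _ (IsLocalization.map_units D ⟨w, hwy⟩),
      Ideal.mul_unit_mem_iff_mem _ (IsLocalization.map_units D u)] at h1
    exact h1
  refine ⟨co, hsep, ?_⟩
  have : (IsLocalRing.maximalIdeal A).map (algebraMap A D) =
      RingHom.ker ((MvPowerSeries.map (IsLocalRing.residue A)).comp ιD) := by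
    refine le_antisymm (Ideal.map_le_iff_le_comap.mpr fun a ha => ?_) fun d hd => hsep _ d fun ν => ?_
    · show MvPowerSeries.map (IsLocalRing.residue A) (ιD (algebraMap A D a)) = 0
      rw [hA, MvPowerSeries.map_C, (IsLocalRing.residue_eq_zero_iff a).mpr ha, map_zero]
    · have h := congrArg (MvPowerSeries.coeff ν) (show MvPowerSeries.map (IsLocalRing.residue A) (ιD d) = 0 from hd)
      rw [MvPowerSeries.coeff_map, map_zero] at h
      exact (IsLocalRing.residue_eq_zero_iff _).mp h
  rw [this]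
  haveI : IsDomain (MvPowerSeries (Fin n) (IsLocalRing.ResidueField A)) := NoZeroDivisors.to_isDomain _
  exact RingHom.ker_isPrime _

end Groth.Agent.RGFlat
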