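import Groth.Agent.RGFlat.Series
import Mathlib.RingTheory.ZariskisMainTheorem
import Mathlib.RingTheory.Ideal.KrullsHeightTheorem
import Mathlib.RingTheory.KrullDimension.NonZeroDivisors
import Mathlib.RingTheory.Ideal.MinimalPrime.Noetherian
import Mathlib.RingTheory.Ideal.Quotient.Over

/-!
Parameters in the fibre of the dévissage, and quasi-finiteness from them.
-/

set_option autoImplicit false

universe u

open MvPolynomial

namespace Groth.Agent.RGFlat

theorem quasiFiniteAt_of_minimal {A C P : Type u} [CommRing A] [IsLocalRing A] [CommRing C] [Algebra A C]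
    [Algebra.FiniteType A C] [CommRing P] [Algebra A P] [Algebra P C] [IsScalarTower A P C]
    (z : Ideal C) [z.IsPrime] (hrat : ∀ c : C, ∃ a : A, c - algebraMap A C a ∈ z)
    (hz : (IsLocalRing.maximalIdeal A).map (algebraMap A C) ≤ z)
    (hmin : ∀ Q : Ideal C, Q.IsPrime → Q ≤ z → (IsLocalRing.maximalIdeal A).map (algebraMap A C) ≤ Q →
      (z.comap (algebraMap P C)).map (algebraMap P C) ≤ Q → Q = z) :
    Algebra.QuasiFiniteAt P z := by
  haveI : Algebra.FiniteType P C := .of_restrictScalars_finiteType A P C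
  have hzmax : z.IsMaximal := by
    refine Ideal.isMaximal_iff.mpr ⟨fun h => (inferInstance : z.IsPrime).ne_top ((Ideal.eq_top_iff_one _).mpr h),
      fun J x hJ hx hxJ => ?_⟩
    obtain ⟨a, ha⟩ := hrat x
    have hau : IsUnit a := by
      by_contra h
      refine hx ?_
      have := add_mem ha (hz (Ideal.mem_map_of_mem (algebraMap A C) ((IsLocalRing.mem_maximalIdeal a).mpr h)))
      rwa [sub_add_cancel] at this
    have h1 : algebraMap A C a ∈ J := by
      have := sub_mem hxJ (hJ ha)
      rwa [sub_sub_cancel] at this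
    have h2 := J.eq_top_of_isUnit_mem h1 (hau.map _)
    rw [h2]
    trivial
  let I := (IsLocalRing.maximalIdeal A).map (algebraMap A C) ⊔ (z.comap (algebraMap P C)).map (algebraMap P C)
  have hIz : I ≤ z := sup_le hz Ideal.map_comap_le
  let C0 := C ⧸ (IsLocalRing.maximalIdeal A).map (algebraMap A C)
  haveI : IsNoetherianRing C0 := by
    haveI : Algebra.FiniteType A C0 := Algebra.FiniteType.of_surjective (Ideal.Quotient.mkₐ A _) Ideal.Quotient.mk_surjective
    haveI : IsScalarTower A (A ⧸ IsLocalRing.maximalIdeal A) C0 := IsScalarTower.of_algebraMap_eq fun a => rfl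
    haveI : Algebra.FiniteType (A ⧸ IsLocalRing.maximalIdeal A) C0 := .of_restrictScalars_finiteType A _ _
    haveI : (IsLocalRing.maximalIdeal A).IsMaximal := inferInstance
    letI := Ideal.Quotient.field (IsLocalRing.maximalIdeal A)
    exact Algebra.FiniteType.isNoetherianRing (A ⧸ IsLocalRing.maximalIdeal A) C0
  let π := Ideal.Quotient.mk ((IsLocalRing.maximalIdeal A).map (algebraMap A C))
  have hfin := (I.map π).finite_minimalPrimes_of_isNoetherianRing
  classical
  let others : Finset (Ideal C0) := hfin.toFinset.erase (z.map π)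
  have hnot : ∀ Q ∈ others, ¬ Q ≤ z.map π := by
    intro Q hQ hle
    obtain ⟨hne, hQ'⟩ := Finset.mem_erase.mp hQ
    obtain ⟨⟨hQp, hIQ⟩, -⟩ := (hfin.mem_toFinset.mp hQ')
    have h1 : Q.comap π ≤ z := le_trans (Ideal.comap_mono hle) (le_of_eq (by
      rw [Ideal.comap_map_of_surjective π Ideal.Quotient.mk_surjective, ← RingHom.ker_eq_comap_bot, Ideal.mk_ker,
        sup_eq_left.mpr hz]))
    have h2 : I ≤ Q.comap π := Ideal.map_le_iff_le_comap.mp hIQ
    haveI := hQp
    have h3 := hmin _ (Ideal.comap_isPrime π Q) h1 (le_trans le_sup_left h2) (le_trans le_sup_right h2)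
    exact hne (by rw [← h3, Ideal.map_comap_of_surjective π Ideal.Quotient.mk_surjective])
  haveI : (z.map π).IsPrime := Ideal.map_isPrime_of_surjective Ideal.Quotient.mk_surjective (by rw [Ideal.mk_ker]; exact hz)
  obtain ⟨g, hg, hgz⟩ : ∃ g : C0, (∀ Q ∈ others, g ∈ Q) ∧ g ∉ z.map π := by
    by_contra h
    simp only [not_exists, not_and, not_not] at h
    have h' : others.inf id ≤ z.map π := fun g hg => h g fun Q hQ => Finset.inf_le (f := id) hQ hg
    obtain ⟨Q, hQ, hQz⟩ := (Ideal.IsPrime.inf_le' inferInstance).mp h'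
    exact hnot Q hQ hQz
  obtain ⟨g, rfl⟩ := π.surjective g
  refine Algebra.QuasiFiniteAt.of_isOpen_singleton_fiber (R := P) (S := C) ⟨z, inferInstance⟩ ?_
  refine ⟨(PrimeSpectrum.basicOpen g : Set (PrimeSpectrum C)), (PrimeSpectrum.basicOpen g).isOpen, ?_⟩
  ext ⟨Q, hQ⟩
  constructor
  · intro hgQ
    have hQ' : Q.asIdeal.comap (algebraMap P C) = z.comap (algebraMap P C) := congrArg PrimeSpectrum.asIdeal hQ
    have hmQ : (IsLocalRing.maximalIdeal A).map (algebraMap A C) ≤ Q.asIdeal := by
      rw [Ideal.map_le_iff_le_comap]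
      intro a ha
      show algebraMap A C a ∈ Q.asIdeal
      rw [IsScalarTower.algebraMap_apply A P C, ← Ideal.mem_comap, hQ', Ideal.mem_comap,
        ← IsScalarTower.algebraMap_apply A P C]
      exact hz (Ideal.mem_map_of_mem _ ha)
    have hIQ : I ≤ Q.asIdeal := sup_le hmQ (Ideal.map_le_iff_le_comap.mpr hQ'.ge)
    haveI : (Q.asIdeal.map π).IsPrime :=
      Ideal.map_isPrime_of_surjective Ideal.Quotient.mk_surjective (by rw [Ideal.mk_ker]; exact hmQ)
    obtain ⟨Q₀, hQ₀, hle⟩ := Ideal.exists_minimalPrimes_le (Ideal.map_mono hIQ : I.map π ≤ Q.asIdeal.map π)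
    have hQ₀' : Q₀ = z.map π := by
      by_contra hne
      have h1 := hle (hg Q₀ (Finset.mem_erase.mpr ⟨hne, hfin.mem_toFinset.mpr hQ₀⟩))
      refine hgQ ?_
      rw [Ideal.mem_quotient_iff_mem_sup, sup_eq_left.mpr hmQ] at h1
      exact h1
    rw [hQ₀'] at hle
    have h2 : z ≤ Q.asIdeal := fun c hc => by
      have h1 := hle (Ideal.mem_map_of_mem π hc)
      rwa [Ideal.mem_quotient_iff_mem_sup, sup_eq_left.mpr hmQ] at h1
    exact Subtype.ext (PrimeSpectrum.ext (hzmax.eq_of_le Q.isPrime.ne_top h2).symm)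
  · rintro h
    rw [Set.mem_singleton_iff] at h
    rw [h]
    exact fun hgz' => hgz (Ideal.mem_map_of_mem π hgz')

/-- Fewer parameters after killing an element outside `m D`. -/
theorem exists_params {n : ℕ} {A : Type u} [CommRing A] [IsLocalRing A] {E : Type u} [CommRing E]
    [Algebra (MvPolynomial (Fin n) A) E] [Algebra.FormallyUnramified (MvPolynomial (Fin n) A) E]
    [Algebra A E] [IsScalarTower A (MvPolynomial (Fin n) A) E] [Algebra.FinitePresentation A E]
    (ε : E →ₐ[A] A) (hX : ∀ i, ε (algebraMap _ E (X i : MvPolynomial (Fin n) A)) = 0)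
    {D : Type u} [CommRing D] [Algebra A D] [Algebra E D] [IsScalarTower A E D]
    [((IsLocalRing.maximalIdeal A).comap ε).IsPrime]
    [IsLocalization.AtPrime D ((IsLocalRing.maximalIdeal A).comap ε)]
    (hprime : ((IsLocalRing.maximalIdeal A).map (algebraMap A D)).IsPrime)
    (s0 : E) (hs0 : s0 ∈ (IsLocalRing.maximalIdeal A).comap ε)
    (hs : algebraMap E D s0 ∉ (IsLocalRing.maximalIdeal A).map (algebraMap A D)) :
    ∃ (d : ℕ) (e : Fin d → E), d < n ∧ (∀ i, e i ∈ (IsLocalRing.maximalIdeal A).comap ε) ∧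
      ∀ Q : Ideal E, Q.IsPrime → Q ≤ (IsLocalRing.maximalIdeal A).comap ε →
        (IsLocalRing.maximalIdeal A).map (algebraMap A E) ≤ Q → s0 ∈ Q → (∀ i, e i ∈ Q) →
        Q = (IsLocalRing.maximalIdeal A).comap ε := by
  classical
  set y := (IsLocalRing.maximalIdeal A).comap ε with hy
  haveI : IsLocalRing D := IsLocalization.AtPrime.isLocalRing D y
  set mD := (IsLocalRing.maximalIdeal A).map (algebraMap A D) with hmD
  haveI := hprime
  let Db := D ⧸ mD
  haveI : Nontrivial Db := Ideal.Quotient.nontrivial_iff.mpr hprime.ne_top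
  haveI : IsLocalRing Db := IsLocalRing.of_surjective' _ Ideal.Quotient.mk_surjective
  -- `D / m D` is Noetherian
  haveI : IsNoetherianRing Db := by
    let mE := (IsLocalRing.maximalIdeal A).map (algebraMap A E)
    haveI : Algebra.FiniteType A E := inferInstance
    haveI : Algebra.FiniteType A (E ⧸ mE) := Algebra.FiniteType.of_surjective (Ideal.Quotient.mkₐ A _) Ideal.Quotient.mk_surjective
    haveI : IsScalarTower A (A ⧸ IsLocalRing.maximalIdeal A) (E ⧸ mE) := IsScalarTower.of_algebraMap_eq fun a => rfl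
    haveI : Algebra.FiniteType (A ⧸ IsLocalRing.maximalIdeal A) (E ⧸ mE) := .of_restrictScalars_finiteType A _ _
    letI := Ideal.Quotient.field (IsLocalRing.maximalIdeal A)
    haveI : IsNoetherianRing (E ⧸ mE) := Algebra.FiniteType.isNoetherianRing (A ⧸ IsLocalRing.maximalIdeal A) _
    haveI : IsNoetherianRing (D ⧸ mE.map (algebraMap E D)) :=
      IsLocalization.isNoetherianRing (Algebra.algebraMapSubmonoid (E ⧸ mE) y.primeCompl) _ inferInstance
    have hmm : mE.map (algebraMap E D) = mD := by
      rw [Ideal.map_map, ← IsScalarTower.algebraMap_eq]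
    exact isNoetherianRing_of_ringEquiv _ (Ideal.quotEquivOfEq hmm)
  -- the maximal ideal is generated by the variables
  have hker : (RingHom.ker ε).map (algebraMap E D) ≤ IsLocalRing.maximalIdeal D := by
    rw [← IsLocalization.AtPrime.map_eq_maximalIdeal y D]
    refine Ideal.map_mono fun u hu => ?_
    show ε u ∈ IsLocalRing.maximalIdeal A
    rw [show ε u = 0 from hu]
    exact zero_mem _
  have hfg : (RingHom.ker ε).FG := Algebra.FinitePresentation.ker_fG_of_surjective ε fun a => ⟨algebraMap A E a, ε.commutes a⟩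
  have hmax : IsLocalRing.maximalIdeal D ≤
      mD ⊔ Ideal.span (Set.range fun i => algebraMap E D (algebraMap _ E (X i : MvPolynomial (Fin n) A))) := by
    rw [← IsLocalization.AtPrime.map_eq_maximalIdeal y D, Ideal.map_le_iff_le_comap]
    intro u hu
    rw [Ideal.mem_comap]
    rw [← sub_add_cancel u (algebraMap A E (ε u)), map_add]
    refine add_mem (Ideal.mem_sup_right ?_) (Ideal.mem_sup_left ?_)
    · have h1 : u - algebraMap A E (ε u) ∈ RingHom.ker ε := by simp [RingHom.mem_ker]
      have h2 := map_ker_le ε hX hfg hker (Ideal.mem_map_of_mem _ h1)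
      rw [show MvPolynomial.idealOfVars (Fin n) A = Ideal.span (Set.range X) from rfl, Ideal.map_span, Ideal.map_span,
        ← Set.range_comp, ← Set.range_comp] at h2
      exact h2
    · rw [← IsScalarTower.algebraMap_apply]
      exact Ideal.mem_map_of_mem _ hu
  let qD : D →+* Db := Ideal.Quotient.mk mD
  have hdim : ringKrullDim Db ≤ n := by
    rw [← IsLocalRing.maximalIdeal_height_eq_ringKrullDim]
    refine WithBot.coe_le_coe.mpr ?_
    let S := Finset.univ.image fun i => qD (algebraMap E D (algebraMap _ E (X i : MvPolynomial (Fin n) A)))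
    refine le_trans (Ideal.height_le_card_of_mem_minimalPrimes_span_finset (s := S) ?_) ?_
    · have h1 : IsLocalRing.maximalIdeal Db ≤ Ideal.span (S : Set Db) := by
        intro b hb
        obtain ⟨b, rfl⟩ := Ideal.Quotient.mk_surjective b
        have hb' : b ∈ IsLocalRing.maximalIdeal D := by
          intro hu
          exact hb (hu.map qD)
        have h2 := Ideal.mem_map_of_mem qD (hmax hb')
        rw [Ideal.map_sup, Ideal.map_quotient_self, bot_sup_eq, Ideal.map_span] at h2
        refine Ideal.span_mono ?_ h2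
        rintro _ ⟨_, ⟨i, rfl⟩, rfl⟩
        exact Finset.mem_image_of_mem _ (Finset.mem_univ i)
      have h2 : Ideal.span (S : Set Db) = IsLocalRing.maximalIdeal Db := by
        refine le_antisymm (Ideal.span_le.mpr ?_) h1
        intro b hb
        obtain ⟨i, -, rfl⟩ := Finset.mem_image.mp hb
        refine (IsLocalRing.mem_maximalIdeal _).mpr fun hu => ?_
        haveI : IsLocalHom qD := IsLocalHom.of_surjective qD Ideal.Quotient.mk_surjective
        have hu' := (isUnit_map_iff qD _).mp hu
        refine (IsLocalization.AtPrime.isUnit_to_map_iff D y _).mp hu' ?_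
        show ε (algebraMap (MvPolynomial (Fin n) A) E (X i)) ∈ IsLocalRing.maximalIdeal A
        rw [hX i]
        exact zero_mem _
      rw [h2, Ideal.minimalPrimes_eq_subsingleton_self]
      rfl
    · exact_mod_cast le_trans Finset.card_image_le (by simp)
  -- parameters modulo `s0`
  let r := qD (algebraMap E D s0)
  have hr : r ∈ nonZeroDivisors Db := by
    haveI : IsDomain Db := Ideal.Quotient.isDomain mD
    exact mem_nonZeroDivisors_of_ne_zero fun h => hs (Ideal.Quotient.eq_zero_iff_mem.mp h)
  let B := Db ⧸ Ideal.span {r}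
  have hrmax : r ∈ IsLocalRing.maximalIdeal Db := by
    refine (IsLocalRing.mem_maximalIdeal _).mpr fun hu => ?_
    haveI : IsLocalHom qD := IsLocalHom.of_surjective qD Ideal.Quotient.mk_surjective
    exact (IsLocalization.AtPrime.isUnit_to_map_iff D y _).mp ((isUnit_map_iff qD _).mp hu) hs0
  haveI : Nontrivial B := Ideal.Quotient.nontrivial_iff.mpr fun h =>
    (IsLocalRing.maximalIdeal.isMaximal Db).ne_top (top_le_iff.mp (h ▸ (Ideal.span_singleton_le_iff_mem _).mpr hrmax))
  haveI : IsLocalRing B := IsLocalRing.of_surjective' _ Ideal.Quotient.mk_surjective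
  obtain ⟨S, hS, hcard⟩ := (IsLocalRing.maximalIdeal B).exists_finset_card_eq_height_of_isNoetherianRing
  have hd : S.card < n := by
    have h1 := (ringKrullDim_quotient_succ_le_of_nonZeroDivisor hr).trans hdim
    rw [← IsLocalRing.maximalIdeal_height_eq_ringKrullDim, ← hcard] at h1
    have h2 : S.card + 1 ≤ n := by exact_mod_cast h1
    omega
  let π : D →+* B := (Ideal.Quotient.mk (Ideal.span {r})).comp qD
  have hπ : Function.Surjective π := Ideal.Quotient.mk_surjective.comp Ideal.Quotient.mk_surjective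
  have hlift : ∀ t : S, ∃ e : E, ∃ v : D, IsUnit v ∧ π (algebraMap E D e) = (t : B) * π v := by
    intro t
    obtain ⟨d, hd⟩ := hπ t
    obtain ⟨⟨e, u⟩, he⟩ := IsLocalization.surj y.primeCompl d
    exact ⟨e, _, IsLocalization.map_units D u, by rw [← he, map_mul, hd]⟩
  choose e v hv he using hlift
  refine ⟨S.card, fun i => e (S.equivFin.symm i), hd, fun i => ?_, ?_⟩
  · by_contra h
    have hu : IsUnit (π (algebraMap E D (e (S.equivFin.symm i)))) :=
      (IsLocalization.map_units D (⟨_, h⟩ : y.primeCompl)).map π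
    rw [he] at hu
    exact (IsLocalRing.mem_maximalIdeal _).mp (hS.1.2 (Ideal.subset_span (S.equivFin.symm i).2))
      (IsUnit.mul_iff.mp hu).1
  · intro Q hQ hQy hmQ hs0Q heQ
    let QD := Q.map (algebraMap E D)
    haveI : QD.IsPrime := y.isPrime_map_of_isLocalizationAtPrime (S := D) hQy
    have hQc : QD.comap (algebraMap E D) = Q := y.under_map_of_isLocalizationAtPrime (S := D) hQy
    have hkπ : RingHom.ker π ≤ QD := by
      intro d hd
      have h1 : qD d ∈ Ideal.span {r} := Ideal.Quotient.eq_zero_iff_mem.mp hd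
      obtain ⟨c, hc⟩ := Ideal.mem_span_singleton'.mp h1
      obtain ⟨c, rfl⟩ := Ideal.Quotient.mk_surjective c
      have h2 : d - c * algebraMap E D s0 ∈ mD := Ideal.Quotient.eq.mp (by rw [← hc, map_mul])
      have h3 : mD ≤ QD := by
        rw [hmD, IsScalarTower.algebraMap_eq A E D, ← Ideal.map_map]
        exact Ideal.map_mono hmQ
      have := add_mem (h3 h2) (QD.mul_mem_left c (Ideal.mem_map_of_mem (algebraMap E D) hs0Q))
      rwa [sub_add_cancel] at this
    haveI : (QD.map π).IsPrime := Ideal.map_isPrime_of_surjective hπ hkπ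
    have hSQ : Ideal.span (S : Set B) ≤ QD.map π := by
      refine Ideal.span_le.mpr fun t ht => ?_
      have h1 : π (algebraMap E D (e ⟨t, ht⟩)) ∈ QD.map π := by
        refine Ideal.mem_map_of_mem π (Ideal.mem_map_of_mem _ ?_)
        simpa using heQ (S.equivFin ⟨t, ht⟩)
      rw [he] at h1
      exact (Ideal.mul_unit_mem_iff_mem _ ((hv _).map π)).mp h1
    have hmaxle : IsLocalRing.maximalIdeal B ≤ QD.map π :=
      hS.2 ⟨inferInstance, hSQ⟩ (IsLocalRing.le_maximalIdeal_of_isPrime _)
    refine le_antisymm hQy fun u hu => ?_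
    rw [← hQc]
    show algebraMap E D u ∈ QD
    have h1 : π (algebraMap E D u) ∈ IsLocalRing.maximalIdeal B := (IsLocalRing.mem_maximalIdeal _).mpr fun hu' => by
      haveI : IsLocalHom π := IsLocalHom.of_surjective π hπ
      exact (IsLocalization.AtPrime.isUnit_to_map_iff D y _).mp ((isUnit_map_iff π _).mp hu') hu
    obtain ⟨w, hw, hwu⟩ := (Ideal.mem_map_iff_of_surjective π hπ).mp (hmaxle h1)
    have := add_mem (hkπ (show algebraMap E D u - w ∈ RingHom.ker π by rw [RingHom.mem_ker, map_sub, hwu, sub_self])) hw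
    rwa [sub_add_cancel] at this

end Groth.Agent.RGFlat
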