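import Groth.Agent.RGFlat.Core
import Groth.Agent.RGFlat.Expansion
import Groth.Agent.RGFlat.BaseChange
import Groth.Agent.RGFlat.Params
import Mathlib.RingTheory.Etale.QuasiFinite
import Mathlib.RingTheory.Smooth.Flat
import Mathlib.RingTheory.TensorProduct.MvPolynomial
import Mathlib.RingTheory.LocalRing.ResidueField.Ideal

/-!
A finite module over a local ring of a finite type algebra which is flat over the base is finitely
presented (Raynaud–Gruson), by induction on the fibre dimension.
-/

set_option autoImplicit false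

universe u

open MvPolynomial TensorProduct

attribute [local instance] MvPolynomial.algebraMvPolynomial Algebra.TensorProduct.rightAlgebra

namespace Groth.Agent.RGFlat

/-- The statement for rational points quasi-finite over affine `n`-space. -/
def QF (n : ℕ) : Prop :=
  ∀ (A : Type u) [CommRing A] [IsLocalRing A] (C : Type u) [CommRing C] [Algebra A C] [Algebra.FiniteType A C]
    (z : Ideal C) [z.IsPrime],
    (IsLocalRing.maximalIdeal A).map (algebraMap A C) ≤ z → (∀ c : C, ∃ a : A, c - algebraMap A C a ∈ z) →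
    ∀ [Algebra (MvPolynomial (Fin n) A) C] [IsScalarTower A (MvPolynomial (Fin n) A) C],
    (∀ i, algebraMap _ C (X i : MvPolynomial (Fin n) A) ∈ z) → Algebra.QuasiFiniteAt (MvPolynomial (Fin n) A) z →
    ∀ (Cz : Type u) [CommRing Cz] [Algebra C Cz] [Algebra A Cz] [IsScalarTower A C Cz] [IsLocalization.AtPrime Cz z]
      (N : Type u) [AddCommGroup N] [Module Cz N] [Module A N] [IsScalarTower A Cz N] [Module.Finite Cz N]
      [Module.Flat A N], Module.FinitePresentation Cz N

theorem isMaximal_of_rational {A C : Type u} [CommRing A] [IsLocalRing A] [CommRing C] [Algebra A C]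
    (z : Ideal C) [z.IsPrime] (hz : (IsLocalRing.maximalIdeal A).map (algebraMap A C) ≤ z)
    (hrat : ∀ c : C, ∃ a : A, c - algebraMap A C a ∈ z) : z.IsMaximal := by
  refine Ideal.isMaximal_iff.mpr ⟨fun h => (inferInstance : z.IsPrime).ne_top ((Ideal.eq_top_iff_one _).mpr h),
    fun J x hJ hx hxJ => ?_⟩
  obtain ⟨a, ha⟩ := hrat x
  have hau : IsUnit a := by
    by_contra h
    refine hx ?_
    have := add_mem ha (hz (Ideal.mem_map_of_mem (algebraMap A C) ((IsLocalRing.mem_maximalIdeal a).mpr h)))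
    rwa [sub_add_cancel] at this
  have h1 : algebraMap A C a ∈ J := by
    have := sub_mem hxJ (hJ ha)
    rwa [sub_sub_cancel] at this
  rw [J.eq_top_of_isUnit_mem h1 (hau.map _)]
  trivial

variable {n : ℕ}

theorem step_section (H : ∀ k < n, QF.{u} k) {A : Type u} [CommRing A] [IsLocalRing A] {E : Type u} [CommRing E]
    [Algebra (MvPolynomial (Fin n) A) E] [Algebra.Etale (MvPolynomial (Fin n) A) E]
    [Algebra A E] [IsScalarTower A (MvPolynomial (Fin n) A) E]
    (ε : E →ₐ[A] A) (hX : ∀ i, ε (algebraMap _ E (X i : MvPolynomial (Fin n) A)) = 0)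
    (y : Ideal E) (hy : y = (IsLocalRing.maximalIdeal A).comap ε) [y.IsPrime]
    {D : Type u} [CommRing D] [Algebra A D] [Algebra E D] [IsScalarTower A E D] [IsLocalization.AtPrime D y]
    {G : Type u} [AddCommGroup G] [Module D G] [Module A G] [IsScalarTower A D G] [Module.Finite D G]
    [Module.Flat A G] : Module.FinitePresentation D G := by
  subst hy
  haveI : Algebra.FinitePresentation A E := Algebra.FinitePresentation.trans A (MvPolynomial (Fin n) A) E
  obtain ⟨co, hsep, hprime⟩ := exists_coeff ε hX (D := D)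
  obtain ⟨r, α, s, hs, hsQ, hα, hflat⟩ := exists_step (G := G) co hsep hprime
  haveI := hflat
  let Q := LinearMap.range α
  suffices Module.FinitePresentation D (G ⧸ Q) by
    haveI : Module.FinitePresentation D (LinearMap.ker Q.mkQ) :=
      Module.FinitePresentation.of_equiv ((LinearEquiv.ofInjective α hα).trans (LinearEquiv.ofEq _ _ Q.ker_mkQ.symm))
    exact Module.finitePresentation_of_ker Q.mkQ Q.mkQ_surjective
  set y := (IsLocalRing.maximalIdeal A).comap ε
  obtain ⟨⟨s0, u⟩, hsu⟩ := IsLocalization.surj y.primeCompl s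
  have hs0 : algebraMap E D s0 ∉ (IsLocalRing.maximalIdeal A).map (algebraMap A D) := fun h =>
    hs ((Ideal.mul_unit_mem_iff_mem _ (IsLocalization.map_units D u)).mp (hsu ▸ h))
  have hkill : ∀ x : G ⧸ Q, algebraMap E D s0 • x = 0 := by
    intro x
    obtain ⟨x, rfl⟩ := Q.mkQ_surjective x
    rw [← map_smul, Submodule.mkQ_apply, Submodule.Quotient.mk_eq_zero, ← hsu, mul_comm, mul_smul]
    exact Q.smul_mem _ (hsQ x)
  by_cases hsy : s0 ∈ y
  swap
  · haveI : Subsingleton (G ⧸ Q) := ⟨fun a b => by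
      have hu : IsUnit (algebraMap E D s0) := IsLocalization.map_units D (⟨s0, hsy⟩ : y.primeCompl)
      rw [hu.smul_eq_zero.mp (hkill a), hu.smul_eq_zero.mp (hkill b)]⟩
    refine Module.finitePresentation_of_surjective (0 : D →ₗ[D] G ⧸ Q) (fun x => ⟨0, Subsingleton.elim _ _⟩) ?_
    rw [LinearMap.ker_zero]
    exact Module.Finite.fg_top
  obtain ⟨d, e, hd, he, hmin⟩ := exists_params ε hX hprime s0 hsy hs0
  let I : Ideal E := Ideal.span {s0}
  have hIy : I ≤ y := (Ideal.span_singleton_le_iff_mem _).mpr hsy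
  let J : Ideal D := I.map (algebraMap E D)
  have hJ : J = Ideal.span {algebraMap E D s0} := by simp [J, I, Ideal.map_span]
  have hT : Module.IsTorsionBySet D (G ⧸ Q) (J : Set D) := fun x a => by
    obtain ⟨c, hc⟩ := Ideal.mem_span_singleton'.mp (show (a : D) ∈ Ideal.span {algebraMap E D s0} from hJ ▸ a.2)
    show (a : D) • x = 0
    rw [← hc, mul_smul, hkill, smul_zero]
  letI : Module (D ⧸ J) (G ⧸ Q) := hT.module
  haveI : IsScalarTower D (D ⧸ J) (G ⧸ Q) := IsScalarTower.of_algebraMap_smul fun c x => rfl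
  haveI : IsScalarTower A (D ⧸ J) (G ⧸ Q) := IsScalarTower.of_algebraMap_smul fun a x => by
    show algebraMap A D a • x = a • x
    rw [IsScalarTower.algebraMap_smul]
  haveI : Module.Finite (D ⧸ J) (G ⧸ Q) := Module.Finite.of_restrictScalars_finite D _ _
  let z : Ideal (E ⧸ I) := y.map (Ideal.Quotient.mk I)
  haveI : z.IsPrime := Ideal.map_isPrime_of_surjective Ideal.Quotient.mk_surjective (by rw [Ideal.mk_ker]; exact hIy)
  have hzmem : ∀ {v : E}, Ideal.Quotient.mk I v ∈ z → v ∈ y := fun {v} hv => by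
    rwa [Ideal.mem_quotient_iff_mem_sup, sup_eq_left.mpr hIy] at hv
  haveI : IsLocalization.AtPrime (D ⧸ J) z := by
    have h := (inferInstance : IsLocalization (Algebra.algebraMapSubmonoid (E ⧸ I) y.primeCompl) (D ⧸ J))
    have heq : Algebra.algebraMapSubmonoid (E ⧸ I) y.primeCompl = z.primeCompl := by
      ext v
      constructor
      · rintro ⟨v, hv, rfl⟩ hvz
        exact hv (hzmem hvz)
      · intro hv
        obtain ⟨v, rfl⟩ := Ideal.Quotient.mk_surjective v
        exact ⟨v, fun h => hv (Ideal.mem_map_of_mem _ h), rfl⟩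
    show IsLocalization z.primeCompl (D ⧸ J)
    rw [← heq]
    exact h
  haveI : Algebra.FiniteType A (E ⧸ I) := Algebra.FiniteType.of_surjective (Ideal.Quotient.mkₐ A I) Ideal.Quotient.mk_surjective
  let φ : MvPolynomial (Fin d) A →ₐ[A] E ⧸ I := aeval fun i => Ideal.Quotient.mk I (e i)
  letI : Algebra (MvPolynomial (Fin d) A) (E ⧸ I) := φ.toRingHom.toAlgebra
  haveI : IsScalarTower A (MvPolynomial (Fin d) A) (E ⧸ I) :=
    IsScalarTower.of_algebraMap_eq fun a => (φ.commutes a).symm
  have hXz : ∀ i, algebraMap _ (E ⧸ I) (X i : MvPolynomial (Fin d) A) ∈ z := fun i => by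
    show φ (X i) ∈ z
    simp only [φ, aeval_X]
    exact Ideal.mem_map_of_mem _ (he i)
  have hmz : (IsLocalRing.maximalIdeal A).map (algebraMap A (E ⧸ I)) ≤ z := by
    rw [IsScalarTower.algebraMap_eq A E (E ⧸ I), ← Ideal.map_map]
    refine Ideal.map_mono (Ideal.map_le_iff_le_comap.mpr fun a ha => ?_)
    show ε (algebraMap A E a) ∈ IsLocalRing.maximalIdeal A
    rwa [ε.commutes]
  have hrat : ∀ c : E ⧸ I, ∃ a : A, c - algebraMap A (E ⧸ I) a ∈ z := by
    intro c
    obtain ⟨c, rfl⟩ := Ideal.Quotient.mk_surjective c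
    refine ⟨ε c, ?_⟩
    rw [IsScalarTower.algebraMap_apply A E (E ⧸ I), Ideal.Quotient.algebraMap_eq, ← map_sub]
    refine Ideal.mem_map_of_mem _ ?_
    show ε (c - algebraMap A E (ε c)) ∈ IsLocalRing.maximalIdeal A
    simp
  have hqf : Algebra.QuasiFiniteAt (MvPolynomial (Fin d) A) z := by
    refine quasiFiniteAt_of_minimal z hrat hmz fun Q' hQ' hQz hmQ hPQ => ?_
    haveI := hQ'
    have h1 := hmin (Q'.comap (Ideal.Quotient.mk I)) inferInstance
      (fun v hv => hzmem (hQz hv)) ?_ ?_ fun i => ?_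
    · rw [← Ideal.map_comap_of_surjective (Ideal.Quotient.mk I) Ideal.Quotient.mk_surjective Q', h1]
    · refine Ideal.map_le_iff_le_comap.mp ?_
      rw [Ideal.map_map]
      exact hmQ
    · show Ideal.Quotient.mk I s0 ∈ Q'
      rw [Ideal.Quotient.eq_zero_iff_mem.mpr (Ideal.mem_span_singleton_self s0)]
      exact zero_mem _
    · show Ideal.Quotient.mk I (e i) ∈ Q'
      have h2 : φ (X i) ∈ Q' := hPQ (Ideal.mem_map_of_mem _ (hXz i))
      simpa [φ] using h2
  haveI : IsScalarTower A (E ⧸ I) (D ⧸ J) := IsScalarTower.of_algebraMap_eq fun a => by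
    show Ideal.Quotient.mk J (algebraMap A D a) = Ideal.Quotient.mk J (algebraMap E D (algebraMap A E a))
    rw [← IsScalarTower.algebraMap_apply]
  haveI : Module.FinitePresentation (D ⧸ J) (G ⧸ Q) := H d hd A (E ⧸ I) z hmz hrat hXz hqf (D ⧸ J) (G ⧸ Q)
  haveI : Module.FinitePresentation D (D ⧸ J) :=
    Module.finitePresentation_of_surjective J.mkQ J.mkQ_surjective (by rw [Submodule.ker_mkQ, hJ]; exact Submodule.fg_span_singleton _)
  exact Module.FinitePresentation.trans D (G ⧸ Q) (D ⧸ J)

theorem step_baseChange (H : ∀ k < n, QF.{u} k) {A : Type u} [CommRing A] [IsLocalRing A] {E : Type u} [CommRing E]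
    [Algebra (MvPolynomial (Fin n) A) E] [Algebra.Etale (MvPolynomial (Fin n) A) E]
    [Algebra A E] [IsScalarTower A (MvPolynomial (Fin n) A) E]
    {A2 : Type u} [CommRing A2] [IsLocalRing A2] [Algebra A A2] [Module.Flat A A2]
    (ψ : E →ₐ[A] A2) (hψ : ∀ i, ψ (algebraMap _ E (X i : MvPolynomial (Fin n) A)) = 0)
    (y : Ideal E) (hy : y = (IsLocalRing.maximalIdeal A2).comap ψ) [y.IsPrime]
    {D : Type u} [CommRing D] [Algebra A D] [Algebra E D] [IsScalarTower A E D] [IsLocalization.AtPrime D y]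
    {G : Type u} [AddCommGroup G] [Module D G] [Module A G] [IsScalarTower A D G] [Module.Finite D G]
    [Module.Flat A G] : Module.FinitePresentation D G := by
  let P := MvPolynomial (Fin n) A
  let P2 := MvPolynomial (Fin n) A2
  haveI : IsScalarTower A P P2 := IsScalarTower.of_algebraMap_eq fun a => by
    show algebraMap A P2 a = MvPolynomial.map (algebraMap A A2) (C a)
    rw [MvPolynomial.map_C, MvPolynomial.algebraMap_apply]
  let E2 := P2 ⊗[P] E
  haveI : IsScalarTower A E E2 := IsScalarTower.of_algebraMap_eq fun a => by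
    rw [IsScalarTower.algebraMap_apply A P E a, ← IsScalarTower.algebraMap_apply P E E2,
      IsScalarTower.algebraMap_apply P P2 E2, ← IsScalarTower.algebraMap_apply A P P2,
      ← IsScalarTower.algebraMap_apply A P2 E2]
  haveI : Algebra.IsPushout P E P2 E2 := Algebra.IsPushout.symm inferInstance
  haveI : Algebra.IsPushout A E A2 E2 := (Algebra.IsPushout.comp_iff A P A2 P2).mpr inferInstance
  haveI : Algebra.IsPushout A A2 E E2 := Algebra.IsPushout.symm inferInstance
  let ε2 : E2 →ₐ[A2] A2 := (Algebra.TensorProduct.lift (Algebra.ofId A2 A2) ψ fun _ _ => Commute.all _ _).comp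
    (Algebra.IsPushout.equiv A A2 E E2).symm.toAlgHom
  have hε2 : ∀ v : E, ε2 (algebraMap E E2 v) = ψ v := fun v => by
    have h1 : (Algebra.IsPushout.equiv A A2 E E2).symm (algebraMap E E2 v) = (1 : A2) ⊗ₜ[A] v :=
      (Algebra.IsPushout.equiv A A2 E E2).injective (by simp [Algebra.IsPushout.equiv_tmul])
    simp [ε2, h1]
  let y2 : Ideal E2 := (IsLocalRing.maximalIdeal A2).comap ε2
  haveI : y2.IsPrime := Ideal.comap_isPrime _ _
  haveI : y2.LiesOver y := ⟨by
    ext v
    show v ∈ y ↔ ε2 (algebraMap E E2 v) ∈ IsLocalRing.maximalIdeal A2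
    rw [hε2, hy]
    rfl⟩
  refine fp_of_baseChange (A := A) (A' := A2) (C := E) (C' := E2) y y2 (Cz := D) ?_
  intro L _ _ _ _ _ N' _ _ _ _ _ _
  exact step_section H ε2 (fun i => by
    rw [show algebraMap P2 E2 (X i) = algebraMap E E2 (algebraMap P E (X i)) by
      rw [← IsScalarTower.algebraMap_apply P E E2, IsScalarTower.algebraMap_apply P P2 E2]
      simp [RingHom.algebraMap_toAlgebra]
      exact congrArg _ (MvPolynomial.map_X _ i).symm, hε2, hψ]) y2 rfl

theorem step_rational (H : ∀ k < n, QF.{u} k) {A : Type u} [CommRing A] [IsLocalRing A] {E : Type u} [CommRing E]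
    [Algebra (MvPolynomial (Fin n) A) E] [Algebra.Etale (MvPolynomial (Fin n) A) E]
    [Algebra A E] [IsScalarTower A (MvPolynomial (Fin n) A) E]
    (y : Ideal E) [y.IsPrime] (hym : (IsLocalRing.maximalIdeal A).map (algebraMap A E) ≤ y)
    (hyX : ∀ i, algebraMap _ E (X i : MvPolynomial (Fin n) A) ∈ y)
    (hrat : ∀ v : E, ∃ a : A, v - algebraMap A E a ∈ y)
    {D : Type u} [CommRing D] [Algebra A D] [Algebra E D] [IsScalarTower A E D] [IsLocalization.AtPrime D y]
    {G : Type u} [AddCommGroup G] [Module D G] [Module A G] [IsScalarTower A D G] [Module.Finite D G]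
    [Module.Flat A G] : Module.FinitePresentation D G := by
  let P := MvPolynomial (Fin n) A
  let m := IsLocalRing.maximalIdeal A
  letI : Field (A ⧸ m) := Ideal.Quotient.field m
  let j : A ⧸ m →ₐ[A] E ⧸ y := Ideal.Quotient.liftₐ m (Algebra.ofId A (E ⧸ y)) fun a ha =>
    Ideal.Quotient.eq_zero_iff_mem.mpr (hym (Ideal.mem_map_of_mem _ ha))
  have hj : Function.Bijective j := by
    refine ⟨RingHom.injective (j : A ⧸ m →+* E ⧸ y), fun v => ?_⟩
    obtain ⟨v, rfl⟩ := Ideal.Quotient.mk_surjective v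
    obtain ⟨a, ha⟩ := hrat v
    exact ⟨Ideal.Quotient.mk m a, (Ideal.Quotient.eq.mpr ha).symm⟩
  let g : E →ₐ[A] A ⧸ m := (AlgEquiv.ofBijective j hj).symm.toAlgHom.comp (Ideal.Quotient.mkₐ A y)
  have hg : ∀ v, g v = 0 ↔ v ∈ y := fun v => by
    show (AlgEquiv.ofBijective j hj).symm (Ideal.Quotient.mk y v) = 0 ↔ _
    rw [map_eq_zero_iff _ (AlgEquiv.ofBijective j hj).symm.injective, Ideal.Quotient.eq_zero_iff_mem]
  letI : Algebra P A := (MvPolynomial.constantCoeff : P →+* A).toAlgebra
  haveI : IsScalarTower A P A := IsScalarTower.of_algebraMap_eq fun a => (constantCoeff_C _ a).symm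
  have hgP : ∀ p : P, g (algebraMap P E p) = algebraMap P (A ⧸ m) p := fun p => by
    have h : g.comp (IsScalarTower.toAlgHom A P E) = IsScalarTower.toAlgHom A P (A ⧸ m) :=
      MvPolynomial.algHom_ext fun i => by
        show g (algebraMap P E (X i)) = Ideal.Quotient.mk m (MvPolynomial.constantCoeff (X i : P))
        rw [(hg _).mpr (hyX i), constantCoeff_X, map_zero]
    exact AlgHom.congr_fun h p
  let gP : E →ₐ[P] A ⧸ m := { toRingHom := g.toRingHom, commutes' := hgP }
  let Eb := A ⊗[P] E
  let l : Eb →ₐ[A] A ⧸ m := Algebra.TensorProduct.lift (Algebra.ofId A (A ⧸ m)) gP fun _ _ => Commute.all _ _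
  let yb : Ideal Eb := RingHom.ker l
  haveI : yb.IsPrime := RingHom.ker_isPrime _
  let A2 := Localization.AtPrime yb
  haveI : Module.Flat Eb A2 := IsLocalization.flat A2 yb.primeCompl
  haveI : Module.Flat A A2 := Module.Flat.trans A Eb A2
  let ψ : E →ₐ[A] A2 :=
    (IsScalarTower.toAlgHom A Eb A2).comp ((Algebra.TensorProduct.includeRight : E →ₐ[P] Eb).restrictScalars A)
  refine step_baseChange H ψ (fun i => ?_) y ?_
  · show algebraMap Eb A2 ((1 : A) ⊗ₜ[P] algebraMap P E (X i)) = 0
    rw [show (1 : A) ⊗ₜ[P] algebraMap P E (X i) = algebraMap P Eb (X i) from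
        (Algebra.TensorProduct.includeRight : E →ₐ[P] Eb).commutes _,
      IsScalarTower.algebraMap_apply P A Eb, show algebraMap P A (X i) = 0 from constantCoeff_X (R := A) i, map_zero, map_zero]
  · ext v
    show v ∈ y ↔ algebraMap Eb A2 ((1 : A) ⊗ₜ[P] v) ∈ IsLocalRing.maximalIdeal A2
    rw [IsLocalization.AtPrime.to_map_mem_maximal_iff A2 yb]
    show v ∈ y ↔ l ((1 : A) ⊗ₜ[P] v) = 0
    rw [show l ((1 : A) ⊗ₜ[P] v) = g v from (Algebra.TensorProduct.lift_tmul _ _ _ (1 : A) v).trans (by rw [map_one, one_mul]; rfl), hg]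

theorem step_qf (H : ∀ k < n, QF.{u} k) : QF.{u} n := by
  intro A _ _ C _ _ _ z _ hz hrat _ _ hX hqf Cz _ _ _ _ _ N _ _ _ _ _ _
  haveI := hqf
  let P := MvPolynomial (Fin n) A
  haveI : Algebra.FiniteType P C := .of_restrictScalars_finiteType A P C
  let y0 : Ideal P := z.comap (algebraMap P C)
  haveI : y0.IsPrime := Ideal.comap_isPrime _ _
  haveI : z.LiesOver y0 := ⟨rfl⟩
  obtain ⟨E, _, _, _, y, _, _, e, he, P', _, _, hP'z, heP', hbij, hfin, huniq⟩ :=
    Algebra.exists_etale_isIdempotentElem_forall_liesOver_eq y0 z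
  have hy0rat : ∀ p : P, p - algebraMap A P (MvPolynomial.constantCoeff p) ∈ y0 := fun p => by
    refine SetLike.le_def.mp ?_ (sub_C_mem A p)
    rw [show MvPolynomial.idealOfVars (Fin n) A = Ideal.span (Set.range X) from rfl, Ideal.span_le]
    rintro _ ⟨i, rfl⟩
    exact hX i
  have hy0m : (IsLocalRing.maximalIdeal A).map (algebraMap A P) ≤ y0 := by
    refine Ideal.map_le_iff_le_comap.mpr fun a ha => ?_
    show algebraMap P C (algebraMap A P a) ∈ z
    rw [← IsScalarTower.algebraMap_apply]
    exact hz (Ideal.mem_map_of_mem _ ha)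
  haveI : y0.IsMaximal := isMaximal_of_rational y0 hy0m fun p => ⟨_, hy0rat p⟩
  have hy0y : ∀ p ∈ y0, algebraMap P E p ∈ y := fun p hp => (y.over_def y0).le hp
  letI : Algebra A E := ((algebraMap P E).comp (algebraMap A P)).toAlgebra
  haveI : IsScalarTower A P E := IsScalarTower.of_algebraMap_eq' rfl
  have hym : (IsLocalRing.maximalIdeal A).map (algebraMap A E) ≤ y := by
    refine Ideal.map_le_iff_le_comap.mpr fun a ha => ?_
    exact hy0y _ (hy0m (Ideal.mem_map_of_mem _ ha))
  have hyrat : ∀ v : E, ∃ a : A, v - algebraMap A E a ∈ y := by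
    intro v
    obtain ⟨w, hw⟩ := hbij.2 (algebraMap E y.ResidueField v)
    obtain ⟨p, rfl⟩ := y0.algebraMap_residueField_surjective w
    have h1 : v - algebraMap P E p ∈ y := by
      rw [← Ideal.algebraMap_residueField_eq_zero, map_sub, ← hw, ← IsScalarTower.algebraMap_apply,
        AlgHom.commutes, sub_self]
    refine ⟨MvPolynomial.constantCoeff p, ?_⟩
    have h2 := add_mem h1 (hy0y _ (hy0rat p))
    rwa [map_sub, sub_add_sub_cancel, ← IsScalarTower.algebraMap_apply A P E] at h2
  let EC := E ⊗[P] C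
  let T := Localization.Away e
  let D := Localization.AtPrime y
  let L := Localization.AtPrime P'
  obtain ⟨gD, hgD, -⟩ := exists_comap_localRingHom y P' (algebraMap E EC) (P'.over_def y).symm D L
  letI : Algebra D L := gD.toAlgebra
  haveI : IsScalarTower E D L := IsScalarTower.of_algebraMap_eq' (by
    rw [RingHom.algebraMap_toAlgebra, hgD, ← IsScalarTower.algebraMap_eq])
  haveI : Module.Finite D L := by
    let ψ : T →ₐ[E] L := IsLocalization.liftAlgHom (M := Submonoid.powers e) (f := IsScalarTower.toAlgHom E EC L) (by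
      rintro ⟨_, k, rfl⟩
      rw [IsScalarTower.coe_toAlgHom', map_pow]
      exact (IsLocalization.map_units L (⟨e, heP'⟩ : P'.primeCompl)).pow k)
    have hψ : ∀ v : EC, ψ (algebraMap EC T v) = algebraMap EC L v := fun v => IsLocalization.lift_eq _ v
    let Φ : D ⊗[E] T →ₐ[D] L := Algebra.TensorProduct.lift (Algebra.ofId D L) ψ fun _ _ => Commute.all _ _
    haveI : Module.Finite D (D ⊗[E] T) := inferInstance
    haveI : Algebra.IsIntegral D (D ⊗[E] T) := Algebra.IsIntegral.of_finite _ _
    haveI : IsLocalRing D := inferInstance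
    let ρ : EC →+* D ⊗[E] T := (Algebra.TensorProduct.includeRight (R := E) (A := D) (B := T)).toRingHom.comp (algebraMap EC T)
    have hunit : ∀ v : EC, v ∉ P' → IsUnit (ρ v) := by
      intro v hv
      by_contra hu
      obtain ⟨M, hM, hvM⟩ := exists_max_ideal_of_mem_nonunits hu
      refine hv ?_
      have hMD : M.comap (algebraMap D (D ⊗[E] T)) = IsLocalRing.maximalIdeal D :=
        IsLocalRing.eq_maximalIdeal (Ideal.isMaximal_comap_of_isIntegral_of_isMaximal M)
      have hover : (M.comap ρ).LiesOver y := ⟨by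
        refine (IsLocalization.AtPrime.under_maximalIdeal D y).symm.trans ?_
        rw [← hMD]
        show Ideal.comap _ (Ideal.comap _ M) = Ideal.comap _ (Ideal.comap ρ M)
        rw [Ideal.comap_comap, Ideal.comap_comap]
        congr 1
        ext v
        simp [ρ, ← IsScalarTower.algebraMap_apply E EC T]
        rfl⟩
      have heM : e ∉ M.comap ρ := fun h =>
        hM.ne_top (M.eq_top_of_isUnit_mem h ((IsLocalization.Away.algebraMap_isUnit (S := T) e).map (Algebra.TensorProduct.includeRight (R := E) (A := D) (B := T))))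
      rw [← huniq _ (Ideal.comap_isPrime _ _) hover heM]
      exact hvM
    have hΦ : ∀ v : EC, Φ (ρ v) = algebraMap EC L v := fun v => by
      show Φ ((1 : D) ⊗ₜ[E] algebraMap EC T v) = _
      simp [Φ, hψ]
    refine Module.Finite.of_surjective Φ.toLinearMap fun x => ?_
    obtain ⟨b, s, rfl⟩ := IsLocalization.exists_mk'_eq P'.primeCompl x
    refine ⟨ρ b * ((hunit _ s.2).unit⁻¹ : (D ⊗[E] T)ˣ), ?_⟩
    show Φ _ = _
    rw [IsLocalization.eq_mk'_iff_mul_eq, map_mul, ← hΦ s, ← hΦ b, mul_assoc, ← map_mul,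
      IsUnit.val_inv_mul, map_one, mul_one]
  obtain ⟨gC, hgC, hlocC⟩ := exists_comap_localRingHom z P' Algebra.TensorProduct.includeRight.toRingHom hP'z Cz L
  letI : Algebra Cz L := gC.toAlgebra
  haveI : IsScalarTower C Cz L := IsScalarTower.of_algebraMap_eq' (by
    rw [RingHom.algebraMap_toAlgebra gC, hgC, IsScalarTower.algebraMap_eq C EC L]
    rfl)
  haveI : IsLocalHom (algebraMap Cz L) := hlocC
  haveI : IsLocalRing Cz := IsLocalization.AtPrime.isLocalRing Cz z
  haveI : Module.Flat C EC := by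
    haveI : Algebra.IsPushout P C E EC := Algebra.IsPushout.symm inferInstance
    exact Module.Flat.isBaseChange P C E EC (Algebra.IsPushout.out (R := P) (S := C) (R' := E) (S' := EC))
  haveI : Module.Flat EC L := IsLocalization.flat L P'.primeCompl
  haveI : Module.Flat C L := Module.Flat.trans C EC L
  haveI : Module.Flat Cz L := (Module.flat_iff_of_isLocalization Cz z.primeCompl L).mpr inferInstance
  haveI : Module.FaithfullyFlat Cz L := Module.FaithfullyFlat.of_flat_of_isLocalHom
  haveI : IsScalarTower A C EC := IsScalarTower.of_algebraMap_eq fun a => by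
    rw [IsScalarTower.algebraMap_apply A P C, ← IsScalarTower.algebraMap_apply P C EC,
      IsScalarTower.algebraMap_apply P E EC, ← IsScalarTower.algebraMap_apply A P E,
      ← IsScalarTower.algebraMap_apply A E EC]
  haveI : IsScalarTower A Cz L := IsScalarTower.of_algebraMap_eq fun a => by
    rw [IsScalarTower.algebraMap_apply A C Cz, ← IsScalarTower.algebraMap_apply C Cz L,
      IsScalarTower.algebraMap_apply C EC L, ← IsScalarTower.algebraMap_apply A C EC,
      ← IsScalarTower.algebraMap_apply A EC L]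
  haveI : IsScalarTower A D L := IsScalarTower.of_algebraMap_eq fun a => by
    rw [IsScalarTower.algebraMap_apply A E D, ← IsScalarTower.algebraMap_apply E D L,
      IsScalarTower.algebraMap_apply E EC L, ← IsScalarTower.algebraMap_apply A E EC,
      ← IsScalarTower.algebraMap_apply A EC L]
  haveI : Module.Flat A (L ⊗[Cz] N) := flat_tensor A Cz L N
  haveI : Module.Finite L (L ⊗[Cz] N) := inferInstance
  haveI : Module.Finite D (L ⊗[Cz] N) := Module.Finite.trans L _
  haveI : Module.FinitePresentation D (L ⊗[Cz] N) :=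
    step_rational H (A := A) (E := E) (D := D) (G := L ⊗[Cz] N) y hym (fun i => hy0y _ (hX i)) hyrat
  haveI : Module.FinitePresentation L (L ⊗[Cz] N) := fp_of_finite D L (N := L ⊗[Cz] N)
  exact fp_descend Cz L

theorem qf_all (n : ℕ) : QF.{u} n := by
  induction n using Nat.strong_induction_on with
  | _ n ih => exact step_qf ih

/-- Raynaud–Gruson: a finite module over a local ring of a finite type algebra which is flat over
the base is finitely presented. -/
theorem fp_of_flat {R S : Type u} [CommRing R] [CommRing S] [Algebra R S] [Algebra.FiniteType R S]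
    (q : Ideal S) [q.IsPrime] (Sq : Type u) [CommRing Sq] [Algebra S Sq] [Algebra R Sq] [IsScalarTower R S Sq]
    [IsLocalization.AtPrime Sq q] (N : Type u) [AddCommGroup N] [Module Sq N] [Module R N] [IsScalarTower R Sq N]
    [Module.Finite Sq N] [Module.Flat R N] : Module.FinitePresentation Sq N := by
  obtain ⟨n, π, hπ⟩ := Algebra.FiniteType.iff_quotient_mvPolynomial''.mp (inferInstance : Algebra.FiniteType R S)
  let P := MvPolynomial (Fin n) R
  let K := q.ResidueField
  let Q : Ideal P := q.comap π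
  haveI : Q.IsPrime := Ideal.comap_isPrime _ _
  let A1 := Localization.AtPrime Q
  have hu : ∀ p : Q.primeCompl, IsUnit (((IsScalarTower.toAlgHom R S K).comp π) p) := fun p =>
    IsUnit.mk0 _ fun h => p.2 ((Ideal.algebraMap_residueField_eq_zero (I := q)).mp h)
  let f : A1 →ₐ[R] K := IsLocalization.liftAlgHom (M := Q.primeCompl) hu
  have hf : ∀ p : P, f (algebraMap P A1 p) = algebraMap S K (π p) := fun p => IsLocalization.lift_eq _ p
  have hfsurj : Function.Surjective f := by
    intro x
    obtain ⟨a, b, hb, rfl⟩ := IsFractionRing.div_surjective (S ⧸ q) x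
    obtain ⟨a, rfl⟩ := Ideal.Quotient.mk_surjective a
    obtain ⟨b, rfl⟩ := Ideal.Quotient.mk_surjective b
    obtain ⟨a, rfl⟩ := hπ a
    obtain ⟨b, rfl⟩ := hπ b
    have hbQ : b ∈ Q.primeCompl := fun h => nonZeroDivisors.ne_zero hb (Ideal.Quotient.eq_zero_iff_mem.mpr h)
    refine ⟨IsLocalization.mk' A1 a ⟨b, hbQ⟩, ?_⟩
    rw [← Ideal.Quotient.algebraMap_eq, ← IsScalarTower.algebraMap_apply, ← IsScalarTower.algebraMap_apply, ← hf, ← hf,
      eq_div_iff (by rw [hf]; exact fun h => hbQ ((Ideal.algebraMap_residueField_eq_zero (I := q)).mp h)), ← map_mul,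
      IsLocalization.mk'_spec_mk]
  let C1 := A1 ⊗[R] S
  let l : C1 →ₐ[R] K := Algebra.TensorProduct.lift f (IsScalarTower.toAlgHom R S K) fun _ _ => Commute.all _ _
  have hl : ∀ (a : A1) (s : S), l (a ⊗ₜ s) = f a * algebraMap S K s := fun a s => Algebra.TensorProduct.lift_tmul _ _ _ a s
  let z : Ideal C1 := RingHom.ker l
  haveI : z.IsPrime := RingHom.ker_isPrime _
  haveI : z.LiesOver q := ⟨by
    ext s
    show s ∈ q ↔ l ((1 : A1) ⊗ₜ s) = 0
    rw [hl, map_one, one_mul, Ideal.algebraMap_residueField_eq_zero]⟩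
  have hz : (IsLocalRing.maximalIdeal A1).map (algebraMap A1 C1) ≤ z := by
    refine Ideal.map_le_iff_le_comap.mpr fun a ha => ?_
    obtain ⟨p, u, rfl⟩ := IsLocalization.exists_mk'_eq Q.primeCompl a
    show l (IsLocalization.mk' A1 p u ⊗ₜ 1) = 0
    have hp : p ∈ Q := (IsLocalization.AtPrime.mk'_mem_maximal_iff A1 Q p u).mp ha
    rw [hl, IsLocalization.mk'_eq_mul_mk'_one, map_mul, hf, (Ideal.algebraMap_residueField_eq_zero (I := q)).mpr hp, zero_mul, zero_mul]
  have hrat : ∀ c : C1, ∃ a : A1, c - algebraMap A1 C1 a ∈ z := fun c => by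
    obtain ⟨a, ha⟩ := hfsurj (l c)
    refine ⟨a, ?_⟩
    show l (c - a ⊗ₜ 1) = 0
    rw [map_sub, hl, map_one, mul_one, ha, sub_self]
  let x : Fin n → C1 := fun i => (1 : A1) ⊗ₜ π (X i) - algebraMap A1 C1 (algebraMap P A1 (X i))
  let φ : MvPolynomial (Fin n) A1 →ₐ[A1] C1 := aeval x
  letI : Algebra (MvPolynomial (Fin n) A1) C1 := φ.toRingHom.toAlgebra
  haveI : IsScalarTower A1 (MvPolynomial (Fin n) A1) C1 := IsScalarTower.of_algebraMap_eq fun a => (φ.commutes a).symm
  have hφ : Function.Surjective φ := by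
    have h1 : ∀ p : P, (1 : A1) ⊗ₜ π p ∈ φ.range := by
      intro p
      have : (⊤ : Subalgebra R P) ≤ (φ.range.restrictScalars R).comap
          ((Algebra.TensorProduct.includeRight : S →ₐ[R] C1).comp π) := by
        rw [← MvPolynomial.adjoin_range_X, Algebra.adjoin_le_iff]
        rintro _ ⟨i, rfl⟩
        refine ⟨X i + MvPolynomial.C (algebraMap P A1 (X i)), ?_⟩
        show φ _ = (1 : A1) ⊗ₜ π (X i)
        simp [φ, x]
      exact this (Algebra.mem_top (x := p))
    intro c
    induction c using TensorProduct.induction_on with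
    | zero => exact ⟨0, map_zero _⟩
    | tmul a s =>
      obtain ⟨p, rfl⟩ := hπ s
      have := φ.range.smul_mem (h1 p) a
      rwa [TensorProduct.smul_tmul', smul_eq_mul, mul_one] at this
    | add c d hc hd =>
      obtain ⟨c, rfl⟩ := hc
      obtain ⟨d, rfl⟩ := hd
      exact ⟨c + d, map_add _ _ _⟩
  haveI : Module.Finite (MvPolynomial (Fin n) A1) C1 := Module.Finite.of_surjective (Algebra.linearMap _ C1) hφ
  haveI : Module.Flat P A1 := IsLocalization.flat A1 Q.primeCompl
  haveI : Module.Flat R A1 := Module.Flat.trans R P A1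
  refine fp_of_baseChange (A := R) (A' := A1) (C := S) (C' := C1) q z (Cz := Sq) ?_
  intro L _ _ _ _ _ N' _ _ _ _ _ _
  refine qf_all n A1 C1 z hz hrat (fun i => ?_) inferInstance L N'
  show l (φ (X i)) = 0
  rw [show φ (X i) = x i from aeval_X _ i]
  show l ((1 : A1) ⊗ₜ π (X i) - algebraMap P A1 (X i) ⊗ₜ (1 : S)) = 0
  rw [map_sub, hl, hl, hf, map_one, map_one, one_mul, mul_one, sub_self]

end Groth.Agent.RGFlat
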