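import Groth.Agent.RGFlat.WeakAssTensor

/-!
Specialization of points of the relative assassin of flat modules.
-/

set_option autoImplicit false

universe u

open TensorProduct

attribute [local instance] Algebra.TensorProduct.rightAlgebra

namespace Groth.Agent.RGFlat

variable {A B : Type u} [CommRing A] [CommRing B] [Algebra A B] [Algebra.FiniteType A B]
  {N : Type u} [AddCommGroup N] [Module B N] [Module A N] [IsScalarTower A B N] [Module.Finite B N]

/-- A point of the relative assassin below a point of flatness over `p` is below an associated point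
of the fibre over `p`. -/
theorem exists_assoc_ge (p : Ideal A) [p.IsPrime]
    (hflat : ∀ (q : Ideal B) [q.IsPrime], q.LiesOver p → FlatCA.FlatAt A q N)
    (p' : Ideal A) [p'.IsPrime] (q' : Ideal B) [q'.IsPrime] [q'.LiesOver p']
    (hass : FlatCA.fiberIdeal p' q' ∈ associatedPrimes (p'.Fiber B) (FlatCA.fiberMod p' B N))
    (hspec : ∃ (t : Ideal B), t.IsPrime ∧ q' ≤ t ∧ t.LiesOver p) :
    ∃ (q : Ideal B) (_ : q.IsPrime), q' ≤ q ∧ q.LiesOver p ∧
      FlatCA.fiberIdeal p q ∈ associatedPrimes (p.Fiber B) (FlatCA.fiberMod p B N) := by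
  classical
  obtain ⟨t, ht, hq't, htp⟩ := hspec
  haveI := ht
  haveI := htp
  haveI := isNoetherianRing_fiber (S := B) p
  haveI := finite_fiberMod (S := B) (N := N) p
  let ι : B →+* p.Fiber B := (Algebra.TensorProduct.includeRight (R := A) (A := p.ResidueField) (B := B)).toRingHom
  let X := associatedPrimes (p.Fiber B) (FlatCA.fiberMod p B N)
  have hX : X.Finite := associatedPrimes.finite _ _
  have hover : ∀ P ∈ X, (P.comap ι).LiesOver p := by
    intro P hP
    haveI : P.IsPrime := hP.1
    constructor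
    ext a
    show a ∈ p ↔ ι (algebraMap A B a) ∈ P
    rw [show ι (algebraMap A B a) = algebraMap A (p.Fiber B) a from
      (Algebra.TensorProduct.includeRight (R := A) (A := p.ResidueField) (B := B)).commutes a,
      IsScalarTower.algebraMap_apply A p.ResidueField (p.Fiber B)]
    refine ⟨fun ha => ?_, fun ha => by_contra fun hap => ?_⟩
    · rw [Ideal.algebraMap_residueField_eq_zero.mpr ha, map_zero]; exact zero_mem _
    · refine hP.1.ne_top (Ideal.eq_top_of_isUnit_mem _ ha (IsUnit.map _ ?_))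
      rw [isUnit_iff_ne_zero, Ne, Ideal.algebraMap_residueField_eq_zero]
      exact hap
  have hmapcomap : ∀ P : Ideal (p.Fiber B), (P.comap ι).map ι = P := fun P => by
    refine le_antisymm Ideal.map_comap_le fun b hb => ?_
    obtain ⟨c, hc, s, hcs⟩ := Ideal.Fiber.exists_smul_eq_one_tmul p b
    have hs : s ∈ P.comap ι := by
      show (1 : p.ResidueField) ⊗ₜ[A] s ∈ P
      rw [← hcs, Algebra.smul_def]
      exact P.mul_mem_left _ hb
    have h1 : (1 : p.ResidueField) ⊗ₜ[A] s ∈ (P.comap ι).map ι := Ideal.mem_map_of_mem ι hs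
    rw [← hcs, Algebra.smul_def, IsScalarTower.algebraMap_apply A p.ResidueField (p.Fiber B)] at h1
    refine (Ideal.unit_mul_mem_iff_mem _ (IsUnit.map _ ?_)).mp h1
    rw [isUnit_iff_ne_zero, Ne, Ideal.algebraMap_residueField_eq_zero]
    exact hc
  by_contra hc
  push Not at hc
  obtain ⟨σ, hσ', hσ⟩ : ∃ σ ∈ q', ∀ P ∈ X, σ ∉ P.comap ι := by
    by_contra h
    push Not at h
    have hsub : (q' : Set B) ⊆ ⋃ P ∈ X, ((P.comap ι : Ideal B) : Set B) := fun a ha => by
      obtain ⟨P, hP, haP⟩ := h a ha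
      exact Set.mem_biUnion hP haP
    obtain ⟨P, hP, hle⟩ := (Ideal.subset_union_prime_finite hX (f := fun P => P.comap ι) ⊥ ⊥
      fun P hP _ _ => haveI : P.IsPrime := hP.1; Ideal.comap_isPrime ι P).mp hsub
    haveI : P.IsPrime := hP.1
    refine hc (P.comap ι) (Ideal.comap_isPrime ι P) hle (hover P hP) ?_
    show Ideal.map ι (P.comap ι) ∈ X
    rw [hmapcomap]
    exact hP
  have hreg : ∀ m : N, σ • m ∈ CAlgA.FibreMod.pN (S := B) N p → ∃ s ∉ t, s • m ∈ CAlgA.FibreMod.pN (S := B) N p := by
    intro m hm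
    have h0 : FlatCA.toFiberMod p B N m = 0 := by
      by_contra hne
      obtain ⟨P, hP, hle⟩ := exists_le_isAssociatedPrime_of_isNoetherianRing (p.Fiber B) _ hne
      refine hσ P hP (hle ?_)
      rw [Submodule.mem_colon_singleton, Submodule.mem_bot]
      show (Algebra.TensorProduct.includeRight (R := A) (A := p.ResidueField) σ : p.Fiber B) • FlatCA.toFiberMod p B N m = 0
      rw [CAlgA.FibreMod.includeRight_smul, ← map_smul]
      exact CAlgA.FibreMod.toFiberMod_eq_zero_of_mem N p hm
    obtain ⟨r, hr, hrm⟩ := CAlgA.FibreMod.exists_smul_mem N p h0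
    exact ⟨algebraMap A B r, fun h => hr ((t.over_def p).ge h), hrm⟩
  have hflat' : FlatCA.FlatAt A q' N := FlatOpen.flatAt_of_le hq't (hflat t htp)
  have hp' : p' ∈ FlatCA.weakAss A (A ⧸ p') :=
    WeakAss.mem_weakAss_iff.mpr ⟨Submodule.Quotient.mk 1, fun a ha => by
      rwa [← Submodule.Quotient.mk_smul, Submodule.Quotient.mk_eq_zero, smul_eq_mul, mul_one] at ha,
      fun f hf => ⟨1, fun h => (inferInstance : p'.IsPrime).ne_top ((Ideal.eq_top_iff_one _).mpr h), 1, by
        rw [one_mul, pow_one, ← Submodule.Quotient.mk_smul, Submodule.Quotient.mk_eq_zero, smul_eq_mul, mul_one]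
        exact hf⟩⟩
  obtain ⟨x, hx, hrad⟩ := WeakAss.mem_weakAss_iff.mp
    ((mem_weakAss_tensor_iff (M := A ⧸ p') p' q' hflat').mpr ⟨hp', hass⟩)
  obtain ⟨s, hs, k, hk⟩ := hrad σ hσ'
  rw [mul_comm, mul_smul] at hk
  obtain ⟨u, hu, hux⟩ := exists_smul_eq_zero_of_pow_fibre_regular p t (hflat t htp) σ hreg _ _ k hk
  rw [← mul_smul] at hux
  exact q'.primeCompl.mul_mem (fun h => hu (hq't h)) hs (hx _ hux)

end Groth.Agent.RGFlat

namespace Groth.Agent.RGFlat

/-- Over a local ring, injectivity of maps out of pure flat modules is tested on the closed fibre. -/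
theorem injective_of_pure {A B : Type u} [CommRing A] [IsLocalRing A] [CommRing B] [Algebra A B] [Algebra.FiniteType A B]
    {N : Type u} [AddCommGroup N] [Module B N] [Module A N] [IsScalarTower A B N] [Module.Finite B N] [Module.Flat A N]
    (hpure : FlatCA.IsPureAlong A B N (IsLocalRing.maximalIdeal A))
    {N' : Type u} [AddCommGroup N'] [Module B N'] (φ : N →ₗ[B] N')
    (h : ∀ (q : Ideal B) [q.IsPrime], q.LiesOver (IsLocalRing.maximalIdeal A) →
      FlatCA.fiberIdeal (IsLocalRing.maximalIdeal A) q ∈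
        associatedPrimes ((IsLocalRing.maximalIdeal A).Fiber B) (FlatCA.fiberMod (IsLocalRing.maximalIdeal A) B N) →
      Function.Injective (LocalizedModule.map q.primeCompl φ)) :
    Function.Injective φ := by
  classical
  let m := IsLocalRing.maximalIdeal A
  rw [injective_iff_map_eq_zero]
  intro x hx
  by_contra hne
  have hann : (Submodule.span B {x}).annihilator ≠ ⊤ := fun he => hne (by
    simpa using WeakAss.mem_ann.mp (he.symm ▸ Submodule.mem_top : (1 : B) ∈ (Submodule.span B {x}).annihilator))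
  obtain ⟨q', hq'⟩ := Ideal.nonempty_minimalPrimes hann
  haveI : q'.IsPrime := hq'.1.1
  let p' := q'.comap (algebraMap A B)
  haveI : p'.IsPrime := Ideal.comap_isPrime _ _
  haveI : q'.LiesOver p' := ⟨rfl⟩
  have hmem : q' ∈ FlatCA.weakAss B (N ⊗[A] A) :=
    WeakAss.weakAss_mono (f := (AlgebraTensorModule.rid A B N).symm.toLinearMap)
      (AlgebraTensorModule.rid A B N).symm.injective ⟨x, hq'⟩
  obtain ⟨-, hass⟩ := (mem_weakAss_tensor_iff (M := A) p' q' (flatAt_of_flat q')).mp hmem
  have hspec : ∃ (t : Ideal B), t.IsPrime ∧ q' ≤ t ∧ t.LiesOver m := by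
    by_contra hc
    push Not at hc
    have hnhd : FlatCA.IsEtaleNhd A A m m := by
      refine ⟨inferInstance, ⟨rfl⟩, RingHom.injective _, fun z => ?_⟩
      obtain ⟨a, rfl⟩ := m.algebraMap_residueField_surjective z
      exact ⟨algebraMap A _ a, AlgHom.commutes _ a⟩
    exact hpure A B N LinearMap.id p' m q' hnhd
      ⟨Algebra.IsPushout.symm inferInstance, IsBaseChange.ofEquiv (LinearEquiv.refl B N),
        IsLocalRing.le_maximalIdeal (Ideal.IsPrime.ne_top inferInstance), ⟨rfl⟩, inferInstance, hass,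
        fun P' _ hle hP' => hc P' inferInstance hle hP'⟩
  obtain ⟨q, _, hle, hqm, hq⟩ := exists_assoc_ge m (fun q _ _ => flatAt_of_flat q) p' q' hass hspec
  have h0 : LocalizedModule.map q.primeCompl φ (LocalizedModule.mk x 1) = 0 := by
    rw [LocalizedModule.map_mk, hx, LocalizedModule.zero_mk]
  obtain ⟨⟨c, hc⟩, hcx⟩ := (WeakAss.mk_eq_zero q.primeCompl).mp ((injective_iff_map_eq_zero _).mp (h q hqm hq) _ h0)
  exact hc (hle (hq'.1.2 (WeakAss.mem_ann.mpr hcx)))

end Groth.Agent.RGFlat
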