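import Groth.Agent.RGFlat.FibreReg
import Groth.Agent.Dim.Support

/-!
Finitely many elements cut out conditions on a fibre.
-/

set_option autoImplicit false

universe u

open TensorProduct

attribute [local instance] Algebra.TensorProduct.rightAlgebra

namespace Groth.Agent.RGFlat

variable {R S : Type u} [CommRing R] [CommRing S] [Algebra R S] [Algebra.FiniteType R S]
  {N : Type u} [AddCommGroup N] [Module S N] [Module R N] [IsScalarTower R S N] [Module.Finite S N]

theorem exists_notMem_mem_assoc (p : Ideal R) [p.IsPrime] (q : Ideal S) [q.IsPrime] [q.LiesOver p] :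
    ∃ g : S, g ∉ q ∧ ∀ r ∈ associatedPrimes (p.Fiber S) (FlatCA.fiberMod p S N),
      ¬ r ≤ FlatCA.fiberIdeal p q → (1 : p.ResidueField) ⊗ₜ[R] g ∈ r := by
  classical
  haveI := isNoetherianRing_fiber (S := S) p
  haveI := finite_fiberMod (S := S) (N := N) p
  let ι : S →+* p.Fiber S := (Algebra.TensorProduct.includeRight (R := R) (A := p.ResidueField) (B := S)).toRingHom
  let T := {r ∈ associatedPrimes (p.Fiber S) (FlatCA.fiberMod p S N) | ¬ r ≤ FlatCA.fiberIdeal p q}
  have hT : T.Finite := (associatedPrimes.finite _ _).subset (Set.sep_subset _ _)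
  have hex : ∀ r ∈ T, ∃ g : S, g ∉ q ∧ ι g ∈ r := by
    intro r hr
    obtain ⟨b, hb, hbq⟩ := SetLike.not_le_iff_exists.mp hr.2
    obtain ⟨c, hc, s, hcs⟩ := Ideal.Fiber.exists_smul_eq_one_tmul p b
    have hmem : c • b ∈ r := by rw [Algebra.smul_def]; exact r.mul_mem_left _ hb
    refine ⟨s, fun hsq => hbq ?_, by rw [show ι s = c • b from hcs.symm]; exact hmem⟩
    have hmem' : (1 : p.ResidueField) ⊗ₜ[R] s ∈ FlatCA.fiberIdeal p q := Ideal.mem_map_of_mem _ hsq
    rw [← hcs, Algebra.smul_def, IsScalarTower.algebraMap_apply R p.ResidueField (p.Fiber S)] at hmem'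
    refine (Ideal.unit_mul_mem_iff_mem _ (IsUnit.map _ ?_)).mp hmem'
    rw [isUnit_iff_ne_zero, Ne, Ideal.algebraMap_residueField_eq_zero]
    exact hc
  choose! g hg hgr using hex
  refine ⟨∏ r ∈ hT.toFinset, g r, fun h => ?_, fun r hr hrq => ?_⟩
  · obtain ⟨r, hr, hgq⟩ := (inferInstance : q.IsPrime).prod_mem_iff.mp h
    exact hg r (hT.mem_toFinset.mp hr) hgq
  · show ι _ ∈ r
    rw [← Finset.prod_erase_mul _ g (hT.mem_toFinset.mpr ⟨hr, hrq⟩), map_mul]
    exact r.mul_mem_left _ (hgr r ⟨hr, hrq⟩)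

/-- A finitely generated ideal in the annihilator with the same trace on the fibre. -/
theorem exists_fg_annihilating (p : Ideal R) [p.IsPrime] :
    ∃ J : Ideal S, J.FG ∧ J ≤ Module.annihilator S N ∧
      ∀ x : PrimeSpectrum (p.Fiber S),
        FlatCA.fiberIdeal p J ≤ x.asIdeal ↔ x ∈ Module.support (p.Fiber S) (FlatCA.fiberMod p S N) := by
  classical
  haveI := isNoetherianRing_fiber (S := S) p
  let ι : S →+* p.Fiber S := (Algebra.TensorProduct.includeRight (R := R) (A := p.ResidueField) (B := S)).toRingHom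
  obtain ⟨G', hG', hspan⟩ := (Submodule.fg_span_iff_fg_span_finset_subset (R := p.Fiber S)
      (ι '' (Module.annihilator S N : Set S))).mp (IsNoetherian.noetherian _)
  obtain ⟨G, hGA, hGG'⟩ := Finset.subset_set_image_iff.mp hG'
  refine ⟨Ideal.span (G : Set S), ⟨G, rfl⟩, Ideal.span_le.mpr hGA, fun x => ?_⟩
  have heq : FlatCA.fiberIdeal p (Ideal.span (G : Set S)) = FlatCA.fiberIdeal p (Module.annihilator S N) := by
    show Ideal.map ι _ = Ideal.map ι _
    rw [Ideal.map_span, ← Finset.coe_image, hGG']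
    exact hspan.symm
  rw [heq]
  show Ideal.map ι (Module.annihilator S N) ≤ x.asIdeal ↔ x ∈ Module.support (p.Fiber S) ((p.Fiber S) ⊗[S] N)
  rw [Dim.support_tensor S (p.Fiber S) (p.Fiber S) N, Module.support_of_algebra,
    RingHom.injective_iff_ker_eq_bot (algebraMap (p.Fiber S) (p.Fiber S)) |>.mp Function.injective_id,
    Set.mem_inter_iff, Set.mem_preimage, Module.support_eq_zeroLocus, Ideal.map_le_iff_le_comap]
  exact ⟨fun h => ⟨(PrimeSpectrum.mem_zeroLocus _ _).mpr (SetLike.coe_subset_coe.mpr bot_le), h⟩, fun h => h.2⟩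

end Groth.Agent.RGFlat
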