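import Groth.Agent.RGFlat.Loc
import Groth.Agent.FlatOpen.API
import Groth.Agent.FlatOpen.Descend
import Mathlib.RingTheory.LocalProperties.FinitePresentation
import Mathlib.RingTheory.FiniteType

/-!
Spreading out local finite presentation of flat modules.
-/

set_option autoImplicit false

universe u

open TensorProduct

namespace Groth.Agent.RGFlat

variable {R S : Type u} [CommRing R] [CommRing S] [Algebra R S] {M : Type u} [AddCommGroup M]
  [Module S M] [Module R M] [IsScalarTower R S M]

theorem mk_eq_zero_iff {q : Submonoid S} {N : Type u} [AddCommGroup N] [Module S N] (m : N) (s : q) :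
    LocalizedModule.mk m s = 0 ↔ ∃ t : q, (t : S) • m = 0 := by
  rw [IsLocalizedModule.mk_eq_mk', IsLocalizedModule.mk'_eq_zero']
  rfl

/-- A finitely presented cover of `M` which is an isomorphism at `q`. -/
theorem exists_model [Module.Finite S M] (q : Ideal S) [q.IsPrime]
    [Module.FinitePresentation (Localization.AtPrime q) (LocalizedModule q.primeCompl M)] :
    ∃ (r : ℕ) (K : Submodule S (Fin r → S)) (π : ((Fin r → S) ⧸ K) →ₗ[S] M), K.FG ∧ Function.Surjective π ∧
      ∀ x, π x = 0 → ∃ s : S, s ∉ q ∧ s • x = 0 := by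
  classical
  obtain ⟨r, f, hf⟩ := Module.Finite.exists_fin' S M
  let fq := LocalizedModule.map q.primeCompl f
  obtain ⟨G, hG⟩ := Module.FinitePresentation.fg_ker fq (LocalizedModule.map_surjective _ f hf)
  have hk : ∀ v ∈ G, ∃ (k : Fin r → S) (s : q.primeCompl), f k = 0 ∧ v = LocalizedModule.mk k s := by
    intro v hv
    obtain ⟨⟨k, s⟩, rfl⟩ : ∃ ks : (Fin r → S) × q.primeCompl, LocalizedModule.mk ks.1 ks.2 = v := by
      induction v using LocalizedModule.induction_on with
      | h k s => exact ⟨(k, s), rfl⟩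
    have h0 : fq (LocalizedModule.mk k s) = 0 := hG.le (Submodule.subset_span hv)
    rw [LocalizedModule.map_mk, mk_eq_zero_iff] at h0
    obtain ⟨t, ht⟩ := h0
    refine ⟨t • k, t * s, ?_, (LocalizedModule.mk_cancel_common_left t s k).symm⟩
    rw [Submonoid.smul_def, map_smul]
    exact ht
  choose! k s hk hks using hk
  let K : Submodule S (Fin r → S) := Submodule.span S (G.image k : Finset (Fin r → S))
  have hK : K ≤ LinearMap.ker f := Submodule.span_le.mpr fun v hv => by
    obtain ⟨w, hw, rfl⟩ := Finset.mem_image.mp hv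
    exact hk w hw
  refine ⟨r, K, K.liftQ f hK, ⟨_, rfl⟩, fun m => ?_, fun x hx => ?_⟩
  · obtain ⟨a, ha⟩ := hf m
    exact ⟨Submodule.Quotient.mk a, ha⟩
  · obtain ⟨x, rfl⟩ := Submodule.Quotient.mk_surjective _ x
    have h1 : LocalizedModule.mk x 1 ∈ LinearMap.ker fq := by
      rw [LinearMap.mem_ker, LocalizedModule.map_mk, show f x = 0 from hx, LocalizedModule.zero_mk]
    rw [← hG] at h1
    have h2 : Submodule.span (Localization.AtPrime q) (G : Set (LocalizedModule q.primeCompl (Fin r → S))) ≤
        K.localized' (Localization.AtPrime q) q.primeCompl (LocalizedModule.mkLinearMap q.primeCompl (Fin r → S)) :=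
      Submodule.span_le.mpr fun v hv => ⟨k v, Submodule.subset_span (Finset.mem_image_of_mem k hv), s v, by
        rw [← IsLocalizedModule.mk_eq_mk']; exact (hks v hv).symm⟩
    obtain ⟨m, hm, u, hu⟩ := h2 h1
    rw [← IsLocalizedModule.mk_eq_mk', LocalizedModule.mk_eq] at hu
    obtain ⟨t, ht⟩ := hu
    refine ⟨t * u, q.primeCompl.mul_mem t.2 u.2, (Submodule.Quotient.mk_eq_zero K).mpr ?_⟩
    show ((t : S) * (u : S)) • x ∈ K
    rw [mul_smul]
    simp only [Submonoid.smul_def, OneMemClass.coe_one, one_smul] at ht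
    rw [← ht]
    exact K.smul_mem _ hm

/-- A cover whose kernel dies on `D(g)` gives a presentation there. -/
theorem fp_away {M₀ : Type u} [AddCommGroup M₀] [Module S M₀] [Module.FinitePresentation S M₀]
    (π : M₀ →ₗ[S] M) (hπ : Function.Surjective π) (g : S) (h : ∀ x, π x = 0 → ∃ k : ℕ, g ^ k • x = 0) :
    Module.FinitePresentation (Localization.Away g) (LocalizedModule (Submonoid.powers g) M) := by
  let πg := LocalizedModule.map (Submonoid.powers g) π
  have hinj : Function.Injective πg := by
    rw [← LinearMap.ker_eq_bot, eq_bot_iff]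
    intro x hx
    induction x using LocalizedModule.induction_on with
    | h m s =>
      rw [LinearMap.mem_ker, LocalizedModule.map_mk, mk_eq_zero_iff] at hx
      obtain ⟨t, ht⟩ := hx
      rw [← map_smul] at ht
      obtain ⟨k, hk⟩ := h _ ht
      rw [Submodule.mem_bot, mk_eq_zero_iff]
      exact ⟨⟨g ^ k, k, rfl⟩ * t, by show (g ^ k * (t : S)) • m = 0; rw [mul_smul]; exact hk⟩
  exact Module.FinitePresentation.of_equiv
    (LinearEquiv.ofBijective πg ⟨hinj, LocalizedModule.map_surjective _ π hπ⟩)

/-- An element killed into every localization on `D(g)` is killed by a power of `g`. -/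
theorem exists_pow_smul_eq_zero {M₀ : Type u} [AddCommGroup M₀] [Module S M₀] (g : S) (x : M₀)
    (h : ∀ (Q : Ideal S), Q.IsPrime → g ∉ Q → ∃ t : S, t ∉ Q ∧ t • x = 0) : ∃ k : ℕ, g ^ k • x = 0 := by
  have : g ∈ Ideal.radical (LinearMap.ker (LinearMap.toSpanSingleton S M₀ x) : Ideal S) := by
    rw [Ideal.radical_eq_sInf, Submodule.mem_sInf]
    rintro Q ⟨hle, hQ⟩
    by_contra hg
    obtain ⟨t, ht, htx⟩ := h Q hQ hg
    exact ht (hle (by simpa [LinearMap.mem_ker] using htx))
  obtain ⟨k, hk⟩ := this
  exact ⟨k, by simpa [LinearMap.mem_ker] using hk⟩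

theorem flat_away (g : S) (h : ∀ (Q : Ideal S) [Q.IsPrime], g ∉ Q → FlatCA.FlatAt R Q M) :
    Module.Flat R (LocalizedModule (Submonoid.powers g) M) := by
  let Sg := Localization.Away g
  let Mg := LocalizedModule (Submonoid.powers g) M
  haveI : IsScalarTower R S Mg := inferInstance
  haveI : IsScalarTower R Sg Mg := IsScalarTower.of_algebraMap_smul fun r x => by
    rw [IsScalarTower.algebraMap_apply R S Sg, IsScalarTower.algebraMap_smul, IsScalarTower.algebraMap_smul]
  refine FlatOpen.flat_of_forall_flatAt (S := Sg) (M := Mg) fun Q' hQ' => ?_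
  show Module.Flat R (LocalizedModule Q'.primeCompl Mg)
  let Q := Q'.comap (algebraMap S Sg)
  haveI : Q.IsPrime := Ideal.comap_isPrime _ _
  have hgQ : g ∉ Q := fun hmem =>
    hQ'.ne_top (Ideal.eq_top_of_isUnit_mem _ hmem (IsLocalization.Away.algebraMap_isUnit g))
  haveI : Module.Flat R (LocalizedModule Q.primeCompl M) := h Q hgQ
  let SQ := Localization.AtPrime Q'
  haveI : IsLocalization.AtPrime SQ Q :=
    IsLocalization.isLocalization_isLocalization_atPrime_isLocalization (Submonoid.powers g) SQ Q'
  let f1 := LocalizedModule.mkLinearMap (Submonoid.powers g) M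
  let f2 := LocalizedModule.mkLinearMap Q'.primeCompl Mg
  have h1 : IsBaseChange Sg f1 := (isLocalizedModule_iff_isBaseChange (Submonoid.powers g) Sg f1).mp inferInstance
  have h2 : IsBaseChange SQ f2 := (isLocalizedModule_iff_isBaseChange Q'.primeCompl SQ f2).mp inferInstance
  let φ : M →ₗ[S] LocalizedModule Q'.primeCompl Mg := (f2.restrictScalars S).comp f1
  haveI : IsLocalizedModule Q.primeCompl φ :=
    (isLocalizedModule_iff_isBaseChange Q.primeCompl SQ φ).mpr (h1.comp h2)
  exact Module.Flat.of_linearEquiv ((IsLocalizedModule.iso Q.primeCompl φ).symm.restrictScalars R)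

end Groth.Agent.RGFlat
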