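import Groth.Agent.RGFlat.SpreadPiece
import Groth.Agent.RGFlat.FibreMisc
import Groth.Agent.VarDim.Algebra

/-!
Projectivity of a flat finitely presented module spreads out from a prime of the base.
-/

set_option autoImplicit false
set_option linter.style.haveILetI false

universe u

open TensorProduct

attribute [local instance] Algebra.TensorProduct.rightAlgebra

namespace Groth.Agent.RGFlat.Spreading

/-- A module killed by an element off `q` is covered by the zero module. -/
theorem localCover_of_not_le {A B : Type u} [CommRing A] [CommRing B] [Algebra A B] (N : Type u) [AddCommGroup N]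
    [Module B N] (q : Ideal B) [q.IsPrime] (h : ¬ Module.annihilator B N ≤ q) : LocalCover A N q := by
  obtain ⟨b, hb, hbq⟩ := SetLike.not_le_iff_exists.mp h
  let C := Localization.Away b
  haveI : Algebra.Etale B C := Algebra.Etale.of_isLocalizationAway b
  haveI : Subsingleton (C ⊗[B] N) := subsingleton_of_forall_eq 0 fun w => by
    induction w with
    | zero => rfl
    | tmul c v =>
      obtain ⟨u, hu⟩ := IsLocalization.Away.algebraMap_isUnit (S := C) b
      rw [show c = b • ((↑u⁻¹ : C) * c) by rw [Algebra.smul_def, ← hu, Units.mul_inv_cancel_left],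
        TensorProduct.smul_tmul, Module.mem_annihilator.mp hb, TensorProduct.tmul_zero]
    | add x y hx hy => rw [hx, hy, add_zero]
  have hdisj : Disjoint (Submonoid.powers b : Set B) q :=
    (Ideal.disjoint_powers_iff_notMem _ (Ideal.IsPrime.isRadical ‹_›)).mpr hbq
  exact ⟨A, C, inferInstance, inferInstance, inferInstance, inferInstance, inferInstance, inferInstance,
    inferInstance, inferInstance, inferInstance, inferInstance, inferInstance,
    q.map (algebraMap B C), IsLocalization.isPrime_of_isPrime_disjoint _ _ _ ‹_› hdisj,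
    IsLocalization.under_map_of_isPrime_disjoint _ _ ‹_› hdisj⟩

/-- Finiteness on a fibre over the base gives quasi-finiteness over an intermediate algebra. -/
theorem quasiFiniteAt_of_fibre_finite {A P C : Type u} [CommRing A] [CommRing P] [CommRing C] [Algebra A P]
    [Algebra A C] [Algebra P C] [IsScalarTower A P C] [Algebra.FiniteType A C]
    (p : Ideal A) [p.IsPrime] (q : Ideal C) [q.IsPrime] [q.LiesOver p]
    (hfin : (Algebra.TensorProduct.map (AlgHom.id p.ResidueField p.ResidueField)
      (IsScalarTower.toAlgHom A P C)).Finite) :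
    Algebra.QuasiFiniteAt P q := by
  classical
  haveI : Algebra.FiniteType P C := .of_restrictScalars_finiteType A P C
  let φ := Algebra.TensorProduct.map (AlgHom.id p.ResidueField p.ResidueField) (IsScalarTower.toAlgHom A P C)
  let η : Ideal P := q.comap (algebraMap P C)
  haveI : q.LiesOver η := ⟨rfl⟩
  haveI : η.LiesOver p := ⟨by
    rw [Ideal.under_def, Ideal.comap_comap, ← IsScalarTower.algebraMap_eq]
    exact q.over_def p⟩
  let K := η.ResidueField
  let GK := η.Fiber C
  let ι : p.ResidueField →ₐ[A] K := Ideal.ResidueField.mapₐ p η (Algebra.ofId A P) (η.over_def p)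
  let θ : p.Fiber P →ₐ[A] K :=
    Algebra.TensorProduct.lift ι (IsScalarTower.toAlgHom A P K) fun _ _ => .all _ _
  let Θ : p.Fiber C →ₐ[A] GK :=
    Algebra.TensorProduct.lift (((Algebra.ofId K GK).restrictScalars A).comp ι)
      (((Algebra.TensorProduct.includeRight : C →ₐ[P] GK)).restrictScalars A) fun _ _ => .all _ _
  have hcomp : ∀ f : p.Fiber P, Θ (φ f) = algebraMap K GK (θ f) := by
    intro f
    induction f using TensorProduct.induction_on with
    | zero => simp only [map_zero]
    | tmul k c =>
      show Θ (k ⊗ₜ algebraMap P C c) = algebraMap K GK (ι k * algebraMap P K c)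
      rw [Algebra.TensorProduct.lift_tmul, map_mul, ← IsScalarTower.algebraMap_apply P K GK]
      congr 1
      exact (Algebra.TensorProduct.includeRight : C →ₐ[P] GK).commutes c
    | add x y hx hy => simp only [map_add, hx, hy]
  letI : Algebra (p.Fiber P) (p.Fiber C) := φ.toRingHom.toAlgebra
  have hF : Module.Finite (p.Fiber P) (p.Fiber C) := hfin
  obtain ⟨gen, hgen⟩ := hF.fg_top
  have hΘ : ∀ v : p.Fiber C, Θ v ∈ Submodule.span K (Θ '' (gen : Set (p.Fiber C))) := by
    intro v
    have hv : v ∈ Submodule.span (p.Fiber P) (gen : Set (p.Fiber C)) := hgen ▸ Submodule.mem_top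
    induction hv using Submodule.span_induction with
    | mem w hw => exact Submodule.subset_span ⟨w, hw, rfl⟩
    | zero => rw [map_zero]; exact zero_mem _
    | add a b _ _ ha hb => rw [map_add]; exact add_mem ha hb
    | smul c a _ ha =>
      rw [Algebra.smul_def, map_mul, show Θ (algebraMap (p.Fiber P) (p.Fiber C) c) = _ from hcomp c,
        ← Algebra.smul_def]
      exact Submodule.smul_mem _ _ ha
  haveI : Module.Finite K GK := ⟨⟨gen.image Θ, by
    rw [eq_top_iff, Finset.coe_image]
    rintro w -
    induction w using TensorProduct.induction_on with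
    | zero => exact zero_mem _
    | tmul k c =>
      rw [← mul_one k, ← smul_eq_mul, ← TensorProduct.smul_tmul']
      refine Submodule.smul_mem _ _ ?_
      rw [show (1 : K) ⊗ₜ[P] c = Θ (1 ⊗ₜ c) by
        rw [Algebra.TensorProduct.lift_tmul, map_one, one_mul]; rfl]
      exact hΘ _
    | add a b ha hb => exact add_mem ha hb⟩⟩
  let x := PrimeSpectrum.primesOverOrderIsoFiber P C η ⟨q, inferInstance, inferInstance⟩
  haveI : Algebra.QuasiFiniteAt K x.asIdeal := inferInstance
  haveI : Algebra.WeaklyQuasiFiniteAt P q :=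
    Algebra.WeaklyQuasiFiniteAt.of_quasiFiniteAt_residueField η q x.asIdeal
      (congrArg Subtype.val ((PrimeSpectrum.primesOverOrderIsoFiber P C η).symm_apply_apply ⟨q, inferInstance, inferInstance⟩))
  exact Algebra.QuasiFiniteAt.of_weaklyQuasiFiniteAt q

/-- Parameters with finite fibre over a given prime. -/
theorem exists_params {A C : Type u} [CommRing A] [CommRing C] [Algebra A C] [Algebra.FiniteType A C] (p : Ideal A)
    [p.IsPrime] [Nontrivial (p.Fiber C)] {n : ℕ} (hdim : ringKrullDim (p.Fiber C) < n) :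
    ∃ s < n, ∃ x : Fin s → C,
      (MvPolynomial.aeval (R := p.ResidueField) fun i => (1 : p.ResidueField) ⊗ₜ[A] x i).Finite := by
  classical
  obtain ⟨s, g, hginj, hgfin⟩ := exists_finite_inj_algHom_of_fg p.ResidueField (p.Fiber C)
  have hs : ringKrullDim (p.Fiber C) = s := by
    letI := g.toRingHom.toAlgebra
    haveI : Module.Finite (MvPolynomial (Fin s) p.ResidueField) (p.Fiber C) := hgfin
    haveI : FaithfulSMul (MvPolynomial (Fin s) p.ResidueField) (p.Fiber C) :=
      (faithfulSMul_iff_algebraMap_injective _ _).mpr hginj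
    rw [VarDim.ringKrullDim_eq_of_isIntegral (R := MvPolynomial (Fin s) p.ResidueField),
      MvPolynomial.ringKrullDim_of_isNoetherianRing, ringKrullDim_eq_zero_of_field, zero_add, Nat.card_eq_fintype_card,
      Fintype.card_fin]
  have hsn : s < n := by exact_mod_cast hs ▸ hdim
  choose c hc y hy using fun i => Ideal.Fiber.exists_smul_eq_one_tmul p (g (MvPolynomial.X i))
  have hcu : ∀ i, algebraMap A p.ResidueField (c i) ≠ 0 := fun i => by
    rw [Ne, Ideal.algebraMap_residueField_eq_zero]
    exact hc i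
  let σ : MvPolynomial (Fin s) p.ResidueField →ₐ[p.ResidueField] MvPolynomial (Fin s) p.ResidueField :=
    MvPolynomial.aeval fun i => algebraMap A p.ResidueField (c i) • MvPolynomial.X i
  have hσ : Function.Surjective σ := by
    intro f
    induction f using MvPolynomial.induction_on with
    | C a => exact ⟨MvPolynomial.C a, MvPolynomial.aeval_C _ _⟩
    | add f₁ f₂ h₁ h₂ =>
      obtain ⟨g₁, rfl⟩ := h₁
      obtain ⟨g₂, rfl⟩ := h₂
      exact ⟨g₁ + g₂, map_add _ _ _⟩
    | mul_X f i h =>
      obtain ⟨g₁, rfl⟩ := h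
      refine ⟨g₁ * ((algebraMap A p.ResidueField (c i))⁻¹ • MvPolynomial.X i), ?_⟩
      rw [map_mul, map_smul, MvPolynomial.aeval_X, smul_smul, inv_mul_cancel₀ (hcu i), one_smul]
  refine ⟨s, hsn, y, ?_⟩
  have heq : MvPolynomial.aeval (R := p.ResidueField) (fun i => (1 : p.ResidueField) ⊗ₜ[A] y i) = g.comp σ := by
    refine MvPolynomial.algHom_ext fun i => ?_
    rw [MvPolynomial.aeval_X, AlgHom.comp_apply, MvPolynomial.aeval_X, map_smul, algebraMap_smul, hy]
  rw [heq]
  exact hgfin.comp (RingHom.Finite.of_surjective σ.toRingHom hσ)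

/-- A module killed by an ideal is the base change to the quotient. -/
theorem quotient_tensor_bijective {B : Type u} [CommRing B] (N : Type u) [AddCommGroup N] [Module B N] (J : Ideal B)
    (hJ : J ≤ Module.annihilator B N) : Function.Bijective (TensorProduct.mk B (B ⧸ J) N 1) := by
  refine ⟨fun v w hvw => ?_, fun z => ?_⟩
  · have h := congrArg (TensorProduct.quotTensorEquivQuotSMul N J) hvw
    rw [TensorProduct.mk_apply, TensorProduct.mk_apply, ← map_one (Ideal.Quotient.mk J),
      TensorProduct.quotTensorEquivQuotSMul_mk_tmul, TensorProduct.quotTensorEquivQuotSMul_mk_tmul, one_smul, one_smul,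
      Submodule.Quotient.eq] at h
    have hbot : J • (⊤ : Submodule B N) = ⊥ := by
      rw [eq_bot_iff, Submodule.smul_le]
      intro j hj m _
      exact (Submodule.mem_bot B).mpr (Module.mem_annihilator.mp (hJ hj) m)
    rw [hbot, Submodule.mem_bot, sub_eq_zero] at h
    exact h
  · induction z with
    | zero => exact ⟨0, map_zero _⟩
    | tmul c v =>
      obtain ⟨b, rfl⟩ := Ideal.Quotient.mk_surjective c
      refine ⟨b • v, ?_⟩
      rw [TensorProduct.mk_apply, TensorProduct.tmul_smul, TensorProduct.smul_tmul', Algebra.smul_def, mul_one]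
      rfl
    | add x z hx hz =>
      obtain ⟨u, rfl⟩ := hx
      obtain ⟨w, rfl⟩ := hz
      exact ⟨u + w, map_add _ _ _⟩

/-- Finite presentation of a base change over an algebra finitely presented as a module. -/
theorem finitePresentation_tensor (P B B₁ C0 : Type u) [CommRing P] [CommRing B] [CommRing B₁] [CommRing C0]
    [Algebra P B₁] [Algebra B B₁] [Algebra B C0] [Module.FinitePresentation P (B₁ ⊗[B] C0)]
    (N : Type u) [AddCommGroup N] [Module B N] [Module.FinitePresentation B N]
    (hbij : Function.Bijective (TensorProduct.mk B C0 N 1)) :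
    Module.FinitePresentation P (B₁ ⊗[B] N) := by
  haveI : Module.FinitePresentation (B₁ ⊗[B] C0) ((B₁ ⊗[B] C0) ⊗[B] N) := inferInstance
  haveI : Module.FinitePresentation P ((B₁ ⊗[B] C0) ⊗[B] N) :=
    Module.FinitePresentation.trans P ((B₁ ⊗[B] C0) ⊗[B] N) (B₁ ⊗[B] C0)
  let e1 : (B₁ ⊗[B] C0) ⊗[B] N ≃ₗ[B₁] B₁ ⊗[B] (C0 ⊗[B] N) := AlgebraTensorModule.assoc B B B₁ B₁ C0 N
  let e2 : B₁ ⊗[B] N ≃ₗ[B₁] B₁ ⊗[B] (C0 ⊗[B] N) :=
    AlgebraTensorModule.congr (LinearEquiv.refl B₁ B₁) (LinearEquiv.ofBijective _ hbij)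
  exact Module.FinitePresentation.of_equiv ((e1.trans e2.symm).restrictScalars P)

/-- The localised piece, finite over the étale parameter algebra after killing the ideal. -/
theorem finitePresentation_piece {P P' B : Type u} [CommRing P] [CommRing P'] [CommRing B] [Algebra P P']
    [Algebra P B] [Algebra.FinitePresentation P B] (J : Ideal B) (hJ : J.FG)
    (e : P' ⊗[P] (B ⧸ J)) [Module.Finite P' (Localization.Away e)] (e' : P' ⊗[P] B)
    (he : Algebra.TensorProduct.map (AlgHom.id P' P') (Ideal.Quotient.mkₐ P J) e' = e) :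
    Module.FinitePresentation P' ((Localization.Away e') ⊗[B] (B ⧸ J)) := by
  let B₁ := Localization.Away e'
  let C0 := B ⧸ J
  let W := B₁ ⊗[B] C0
  haveI := isScalarTower_tensor (A := P) (B := B) P'
  let inc : C0 →ₐ[P] W :=
    (Algebra.TensorProduct.includeRight : C0 →ₐ[B] W).restrictScalars P
  let ψ : P' ⊗[P] C0 →ₐ[P'] W :=
    Algebra.TensorProduct.lift (Algebra.ofId P' W) inc fun _ _ => .all _ _
  have hψ : ∀ z : P' ⊗[P] B, ψ (Algebra.TensorProduct.map (AlgHom.id P' P') (Ideal.Quotient.mkₐ P J) z) =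
      algebraMap (P' ⊗[P] B) B₁ z ⊗ₜ[B] (1 : C0) := by
    intro z
    induction z with
    | zero => simp only [map_zero, TensorProduct.zero_tmul]
    | tmul a b =>
      rw [Algebra.TensorProduct.map_tmul, Algebra.TensorProduct.lift_tmul]
      show (algebraMap P' B₁ a ⊗ₜ[B] (1 : C0)) * ((1 : B₁) ⊗ₜ[B] Ideal.Quotient.mk J b) = _
      rw [Algebra.TensorProduct.tmul_mul_tmul, mul_one, one_mul,
        show Ideal.Quotient.mk J b = b • (1 : C0) by rw [Algebra.smul_def, mul_one]; rfl,
        TensorProduct.tmul_smul, TensorProduct.smul_tmul', Algebra.smul_def]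
      congr 1
      rw [IsScalarTower.algebraMap_apply P' (P' ⊗[P] B) B₁, IsScalarTower.algebraMap_apply B (P' ⊗[P] B) B₁,
        ← map_mul]
      congr 1
      show ((1 : P') ⊗ₜ[P] b) * (a ⊗ₜ[P] (1 : B)) = a ⊗ₜ[P] b
      rw [Algebra.TensorProduct.tmul_mul_tmul, mul_one, one_mul]
    | add x y hx hy => simp only [map_add, TensorProduct.add_tmul, hx, hy]
  have hu : IsUnit (ψ e) := by
    rw [← he, hψ]
    exact (IsLocalization.Away.algebraMap_isUnit e').map (Algebra.TensorProduct.includeLeft : B₁ →ₐ[B] W)
  let Ψ : Localization.Away e →ₐ[P'] W := IsLocalization.Away.liftAlgHom e (f := ψ) hu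
  have hΨ : ∀ z, Ψ (algebraMap _ (Localization.Away e) z) = ψ z := fun z => IsLocalization.Away.lift_eq e hu z
  have hsurj : Function.Surjective Ψ := by
    intro w
    induction w using TensorProduct.induction_on with
    | zero => exact ⟨0, map_zero _⟩
    | tmul b₁ c =>
      obtain ⟨b, rfl⟩ := Ideal.Quotient.mk_surjective c
      obtain ⟨⟨z, _, k, rfl⟩, hz⟩ := IsLocalization.surj (Submonoid.powers e') b₁
      let ρ := Algebra.TensorProduct.map (AlgHom.id P' P') (Ideal.Quotient.mkₐ P J)
      have hz' : (b₁ ⊗ₜ[B] (1 : C0)) * ψ (e ^ k) = ψ (ρ z) := by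
        rw [← he, ← map_pow ρ, hψ, hψ, Algebra.TensorProduct.tmul_mul_tmul, mul_one, hz]
      have hek : IsUnit (algebraMap (P' ⊗[P] C0) (Localization.Away e) (e ^ k)) := by
        rw [map_pow]
        exact (IsLocalization.Away.algebraMap_isUnit e).pow k
      refine ⟨algebraMap _ _ (ρ z * ((1 : P') ⊗ₜ[P] Ideal.Quotient.mk J b)) * ↑hek.unit⁻¹, ?_⟩
      refine ((hek.map Ψ).mul_left_inj).mp ?_
      rw [← map_mul Ψ, mul_assoc, IsUnit.val_inv_mul, mul_one, hΨ, map_mul, hΨ, ← hz', mul_right_comm]
      congr 1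
      rw [Algebra.TensorProduct.lift_tmul, map_one, one_mul]
      show (b₁ ⊗ₜ[B] (1 : C0)) * ((1 : B₁) ⊗ₜ[B] Ideal.Quotient.mk J b) = _
      rw [Algebra.TensorProduct.tmul_mul_tmul, mul_one, one_mul]
    | add x y hx hy =>
      obtain ⟨u, rfl⟩ := hx
      obtain ⟨v, rfl⟩ := hy
      exact ⟨u + v, map_add _ _ _⟩
  haveI : Module.Finite P' W := Module.Finite.of_surjective Ψ.toLinearMap hsurj
  haveI : Algebra.FinitePresentation B C0 := Algebra.FinitePresentation.quotient hJ
  haveI : Algebra.FinitePresentation P' B₁ := by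
    haveI : Algebra.FinitePresentation (P' ⊗[P] B) B₁ := IsLocalization.Away.finitePresentation e'
    exact Algebra.FinitePresentation.trans P' (P' ⊗[P] B) B₁
  haveI : Algebra.FinitePresentation B₁ W := inferInstance
  haveI : Algebra.FinitePresentation P' W := Algebra.FinitePresentation.trans P' B₁ W
  exact Module.FinitePresentation.of_finite_of_finitePresentation P' W

/-- The inductive step: cover every point over `p`. -/
theorem localCover_of_dim_lt {n : ℕ} (IH : ∀ s < n, Spreads.{u} s) {A B : Type u} [CommRing A] [CommRing B]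
    [Algebra A B] [Algebra.FinitePresentation A B] (N : Type u) [AddCommGroup N] [Module B N] [Module A N]
    [IsScalarTower A B N] [Module.FinitePresentation B N] [Module.Flat A N] (p : Ideal A) [p.IsPrime]
    (hdim : ringKrullDim (p.Fiber B ⧸ Module.annihilator (p.Fiber B) (FlatCA.fiberMod p B N)) < n)
    (q : Ideal B) [q.IsPrime] [q.LiesOver p] : LocalCover A N q := by
  classical
  by_cases hann : Module.annihilator B N ≤ q
  swap
  · exact localCover_of_not_le N q hann
  obtain ⟨J, hJfg, hJann, hJsupp⟩ := exists_fg_annihilating (S := B) (N := N) p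
  let C0 := B ⧸ J
  haveI : Algebra.FinitePresentation B C0 := Algebra.FinitePresentation.quotient hJfg
  haveI : Algebra.FinitePresentation A C0 := Algebra.FinitePresentation.trans A B C0
  let q0 : Ideal C0 := q.map (Ideal.Quotient.mk J)
  have hJq : J ≤ q := hJann.trans hann
  haveI : q0.IsPrime := Ideal.map_isPrime_of_surjective Ideal.Quotient.mk_surjective (by rwa [Ideal.mk_ker])
  have hq0 : q0.comap (Ideal.Quotient.mk J) = q := by
    rw [Ideal.comap_map_of_surjective _ Ideal.Quotient.mk_surjective, ← RingHom.ker_eq_comap_bot, Ideal.mk_ker,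
      sup_eq_left.mpr hJq]
  haveI : q0.LiesOver p := ⟨by
    rw [Ideal.under_def, show algebraMap A C0 = (Ideal.Quotient.mk J).comp (algebraMap A B) from rfl,
      ← Ideal.comap_comap, hq0]
    exact q.over_def p⟩
  haveI : Nontrivial (p.Fiber C0) :=
    (PrimeSpectrum.nonempty_iff_nontrivial (R := p.Fiber C0)).mp
      ⟨PrimeSpectrum.primesOverOrderIsoFiber A C0 p ⟨q0, inferInstance, inferInstance⟩⟩
  have hdim0 : ringKrullDim (p.Fiber C0) < n := by
    haveI := isNoetherianRing_fiber (S := B) p
    haveI := finite_fiberMod (S := B) (N := N) p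
    let F := p.Fiber B
    let π : F →ₐ[p.ResidueField] p.Fiber C0 :=
      Algebra.TensorProduct.map (AlgHom.id _ _) (Ideal.Quotient.mkₐ A J)
    have hπ : Function.Surjective π := Algebra.TensorProduct.map_surjective _ _ Function.surjective_id
      Ideal.Quotient.mk_surjective
    have hker : FlatCA.fiberIdeal p J ≤ RingHom.ker π.toRingHom := by
      refine Ideal.map_le_iff_le_comap.mpr fun j hj => ?_
      show π ((1 : p.ResidueField) ⊗ₜ[A] j) = 0
      rw [Algebra.TensorProduct.map_tmul, show Ideal.Quotient.mkₐ A J j = 0 from Ideal.Quotient.eq_zero_iff_mem.mpr hj,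
        TensorProduct.tmul_zero]
    have h1 : ringKrullDim (p.Fiber C0) ≤ ringKrullDim (F ⧸ FlatCA.fiberIdeal p J) :=
      ringKrullDim_le_of_surjective (Ideal.Quotient.lift _ π.toRingHom fun a ha => hker ha)
        (Ideal.Quotient.lift_surjective_of_surjective _ _ hπ)
    refine lt_of_le_of_lt h1 ?_
    have hset : PrimeSpectrum.zeroLocus (FlatCA.fiberIdeal p J : Set F) =
        PrimeSpectrum.zeroLocus (Module.annihilator F (FlatCA.fiberMod p B N) : Set F) := by
      ext x
      rw [← Module.support_eq_zeroLocus, ← hJsupp x]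
      exact PrimeSpectrum.mem_zeroLocus _ _
    rw [ringKrullDim_quotient, hset, ← ringKrullDim_quotient]
    exact hdim
  obtain ⟨s, hsn, xbar, hfin⟩ := exists_params p hdim0
  choose x hx using fun i => Ideal.Quotient.mk_surjective (I := J) (xbar i)
  letI : Algebra (MvPolynomial (Fin s) A) B := (MvPolynomial.aeval (R := A) x).toRingHom.toAlgebra
  haveI : IsScalarTower A (MvPolynomial (Fin s) A) B :=
    IsScalarTower.of_algebraMap_eq fun a => ((MvPolynomial.aeval (R := A) x).commutes a).symm
  haveI : IsScalarTower A (MvPolynomial (Fin s) A) C0 :=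
    IsScalarTower.of_algebraMap_eq fun a => by
      show Ideal.Quotient.mk J (algebraMap A B a) = Ideal.Quotient.mk J (algebraMap (MvPolynomial (Fin s) A) B _)
      rw [← IsScalarTower.algebraMap_apply]
  let P := MvPolynomial (Fin s) A
  haveI : Algebra.FinitePresentation P B := Algebra.FinitePresentation.of_restrict_scalars_finitePresentation A P B
  haveI : Algebra.FiniteType P C0 := .of_restrictScalars_finiteType A P C0
  haveI hqf : Algebra.QuasiFiniteAt P q0 := by
    refine quasiFiniteAt_of_fibre_finite p q0 ?_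
    let e := MvPolynomial.algebraTensorAlgEquiv (σ := Fin s) A p.ResidueField
    have : Algebra.TensorProduct.map (AlgHom.id p.ResidueField p.ResidueField) (IsScalarTower.toAlgHom A P C0) =
        (MvPolynomial.aeval (R := p.ResidueField) fun i => (1 : p.ResidueField) ⊗ₜ[A] xbar i).comp e.toAlgHom := by
      refine Algebra.TensorProduct.ext (AlgHom.ext fun k => ?_) (MvPolynomial.algHom_ext fun i => ?_)
      · show Algebra.TensorProduct.map _ _ (algebraMap p.ResidueField (p.Fiber P) k) =
          ((MvPolynomial.aeval (R := p.ResidueField) fun i => (1 : p.ResidueField) ⊗ₜ[A] xbar i).comp e.toAlgHom)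
            (algebraMap p.ResidueField (p.Fiber P) k)
        rw [AlgHom.commutes, AlgHom.commutes]
      · simp only [AlgHom.coe_comp, Function.comp_apply, AlgHom.coe_restrictScalars', Algebra.TensorProduct.includeRight_apply,
          Algebra.TensorProduct.map_tmul, AlgHom.coe_id, id_eq, IsScalarTower.coe_toAlgHom']
        have h2 : e ((1 : p.ResidueField) ⊗ₜ[A] (MvPolynomial.X i : P)) = MvPolynomial.X i := by simp [e]
        rw [show e.toAlgHom ((1 : p.ResidueField) ⊗ₜ[A] (MvPolynomial.X i : P)) = MvPolynomial.X i from h2,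
          MvPolynomial.aeval_X]
        congr 1
        show Ideal.Quotient.mk J (MvPolynomial.aeval x (MvPolynomial.X i)) = xbar i
        rw [MvPolynomial.aeval_X, hx]
    rw [this]
    exact hfin.comp (RingHom.Finite.of_surjective e.toRingEquiv.toRingHom e.surjective)
  let y0 : Ideal P := q0.comap (algebraMap P C0)
  haveI : q0.LiesOver y0 := ⟨rfl⟩
  obtain ⟨P', _, _, _, y, _, _, e, -, Q0, _, hQ0y, hQ0q, heQ0, -, hfinP', -⟩ :=
    Algebra.exists_etale_isIdempotentElem_forall_liesOver_eq y0 q0
  haveI := hfinP'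
  haveI := isScalarTower_tensor (A := P) (B := B) P'
  let ρ : P' ⊗[P] B →ₐ[P'] P' ⊗[P] C0 := Algebra.TensorProduct.map (AlgHom.id P' P') (Ideal.Quotient.mkₐ P J)
  obtain ⟨e', he'⟩ := Algebra.TensorProduct.map_surjective (AlgHom.id P' P') (Ideal.Quotient.mkₐ P J)
    Function.surjective_id Ideal.Quotient.mk_surjective e
  letI : Algebra A P' := ((algebraMap P P').comp (algebraMap A P)).toAlgebra
  haveI : IsScalarTower A P P' := IsScalarTower.of_algebraMap_eq fun _ => rfl
  let B₁ := Localization.Away e'
  haveI : IsScalarTower A P' (P' ⊗[P] B) := inferInstance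
  haveI : IsScalarTower A B (P' ⊗[P] B) := IsScalarTower.of_algebraMap_eq fun a => by
    rw [IsScalarTower.algebraMap_apply A P B, ← IsScalarTower.algebraMap_apply P B (P' ⊗[P] B),
      IsScalarTower.algebraMap_apply A P' (P' ⊗[P] B), IsScalarTower.algebraMap_apply A P P',
      ← IsScalarTower.algebraMap_apply P P' (P' ⊗[P] B)]
  haveI : Algebra.IsPushout P P' B (P' ⊗[P] B) := inferInstance
  haveI : Algebra.Etale B (P' ⊗[P] B) := Algebra.Etale.of_equiv (Algebra.IsPushout.equiv P B P' (P' ⊗[P] B))
  haveI : Algebra.Etale (P' ⊗[P] B) B₁ := Algebra.Etale.of_isLocalizationAway e'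
  haveI : Algebra.Etale B B₁ := Algebra.Etale.comp B (P' ⊗[P] B) B₁
  haveI : IsScalarTower A B B₁ := inferInstance
  haveI : IsScalarTower A P' B₁ := inferInstance
  haveI : Module.FinitePresentation P' (B₁ ⊗[B] C0) := finitePresentation_piece J hJfg e e' he'
  let G1 := B₁ ⊗[B] N
  haveI : Module.FinitePresentation P' G1 :=
    finitePresentation_tensor P' B B₁ C0 N (quotient_tensor_bijective N J hJann)
  haveI : Module.Flat A G1 := flat_tensor A B B₁ N
  -- the point of `B₁`
  let Q : Ideal (P' ⊗[P] B) := Q0.comap ρ.toRingHom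
  have hQe : e' ∉ Q := fun hm => heQ0 (he' ▸ hm)
  have hQd : Disjoint (Submonoid.powers e' : Set (P' ⊗[P] B)) Q :=
    (Ideal.disjoint_powers_iff_notMem _ (Ideal.IsPrime.isRadical inferInstance)).mpr hQe
  let z₁ : Ideal B₁ := Q.map (algebraMap (P' ⊗[P] B) B₁)
  haveI : z₁.IsPrime := IsLocalization.isPrime_of_isPrime_disjoint _ B₁ Q inferInstance hQd
  have hz₁ : z₁.comap (algebraMap (P' ⊗[P] B) B₁) = Q := IsLocalization.under_map_of_isPrime_disjoint _ B₁ inferInstance hQd
  have hz₁q : z₁.comap (algebraMap B B₁) = q := by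
    rw [IsScalarTower.algebraMap_eq B (P' ⊗[P] B) B₁, ← Ideal.comap_comap, hz₁, Ideal.comap_comap,
      show ρ.toRingHom.comp (algebraMap B (P' ⊗[P] B)) =
        (Algebra.TensorProduct.includeRight : C0 →ₐ[P] P' ⊗[P] C0).toRingHom.comp (Ideal.Quotient.mk J) from
        RingHom.ext fun b => by
          show ρ ((1 : P') ⊗ₜ[P] b) = _
          rw [Algebra.TensorProduct.map_tmul]
          rfl,
      ← Ideal.comap_comap, hQ0q, hq0]
  have hz₁y : z₁.comap (algebraMap P' B₁) = y := by
    rw [IsScalarTower.algebraMap_eq P' (P' ⊗[P] B) B₁, ← Ideal.comap_comap, hz₁, Ideal.comap_comap]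
    exact (congrArg (fun f => Ideal.comap f Q0) ρ.comp_algebraMap).trans hQ0y.over.symm
  -- geometrically integral fibres
  haveI : Algebra.Smooth A P := ⟨inferInstance, inferInstance⟩
  haveI : Algebra.Smooth A P' := Algebra.Smooth.comp A P P'
  obtain ⟨A₂, D, _, _, _, _, _, _, _, _, hA₂, hDet, hDsm, hgi, yD, hyD, hyDy⟩ := SmoothNhd.exists_geomIntegral_nhd (A := A) y
  haveI := hA₂
  haveI := hDet
  haveI := hDsm
  let G := D ⊗[P'] G1
  haveI : Module.Flat A G := flat_tensor A P' D G1
  haveI : IsScalarTower A A₂ G := IsScalarTower.of_algebraMap_smul fun a z => by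
    rw [← algebraMap_smul D (algebraMap A A₂ a) z, ← IsScalarTower.algebraMap_apply A A₂ D, algebraMap_smul]
  haveI : Module.Flat A₂ G := (S1231.flat_restrict (R := A) (T := A₂) G).mp inferInstance
  letI : Algebra P D := ((algebraMap P' D).comp (algebraMap P P')).toAlgebra
  haveI : IsScalarTower P P' D := IsScalarTower.of_algebraMap_eq fun _ => rfl
  letI : Algebra (MvPolynomial (Fin s) A₂) D :=
    (MvPolynomial.aeval (R := A₂) fun i => algebraMap P D (MvPolynomial.X i)).toRingHom.toAlgebra
  haveI : IsScalarTower A₂ (MvPolynomial (Fin s) A₂) D := IsScalarTower.of_algebraMap_eq fun a =>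
    ((MvPolynomial.aeval (R := A₂) fun i => algebraMap P D (MvPolynomial.X i)).commutes a).symm
  letI := MvPolynomial.algebraMvPolynomial (σ := Fin s) (R := A) (S := A₂)
  haveI : IsScalarTower P (MvPolynomial (Fin s) A₂) D := IsScalarTower.of_algebraMap_eq' (by
    refine MvPolynomial.ringHom_ext (fun a => ?_) fun i => ?_
    · show algebraMap P' D (algebraMap P P' (MvPolynomial.C a)) =
        MvPolynomial.aeval _ (MvPolynomial.map (algebraMap A A₂) (MvPolynomial.C a))
      rw [MvPolynomial.map_C, MvPolynomial.aeval_C, ← MvPolynomial.algebraMap_eq,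
        ← IsScalarTower.algebraMap_apply A P P', ← IsScalarTower.algebraMap_apply A P' D,
        ← IsScalarTower.algebraMap_apply A A₂ D]
    · show algebraMap P D (MvPolynomial.X i) =
        MvPolynomial.aeval _ (MvPolynomial.map (algebraMap A A₂) (MvPolynomial.X i))
      rw [MvPolynomial.map_X, MvPolynomial.aeval_X])
  haveI : Algebra.Etale P D := Algebra.Etale.comp P P' D
  haveI : Algebra.QuasiFinite (MvPolynomial (Fin s) A₂) D := Algebra.QuasiFinite.of_restrictScalars P _ _
  let p₂ : Ideal A₂ := yD.comap (algebraMap A₂ D)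
  haveI : yD.LiesOver p₂ := ⟨rfl⟩
  haveI : Algebra.FinitePresentation A₂ D := inferInstance
  haveI : Module.Flat A₂ D := inferInstance
  obtain ⟨A₃, C₃, _, _, _, _, _, _, _, _, hA₃, hC₃, hpr, z₃, hz₃, hz₃y⟩ :=
    localCover_piece (m := s) (A := A₂) (D := D) (IH s hsn) (fun K _ _ => hgi K) G yD p₂
  haveI := hA₃
  haveI := hC₃
  haveI := hpr
  -- compose
  letI : Algebra P' C₃ := ((algebraMap D C₃).comp (algebraMap P' D)).toAlgebra
  haveI : IsScalarTower P' D C₃ := IsScalarTower.of_algebraMap_eq fun _ => rfl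
  haveI : Algebra.Etale P' C₃ := Algebra.Etale.comp P' D C₃
  haveI := isScalarTower_tensor (A := P') (B := B₁) C₃
  let C := C₃ ⊗[P'] B₁
  haveI : Algebra.IsPushout P' C₃ B₁ C := inferInstance
  haveI : Algebra.Etale B₁ C := Algebra.Etale.of_equiv (Algebra.IsPushout.equiv P' B₁ C₃ C)
  letI : Algebra B C := ((algebraMap B₁ C).comp (algebraMap B B₁)).toAlgebra
  haveI : IsScalarTower B B₁ C := IsScalarTower.of_algebraMap_eq fun _ => rfl
  haveI : Algebra.Etale B C := Algebra.Etale.comp B B₁ C
  letI : Algebra A A₃ := ((algebraMap A₂ A₃).comp (algebraMap A A₂)).toAlgebra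
  haveI : IsScalarTower A A₂ A₃ := IsScalarTower.of_algebraMap_eq fun _ => rfl
  haveI : Algebra.Etale A A₃ := Algebra.Etale.comp A A₂ A₃
  letI : Algebra A C := ((algebraMap B C).comp (algebraMap A B)).toAlgebra
  haveI : IsScalarTower A B C := IsScalarTower.of_algebraMap_eq fun _ => rfl
  haveI : IsScalarTower A A₃ C := IsScalarTower.of_algebraMap_eq (R := A) (S := A₃) (A := C) fun a => by
    show algebraMap B₁ C (algebraMap B B₁ (algebraMap A B a)) =
      algebraMap C₃ C (algebraMap A₃ C₃ (algebraMap A₂ A₃ (algebraMap A A₂ a)))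
    rw [← IsScalarTower.algebraMap_apply A B B₁, IsScalarTower.algebraMap_apply A P' B₁,
      ← IsScalarTower.algebraMap_apply P' B₁ C, IsScalarTower.algebraMap_apply P' C₃ C,
      ← IsScalarTower.algebraMap_apply A₂ A₃ C₃, IsScalarTower.algebraMap_apply A₂ D C₃,
      ← IsScalarTower.algebraMap_apply A A₂ D, IsScalarTower.algebraMap_apply A P' D,
      ← IsScalarTower.algebraMap_apply P' D C₃]
  haveI : Module.Projective A₃ (C ⊗[B] N) := by
    let e1 : C ⊗[B₁] G1 ≃ₗ[C] C ⊗[B] N := AlgebraTensorModule.cancelBaseChange B B₁ C C N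
    let e2 : C ⊗[B₁] G1 ≃ₗ[C₃] C₃ ⊗[P'] G1 := Algebra.IsPushout.cancelBaseChange P' C₃ B₁ C G1
    let e3 : C₃ ⊗[D] G ≃ₗ[C₃] C₃ ⊗[P'] G1 := AlgebraTensorModule.cancelBaseChange P' D C₃ C₃ G1
    exact Module.Projective.of_equiv
      ((e3.restrictScalars A₃).trans ((e2.symm.restrictScalars A₃).trans (e1.restrictScalars A₃)))
  obtain ⟨z, hz, hzB, -⟩ := exists_prime_tensor (A := P') (B := B₁) C₃ z₁ z₃ (by
    rw [hz₁y, show algebraMap P' C₃ = (algebraMap D C₃).comp (algebraMap P' D) from rfl, ← Ideal.comap_comap,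
      hz₃y, hyDy])
  refine ⟨A₃, C, inferInstance, inferInstance, inferInstance, inferInstance, inferInstance, inferInstance,
    inferInstance, inferInstance, inferInstance, inferInstance, inferInstance, z, hz, ?_⟩
  rw [show algebraMap B C = (algebraMap B₁ C).comp (algebraMap B B₁) from rfl, ← Ideal.comap_comap, hzB, hz₁q]

/-- Projectivity spreads out in every fibre dimension. -/
theorem spreads (n : ℕ) : Spreads.{u} n := by
  induction n using Nat.strong_induction_on with
  | _ n ih =>
    intro A B _ _ _ _ N _ _ _ _ _ _ p _ hdim hproj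
    haveI := hproj
    exact spread_of_cover (A := A) (B := B) N p fun q _ _ => localCover_of_dim_lt ih N p hdim q

/-- A flat finitely presented module projective at a prime of the base is projective near it. -/
theorem spread_projective {A B : Type u} [CommRing A] [CommRing B] [Algebra A B] [Algebra.FinitePresentation A B]
    (N : Type u) [AddCommGroup N] [Module B N] [Module A N] [IsScalarTower A B N] [Module.FinitePresentation B N]
    [Module.Flat A N] (p : Ideal A) [p.IsPrime]
    [Module.Projective (Localization.AtPrime p) (Localization.AtPrime p ⊗[A] N)] :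
    ∃ f ∉ p, Module.Projective (Localization.Away f) (Localization.Away f ⊗[A] N) := by
  obtain ⟨k, f, hf⟩ := Algebra.FiniteType.iff_quotient_mvPolynomial''.mp (inferInstance : Algebra.FiniteType A B)
  refine spreads k.succ (A := A) (B := B) N p ?_ ‹_›
  let π := Algebra.TensorProduct.map (AlgHom.id p.ResidueField p.ResidueField) f
  have h1 : ringKrullDim (p.Fiber B) ≤ (k : WithBot ℕ∞) := by
    refine (ringKrullDim_le_of_surjective π.toRingHom
      (Algebra.TensorProduct.map_surjective _ _ Function.surjective_id hf)).trans ?_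
    exact ringKrullDim_fiber_le (m := k) p
  refine lt_of_le_of_lt ((ringKrullDim_quotient_le _).trans h1) ?_
  exact_mod_cast Nat.lt_succ_self k

end Groth.Agent.RGFlat.Spreading
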