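import Groth.Agent.RGFlat.Impurity
import Groth.Agent.Wt.RelAssRing
import Groth.Agent.Wt.CMSliceQF
import Groth.Agent.S1212
import Mathlib.RingTheory.Ideal.KrullsHeightTheorem

/-!
Slicing the parameter ring of an impurity over a Noetherian base.
-/

set_option autoImplicit false

universe u

open TensorProduct

attribute [local instance] Algebra.TensorProduct.rightAlgebra

namespace Groth.Agent.RGFlat.Impurity

section Krull

variable {D : Type u} [CommRing D] [IsNoetherianRing D]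

theorem not_lt_lt {u a b : Ideal D} [u.IsPrime] [a.IsPrime] {f : D}
    (hb : b ∈ (u ⊔ Ideal.span {f}).minimalPrimes) (hua : u < a) (hab : a < b) : False := by
  have := hb.isPrime
  let π := Ideal.Quotient.mk u
  have hc : ∀ I : Ideal D, u ≤ I → (I.map π).comap π = I := fun I hI => by
    rw [Ideal.comap_map_of_surjective π Ideal.Quotient.mk_surjective, ← RingHom.ker_eq_comap_bot, Ideal.mk_ker, sup_eq_left.mpr hI]
  have hlt : ∀ I K : Ideal D, u ≤ I → I < K → I.map π < K.map π := fun I K hI hIK =>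
    (Ideal.map_mono hIK.le).lt_of_not_ge fun e => hIK.not_ge (by
      simpa only [hc _ hI, hc _ (hI.trans hIK.le)] using Ideal.comap_mono (f := π) e)
  haveI : (u.map π).IsPrime := Ideal.map_isPrime_of_surjective Ideal.Quotient.mk_surjective (by rw [Ideal.mk_ker])
  haveI : (a.map π).IsPrime := Ideal.map_isPrime_of_surjective Ideal.Quotient.mk_surjective (by rw [Ideal.mk_ker]; exact hua.le)
  haveI : (b.map π).IsPrime := Ideal.map_isPrime_of_surjective Ideal.Quotient.mk_surjective (by rw [Ideal.mk_ker]; exact hua.le.trans hab.le)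
  have h1 : (b.map π).height ≤ 1 := Ideal.map_height_le_one_of_mem_minimalPrimes hb
  haveI : (b.map π).FiniteHeight := ⟨Or.inr (h1.trans_lt (WithTop.coe_lt_top 1)).ne⟩
  haveI : (a.map π).FiniteHeight := Ideal.finiteHeight_of_le (Ideal.map_mono hab.le) (Ideal.IsPrime.ne_top inferInstance)
  have h2 := Ideal.height_strict_mono_of_isPrime_of_isPrime (hlt a b hua.le hab)
  have h3 := Ideal.height_strict_mono_of_isPrime_of_isPrime (hlt u a le_rfl hua)
  have h4 : (a.map π).height < 1 := h2.trans_le h1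
  rw [Order.lt_one_iff] at h4
  rw [h4] at h3
  exact not_lt_zero h3

/-- A prime slice through `t` avoiding `h`, cutting the fibre over `J` down to the point `t`. -/
theorem exists_slice [IsDomain D] (J t : Ideal D) [t.IsPrime] {h : D} (hh : h ≠ 0) (hJ : J ≠ ⊥) (hJt : J ≤ t) :
    ∃ u : Ideal D, u.IsPrime ∧ u ≤ t ∧ h ∉ u ∧ ¬ J ≤ u ∧ t ∈ (u ⊔ J).minimalPrimes := by
  classical
  let S : Set (Ideal D) := {u | u.IsPrime ∧ u ≤ t ∧ h ∉ u ∧ ¬ J ≤ u}
  have hne : S.Nonempty := ⟨⊥, Ideal.isPrime_bot, bot_le, by simpa using hh, fun hle => hJ (le_bot_iff.mp hle)⟩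
  have hex : ∃ u : Ideal D, u ∈ S ∧ ∀ I ∈ S, ¬ u < I := set_has_maximal_iff_noetherian.mpr inferInstance S hne
  obtain ⟨u, ⟨huP, hut, hhu, hJu⟩, hmax⟩ := hex
  refine ⟨u, huP, hut, hhu, hJu, ?_⟩
  haveI := huP
  by_contra hnot
  obtain ⟨q, hq, hqt⟩ := Ideal.exists_minimalPrimes_le (sup_le hut hJt)
  haveI := hq.isPrime
  have hqt' : q < t := lt_of_le_of_ne hqt fun e => hnot (e ▸ hq)
  have huq : u < q := lt_of_le_of_ne (le_sup_left.trans hq.le) fun e => hJu (e ▸ le_sup_right.trans hq.le)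
  let T : Set (Ideal D) := {Q | Q ∈ (u ⊔ Ideal.span {h}).minimalPrimes ∪ (u ⊔ J).minimalPrimes ∧ Q ≤ t}
  have hT : T.Finite := Set.Finite.subset
    ((Ideal.finite_minimalPrimes_of_isNoetherianRing D _).union (Ideal.finite_minimalPrimes_of_isNoetherianRing D _))
    fun Q hQ => hQ.1
  have hTprime : ∀ Q ∈ T, Q.IsPrime := fun Q hQ => hQ.1.elim (·.isPrime) (·.isPrime)
  have hTne : ∀ Q ∈ T, Q ≠ t := by
    rintro Q ⟨hQ | hQ, -⟩ rfl
    · exact not_lt_lt hQ huq hqt'
    · exact hnot hQ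
  obtain ⟨f, hft, hfT⟩ : ∃ f ∈ t, ∀ Q ∈ T, f ∉ Q := by
    by_contra hc
    push Not at hc
    have hsub : (t : Set D) ⊆ ⋃ Q ∈ T, (Q : Set D) := fun a ha => by
      obtain ⟨Q, hQ, haQ⟩ := hc a ha
      exact Set.mem_biUnion hQ haQ
    obtain ⟨Q, hQ, hle⟩ :=
      (Ideal.subset_union_prime_finite hT (f := fun Q => Q) ⊥ ⊥ fun Q hQ _ _ => hTprime Q hQ).mp hsub
    exact hTne Q hQ (le_antisymm hQ.2 hle)
  have hfu : f ∉ u := fun hf => hfT q ⟨Or.inr hq, hqt⟩ (huq.le hf)
  obtain ⟨u₂, hu₂, hu₂t⟩ := Ideal.exists_minimalPrimes_le (J := t) (I := u ⊔ Ideal.span {f})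
    (sup_le hut ((Ideal.span_singleton_le_iff_mem _).mpr hft))
  haveI := hu₂.isPrime
  have huu₂ : u < u₂ := lt_of_le_of_ne (le_sup_left.trans hu₂.le) fun e =>
    hfu (e ▸ hu₂.le (Ideal.mem_sup_right (Ideal.mem_span_singleton_self f)))
  have hbad : ∀ I : Ideal D, u ⊔ I ≤ u₂ → ¬ I ≤ u →
      (∀ Q ∈ (u ⊔ I).minimalPrimes, Q ≤ t → Q ∈ T) → False := by
    intro I hI hIu hIT
    obtain ⟨Q, hQ, hQu₂⟩ := Ideal.exists_minimalPrimes_le hI
    haveI := hQ.isPrime
    have h1 : Q < u₂ := lt_of_le_of_ne hQu₂ fun e =>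
      hfT Q (hIT Q hQ (hQu₂.trans hu₂t)) (e ▸ hu₂.le (Ideal.mem_sup_right (Ideal.mem_span_singleton_self f)))
    have h2 : u < Q := lt_of_le_of_ne (le_sup_left.trans hQ.le) fun e => hIu (e ▸ le_sup_right.trans hQ.le)
    exact not_lt_lt hu₂ h2 h1
  refine hmax u₂ ⟨inferInstance, hu₂t, fun hh2 => ?_, fun hJ2 => ?_⟩ huu₂
  · exact hbad (Ideal.span {h}) (sup_le huu₂.le ((Ideal.span_singleton_le_iff_mem _).mpr hh2))
      (fun hle => hhu ((Ideal.span_singleton_le_iff_mem _).mp hle)) fun Q hQ hQt => ⟨Or.inl hQ, hQt⟩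
  · exact hbad J (sup_le huu₂.le hJ2) hJu fun Q hQ hQt => ⟨Or.inr hQ, hQt⟩

end Krull

section Fibre

variable {R S : Type u} [CommRing R] [CommRing S] [Algebra R S] [Algebra.FiniteType R S]
  {M : Type u} [AddCommGroup M] [Module S M] [Module R M] [IsScalarTower R S M] [Module.Finite S M]

/-- A minimal prime over the colon of an element modulo `pM` gives an associated point of the fibre. -/
theorem fiberIdeal_mem_ass (p : Ideal R) [p.IsPrime] (q : Ideal S) [q.IsPrime] [q.LiesOver p] (m : M)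
    (hq : q ∈ ((Wt.RelAssRing.pM S M p).colon {m}).minimalPrimes) :
    FlatCA.fiberIdeal p q ∈ associatedPrimes (p.Fiber S) (FlatCA.fiberMod p S M) := by
  classical
  haveI := Groth.Agent.RGFlat.isNoetherianRing_fiber (S := S) p
  let T := p.Fiber S
  let inc : S →+* T := (Algebra.TensorProduct.includeRight (R := R) (A := p.ResidueField) (B := S)).toRingHom
  let y := FlatCA.toFiberMod p S M m
  let J : Ideal T := (Submodule.span T {y}).annihilator
  have hJ : ∀ b : S, inc b ∈ J ↔ FlatCA.toFiberMod p S M (b • m) = 0 := fun b => by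
    rw [Groth.Agent.WeakAss.mem_ann, show inc b • y = b • y from CAlgA.FibreMod.includeRight_smul M p b y, map_smul]
  have hle : J.comap inc ≤ q := fun b hb => by
    obtain ⟨r, hr, hrm⟩ := CAlgA.FibreMod.exists_smul_mem M p ((hJ b).mp hb)
    have : algebraMap R S r * b ∈ (Wt.RelAssRing.pM S M p).colon {m} := by
      rw [Submodule.mem_colon_singleton, mul_smul]; exact hrm
    exact (Ideal.IsPrime.mem_or_mem inferInstance (hq.le this)).resolve_left fun h => hr ((q.over_def p).ge h)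
  have hcol : (Wt.RelAssRing.pM S M p).colon {m} ≤ J.comap inc := fun b hb => by
    rw [Ideal.mem_comap, hJ]
    exact CAlgA.FibreMod.toFiberMod_eq_zero_of_mem M p (Submodule.mem_colon_singleton.mp hb)
  obtain ⟨Q, hQ, hQc⟩ := Ideal.exists_minimalPrimes_comap_eq inc (I := J) q
    ⟨⟨inferInstance, hle⟩, fun r hr hrq => hq.2 ⟨hr.1, hcol.trans hr.2⟩ hrq⟩
  haveI : Q.IsPrime := hQ.1.1
  have heq : FlatCA.fiberIdeal p q = Q := by
    refine le_antisymm (Ideal.map_le_iff_le_comap.mpr hQc.ge) fun b hb => ?_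
    obtain ⟨c, hc, z, hcz⟩ := Ideal.Fiber.exists_smul_eq_one_tmul p b
    have hz : z ∈ q := by
      rw [← hQc, Ideal.mem_comap]
      show (1 : p.ResidueField) ⊗ₜ[R] z ∈ Q
      rw [← hcz]
      have := Q.mul_mem_left (algebraMap R T c) hb
      rwa [← Algebra.smul_def] at this
    have h1 : (1 : p.ResidueField) ⊗ₜ[R] z ∈ FlatCA.fiberIdeal p q := Ideal.mem_map_of_mem _ hz
    rw [← hcz] at h1
    replace h1 : algebraMap R T c * b ∈ FlatCA.fiberIdeal p q := by rwa [← Algebra.smul_def]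
    rw [IsScalarTower.algebraMap_apply R p.ResidueField T] at h1
    refine (Ideal.unit_mul_mem_iff_mem _ (IsUnit.map _ ?_)).mp h1
    rw [isUnit_iff_ne_zero, Ne, Ideal.algebraMap_residueField_eq_zero]
    exact hc
  haveI := Groth.Agent.RGFlat.finite_fiberMod (S := S) (N := M) p
  obtain ⟨-, z, hz⟩ := Groth.Agent.WeakAss.mem_ass_of_fg (IsNoetherian.noetherian Q)
    (show Q ∈ FlatCA.weakAss T (FlatCA.fiberMod p S M) from ⟨y, hQ⟩)
  rw [heq]
  refine isAssociatedPrime_iff.mpr ⟨inferInstance, z, hz.trans ?_⟩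
  ext b
  rw [Groth.Agent.WeakAss.mem_ann, Submodule.mem_colon_singleton, Submodule.mem_bot]

/-- An associated point of the fibre is the annihilator of an element in the fibre. -/
theorem exists_elem (p : Ideal R) [p.IsPrime] (q : Ideal S) [q.IsPrime] [q.LiesOver p]
    (h : FlatCA.fiberIdeal p q ∈ associatedPrimes (p.Fiber S) (FlatCA.fiberMod p S M)) :
    ∃ n : M, ∀ b : S, b ∈ q ↔ FlatCA.toFiberMod p S M (b • n) = 0 := by
  haveI := Groth.Agent.RGFlat.isNoetherianRing_fiber (S := S) p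
  obtain ⟨x, hx⟩ := (isAssociatedPrime_iff.mp h).2
  obtain ⟨r, hr, n, hrn⟩ := CAlgA.FibreMod.exists_smul_eq M p x
  refine ⟨n, fun b => ?_⟩
  rw [map_smul, ← hrn, smul_comm, ← CAlgA.FibreMod.includeRight_smul M p b]
  conv_lhs => rw [← FlatMisc.Fiber.comap_fiberIdeal p q, Ideal.mem_comap]
  refine ⟨fun hb => ?_, fun hb => ?_⟩
  · rw [hx, Submodule.mem_colon_singleton, Submodule.mem_bot] at hb
    exact (congrArg (algebraMap R S r • ·) hb).trans (smul_zero _)
  · rw [hx, Submodule.mem_colon_singleton, Submodule.mem_bot]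
    exact CAlgA.FibreMod.eq_zero_of_smul_eq_zero M p hr hb

/-- An associated point over the generic point of a domain spreads to nearby fibres. -/
theorem exists_spread [IsDomain R] (q : Ideal S) [q.IsPrime] [q.LiesOver (⊥ : Ideal R)]
    (h : FlatCA.fiberIdeal (⊥ : Ideal R) q ∈ associatedPrimes ((⊥ : Ideal R).Fiber S) (FlatCA.fiberMod (⊥ : Ideal R) S M)) :
    ∃ f : R, f ≠ 0 ∧ ∀ (p : Ideal R) [p.IsPrime], f ∉ p → ∃ (q' : Ideal S) (_ : q'.IsPrime), q ≤ q' ∧
      q'.LiesOver p ∧ FlatCA.fiberIdeal p q' ∈ associatedPrimes (p.Fiber S) (FlatCA.fiberMod p S M) := by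
  obtain ⟨n, hn⟩ := exists_elem (⊥ : Ideal R) q h
  have hqmin : q ∈ ((⊥ : Submodule S M).colon {n}).minimalPrimes := by
    refine ⟨⟨inferInstance, fun b hb => (hn b).mpr ?_⟩, fun J hJ hJq b hb => ?_⟩
    · rw [Submodule.mem_colon_singleton, Submodule.mem_bot] at hb
      rw [hb, map_zero]
    · obtain ⟨r, hr, hrb⟩ := CAlgA.FibreMod.exists_smul_mem M (⊥ : Ideal R) ((hn b).mp hb)
      rw [CAlgA.FibreMod.pN, Ideal.map_bot, Submodule.bot_smul, Submodule.mem_bot] at hrb
      have : algebraMap R S r * b ∈ J := hJ.2 (by rw [Submodule.mem_colon_singleton, Submodule.mem_bot, mul_smul]; exact hrb)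
      exact (hJ.1.mem_or_mem this).resolve_left fun h0 => hr ((q.over_def (⊥ : Ideal R)).ge (hJq h0))
  obtain ⟨f, hf, hspread⟩ := Wt.RelAssRing.exists_fibre_prime_domain (R := R) (A := S) (M := M) q
    (q.over_def (⊥ : Ideal R)).symm n hqmin
  refine ⟨f, hf, fun p _ hfp => ?_⟩
  obtain ⟨q', hq', hle, hq'p, m', hm'⟩ := hspread p inferInstance hfp
  haveI := hq'
  haveI : q'.LiesOver p := ⟨hq'p.symm⟩
  exact ⟨q', hq', hle, inferInstance, fiberIdeal_mem_ass p q' m' hm'⟩

end Fibre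

end Groth.Agent.RGFlat.Impurity
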