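import Groth.Agent.RGFlat.WeakAssTensor
import Groth.Agent.RGFlat.Generic

/-!
Over a ring with finitely many weakly associated primes kernels of presentations are generically finitely generated.
-/

set_option autoImplicit false

universe u

open TensorProduct

namespace Groth.Agent.RGFlat

variable {R S : Type u} [CommRing R] [CommRing S] [Algebra R S] [Algebra.FiniteType R S]

/-- Primes of the relative assassin of `N` over finitely many primes of the base are finitely many. -/
theorem finite_relAss {N : Type u} [AddCommGroup N] [Module S N] [Module R N] [IsScalarTower R S N]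
    [Module.Finite S N] {V : Set (Ideal R)} (hV : V.Finite) :
    {Q : Ideal S | ∃ (p : Ideal R) (_ : p.IsPrime), p ∈ V ∧ Q.IsPrime ∧ Q.LiesOver p ∧
      FlatCA.fiberIdeal p Q ∈ associatedPrimes (p.Fiber S) (FlatCA.fiberMod p S N)}.Finite := by
  refine (hV.biUnion (t := fun p => {Q : Ideal S | ∃ _ : p.IsPrime, Q.IsPrime ∧ Q.LiesOver p ∧
      FlatCA.fiberIdeal p Q ∈ associatedPrimes (p.Fiber S) (FlatCA.fiberMod p S N)}) fun p _ => ?_).subset ?_
  · by_cases hp : p.IsPrime
    · haveI := isNoetherianRing_fiber (S := S) p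
      haveI := finite_fiberMod (S := S) (N := N) p
      refine Set.Finite.subset ((associatedPrimes.finite (p.Fiber S) (FlatCA.fiberMod p S N)).image
        (Ideal.comap (Algebra.TensorProduct.includeRight (R := R) (A := p.ResidueField) (B := S)).toRingHom)) ?_
      rintro Q ⟨_, hQ, hQp, h⟩
      haveI := hQ
      haveI := hQp
      exact ⟨_, h, FlatMisc.Fiber.comap_fiberIdeal p Q⟩
    · exact Set.Finite.subset Set.finite_empty fun Q ⟨h, _⟩ => hp h
  · rintro Q ⟨p, hp, hpV, hQ⟩
    exact Set.mem_biUnion hpV ⟨hp, hQ⟩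

theorem genericFG_of_weakAss_finite (hR : (FlatCA.weakAss R R).Finite) {M : Type u} [AddCommGroup M]
    [Module S M] : GenericFG R S M := by
  intro r K π _ _
  classical
  let M₀ := (Fin r → S) ⧸ K
  let W := {Q : Ideal S | ∃ (p : Ideal R) (_ : p.IsPrime), p ∈ FlatCA.weakAss R R ∧ Q.IsPrime ∧ Q.LiesOver p ∧
      FlatCA.fiberIdeal p Q ∈ associatedPrimes (p.Fiber S) (FlatCA.fiberMod p S M₀)}
  have hW : W.Finite := finite_relAss hR
  let P : Ideal S → M₀ → Prop := fun Q t => π t = 0 ∧ ∀ s : S, s • t = 0 → s ∈ Q
  let t₀ : Ideal S → M₀ := fun Q => if h : ∃ t, P Q t then h.choose else 0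
  refine ⟨hW.toFinset.image t₀, fun t ht => ?_, fun g hg x hx Q _ hgQ hflat => ?_⟩
  · obtain ⟨Q, -, rfl⟩ := Finset.mem_image.mp ht
    by_cases h : ∃ t, P Q t
    · rw [show t₀ Q = h.choose from dif_pos h]
      exact h.choose_spec.1
    · rw [show t₀ Q = 0 from dif_neg h, map_zero]
  · let L := LocalizedModule Q.primeCompl M₀
    suffices h0 : LocalizedModule.mkLinearMap Q.primeCompl M₀ x = (0 : L) by
      obtain ⟨s, hs⟩ := (IsLocalizedModule.eq_zero_iff Q.primeCompl _).mp h0
      exact ⟨s, s.2, hs⟩
    refine WeakAss.eq_zero_of_forall_mk_eq_zero (R := S) (M := L) fun Q' hQ' hmem => ?_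
    have hd := WeakAss.disjoint_of_mem (R' := Localization.AtPrime Q) Q.primeCompl hmem
    have hle : Q' ≤ Q := fun a ha => by
      by_contra h
      exact Set.disjoint_left.mp hd h ha
    rw [WeakAss.mem_weakAss_localizedModule_iff Q.primeCompl hd] at hmem
    have hflat' : FlatCA.FlatAt R Q' M₀ := FlatOpen.flatAt_of_le hle hflat
    let p := Q'.comap (algebraMap R S)
    haveI : p.IsPrime := Ideal.comap_isPrime _ _
    haveI : Q'.LiesOver p := ⟨rfl⟩
    obtain ⟨hp, hfib⟩ := (mem_weakAss_tensor_iff (M := R) p Q' hflat').mp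
      (WeakAss.weakAss_mono (f := (AlgebraTensorModule.rid R S M₀).symm.toLinearMap)
        (AlgebraTensorModule.rid R S M₀).symm.injective hmem)
    have hQW : Q' ∈ W := ⟨p, inferInstance, hp, hQ', inferInstance, hfib⟩
    obtain ⟨s, hs, hsx⟩ : ∃ s ∉ Q', s • x = 0 := by
      by_contra hc
      push Not at hc
      have h : ∃ t, P Q' t := ⟨x, hx, fun s hs => by_contra fun h => hc s h hs⟩
      have hgt : g • t₀ Q' = 0 := hg _ (Finset.mem_image_of_mem _ (hW.mem_toFinset.mpr hQW))
      rw [show t₀ Q' = h.choose from dif_pos h] at hgt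
      exact hgQ (hle (h.choose_spec.2 g hgt))
    rw [LocalizedModule.mkLinearMap_apply, WeakAss.mk_eq_zero]
    exact ⟨⟨s, hs⟩, by show s • LocalizedModule.mkLinearMap Q.primeCompl M₀ x = 0; rw [← map_smul, hsx, map_zero]⟩

/-- Restricting a localized module along a surjection of algebras. -/
theorem isLocalizedModule_away_restrict {P : Type u} [CommRing P] [Algebra P S] {M : Type u} [AddCommGroup M]
    [Module S M] [Module P M] [IsScalarTower P S M] (g : P) :
    IsLocalizedModule (Submonoid.powers g)
      ((LocalizedModule.mkLinearMap (Submonoid.powers (algebraMap P S g)) M).restrictScalars P) :=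
  FlatOpen.isLocalizedModule_restrict (Submonoid.powers g) _ (Submonoid.map_powers _ g).symm _

end Groth.Agent.RGFlat

namespace Groth.Agent.RGFlat

variable {R S : Type u} [CommRing R] [CommRing S] [Algebra R S] [Algebra.FiniteType R S]

/-- Near a point of flatness a finite module over a finite type algebra is finitely presented
relative to the base, over a basic open of a polynomial ring. -/
theorem exists_away_relative (hR : (FlatCA.weakAss R R).Finite) {N : Type u} [AddCommGroup N] [Module S N]
    [Module R N] [IsScalarTower R S N] [Module.Finite S N] (q : Ideal S) [q.IsPrime] (hq : FlatCA.FlatAt R q N) :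
    ∃ g : S, g ∉ q ∧ (∀ (Q : Ideal S) [Q.IsPrime], g ∉ Q → FlatCA.FlatAt R Q N) ∧
      Module.Flat R (LocalizedModule (Submonoid.powers g) N) ∧
      ∀ (S' : Type u) [CommRing S'] [Algebra S S'] [IsLocalization.Away g S'] [Algebra R S'] [IsScalarTower R S S']
        (N' : Type u) [AddCommGroup N'] [Module S' N'] [Module S N'] [IsScalarTower S S' N'] (f : N →ₗ[S] N')
        [IsLocalizedModule (Submonoid.powers g) f], FlatCA.RelFinitePresentation R S' N' := by
  obtain ⟨n, π, hπ⟩ := Algebra.FiniteType.iff_quotient_mvPolynomial''.mp (inferInstance : Algebra.FiniteType R S)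
  let P := MvPolynomial (Fin n) R
  letI : Algebra P S := π.toRingHom.toAlgebra
  haveI : IsScalarTower R P S := IsScalarTower.of_algebraMap_eq fun a => (π.commutes a).symm
  haveI : Module.Finite P S := Module.Finite.of_surjective (Algebra.linearMap P S) hπ
  letI : Module P N := Module.compHom N π.toRingHom
  haveI : IsScalarTower P S N := IsScalarTower.of_algebraMap_smul fun _ _ => rfl
  haveI : IsScalarTower R P N := IsScalarTower.of_algebraMap_smul fun a m => by
    show π (algebraMap R P a) • m = a • m
    rw [π.commutes, algebraMap_smul]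
  haveI : Module.Finite P N := Module.Finite.trans S N
  haveI : (q.comap (algebraMap P S)).IsPrime := Ideal.comap_isPrime _ _
  obtain ⟨γ, hγ, hfp, hflat⟩ := exists_away (R := R) (S := P) (genericFG_of_weakAss_finite hR)
    (q.comap (algebraMap P S)) ((flatAt_comap_iff hπ q).mpr hq)
  have hall : ∀ (Q : Ideal S) [Q.IsPrime], algebraMap P S γ ∉ Q → FlatCA.FlatAt R Q N := fun Q _ hQ => by
    haveI : (Q.comap (algebraMap P S)).IsPrime := Ideal.comap_isPrime _ _
    exact (flatAt_comap_iff hπ Q).mp (hflat (Q.comap (algebraMap P S)) hQ)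
  refine ⟨algebraMap P S γ, hγ, hall, flat_away _ hall, ?_⟩
  intro S' _ _ _ _ _ N' _ _ _ _ f _
  letI : Algebra P S' := ((algebraMap S S').comp (algebraMap P S)).toAlgebra
  haveI : IsScalarTower P S S' := IsScalarTower.of_algebraMap_eq' rfl
  haveI : IsScalarTower R P S' := IsScalarTower.of_algebraMap_eq fun a => by
    rw [IsScalarTower.algebraMap_apply P S S', ← IsScalarTower.algebraMap_apply R P S, ← IsScalarTower.algebraMap_apply]
  let Pγ := Localization.Away γ
  let φ : Pγ →ₐ[R] S' := IsLocalization.liftAlgHom (M := Submonoid.powers γ) (f := IsScalarTower.toAlgHom R P S') (by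
    rintro ⟨_, k, rfl⟩
    rw [IsScalarTower.coe_toAlgHom', map_pow, IsScalarTower.algebraMap_apply P S S']
    exact (IsLocalization.Away.algebraMap_isUnit (algebraMap P S γ)).pow k)
  have hφ : ∀ p : P, φ (algebraMap P Pγ p) = algebraMap P S' p := fun p => IsLocalization.lift_eq _ p
  have hφsurj : Function.Surjective φ := fun z => by
    obtain ⟨⟨s, _, k, rfl⟩, hs⟩ := IsLocalization.surj (Submonoid.powers (algebraMap P S γ)) z
    obtain ⟨s, rfl⟩ := hπ s
    refine ⟨IsLocalization.mk' Pγ s (⟨γ ^ k, k, rfl⟩ : Submonoid.powers γ), ?_⟩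
    have hu : IsUnit (algebraMap S S' (algebraMap P S γ ^ k)) := by
      rw [map_pow]; exact (IsLocalization.Away.algebraMap_isUnit _).pow k
    refine hu.mul_right_cancel (Eq.trans ?_ hs.symm)
    rw [← map_pow, ← IsScalarTower.algebraMap_apply, ← hφ, ← map_mul, IsLocalization.mk'_spec, hφ,
      IsScalarTower.algebraMap_apply P S S']
    rfl
  letI : Module Pγ N' := Module.compHom N' φ.toRingHom
  letI : Module P N' := Module.compHom N' (algebraMap P S)
  haveI : IsScalarTower P S N' := IsScalarTower.of_algebraMap_smul fun _ _ => rfl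
  haveI : IsScalarTower P Pγ N' := IsScalarTower.of_algebraMap_smul fun p y => by
    show φ (algebraMap P Pγ p) • y = algebraMap P S p • y
    rw [hφ, IsScalarTower.algebraMap_apply P S S', IsScalarTower.algebraMap_smul]
  haveI : IsLocalizedModule (Submonoid.powers γ) (f.restrictScalars P) :=
    FlatOpen.isLocalizedModule_restrict (Submonoid.powers γ) _ (Submonoid.map_powers _ γ).symm f
  haveI : Module.FinitePresentation Pγ N' := Module.FinitePresentation.of_equiv
    (LinearEquiv.extendScalarsOfIsLocalization (Submonoid.powers γ) Pγ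
      (IsLocalizedModule.iso (Submonoid.powers γ) (f.restrictScalars P)))
  haveI : Algebra.FinitePresentation P Pγ := IsLocalization.Away.finitePresentation γ
  haveI : Algebra.FinitePresentation R Pγ := Algebra.FinitePresentation.trans R P Pγ
  obtain ⟨m, ψ, hψ, hker⟩ := (inferInstance : Algebra.FinitePresentation R Pγ).out
  refine ⟨m, φ.comp ψ, hφsurj.comp hψ, ?_⟩
  let P' := MvPolynomial (Fin m) R
  letI : Algebra P' Pγ := ψ.toRingHom.toAlgebra
  haveI : Module.FinitePresentation P' Pγ :=
    Module.finitePresentation_of_surjective (Algebra.linearMap P' Pγ) hψ hker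
  letI : Module P' N' := Module.compHom N' (φ.comp ψ).toRingHom
  haveI : IsScalarTower P' Pγ N' := IsScalarTower.of_algebraMap_smul fun _ _ => rfl
  exact Module.FinitePresentation.trans P' N' Pγ

end Groth.Agent.RGFlat
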