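import Groth.Agent.RGFlat.Impurity
import Mathlib.RingTheory.QuasiFinite.Basic
import Mathlib.RingTheory.Etale.QuasiFinite

/-!
Associated points of fibres along flat quasi-finite extensions, and rational points of pushouts.
-/

set_option autoImplicit false

universe u

open TensorProduct

attribute [local instance] Algebra.TensorProduct.rightAlgebra

namespace Groth.Agent.RGFlat

/-- An associated point of a fibre lifts to every point above it in a flat quasi-finite extension. -/
theorem assoc_of_flat_quasiFinite {A C C' : Type u} [CommRing A] [CommRing C] [CommRing C'] [Algebra A C]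
    [Algebra A C'] [Algebra C C'] [IsScalarTower A C C'] [Algebra.FiniteType A C] [Algebra.FiniteType A C']
    [Module.Flat C C'] [Algebra.QuasiFinite C C']
    {N : Type u} [AddCommGroup N] [Module C N] [Module A N] [IsScalarTower A C N] [Module.Finite C N]
    {N' : Type u} [AddCommGroup N'] [Module C' N'] [Module C N'] [IsScalarTower C C' N'] [Module A N']
    [IsScalarTower A C' N'] (f : N →ₗ[C] N') (hf : IsBaseChange C' f)
    (t : Ideal A) [t.IsPrime] (P' : Ideal C') [P'.IsPrime] [P'.LiesOver t]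
    (hass : FlatCA.fiberIdeal t (P'.comap (algebraMap C C')) ∈
      associatedPrimes (t.Fiber C) (FlatCA.fiberMod t C N)) :
    FlatCA.fiberIdeal t P' ∈ associatedPrimes (t.Fiber C') (FlatCA.fiberMod t C' N') := by
  classical
  let P := P'.comap (algebraMap C C')
  haveI : P.IsPrime := Ideal.comap_isPrime _ _
  haveI : P.LiesOver t := ⟨by
    rw [P'.over_def t, Ideal.under_def, Ideal.under_def, Ideal.comap_comap, ← IsScalarTower.algebraMap_eq]⟩
  haveI := isNoetherianRing_fiber (S := C) t
  haveI := isNoetherianRing_fiber (S := C') t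
  haveI : Module.Finite C' N' := Module.Finite.equiv hf.equiv
  haveI := finite_fiberMod (S := C') (N := N') t
  let F := FlatCA.fiberMod t C N
  let π := FlatCA.toFiberMod t C N
  obtain ⟨n, hn⟩ : ∃ n : N, ∀ b : C, b • π n = 0 ↔ b ∈ P := by
    obtain ⟨x, hx⟩ := (isAssociatedPrime_iff.mp hass).2
    obtain ⟨r, hr, n, hrn⟩ := CAlgA.FibreMod.exists_smul_eq N t x
    refine ⟨n, fun b => ?_⟩
    rw [← hrn, smul_comm, ← CAlgA.FibreMod.includeRight_smul N t b]
    conv_rhs => rw [← FlatMisc.Fiber.comap_fiberIdeal t P, Ideal.mem_comap]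
    constructor
    · intro h
      rw [hx, Submodule.mem_colon_singleton, Submodule.mem_bot]
      exact CAlgA.FibreMod.eq_zero_of_smul_eq_zero N t hr h
    · intro h
      rw [hx, Submodule.mem_colon_singleton, Submodule.mem_bot] at h
      exact (congrArg (algebraMap A C r • ·) h).trans (smul_zero _)
  let y := FlatCA.toFiberMod t C' N' (f n)
  let inc : C' →+* t.Fiber C' :=
    (Algebra.TensorProduct.includeRight (R := A) (A := t.ResidueField) (B := C')).toRingHom
  let J : Ideal (t.Fiber C') := (Submodule.span (t.Fiber C') {y}).annihilator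
  have hinc : ∀ b : C', inc b ∈ J ↔ FlatCA.toFiberMod t C' N' (b • f n) = 0 := fun b => by
    rw [WeakAss.mem_ann, show inc b • y = b • y from CAlgA.FibreMod.includeRight_smul N' t b y, ← map_smul]
  have hPJ : ∀ c ∈ P, inc (algebraMap C C' c) ∈ J := by
    intro c hc
    obtain ⟨r, hr, hrm⟩ := CAlgA.FibreMod.exists_smul_mem N t
      (show FlatCA.toFiberMod t C N (c • n) = 0 by rw [map_smul]; exact (hn c).mpr hc)
    rw [hinc, IsScalarTower.algebraMap_smul, ← map_smul f]
    refine CAlgA.FibreMod.eq_zero_of_smul_eq_zero N' t hr ?_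
    rw [← map_smul]
    refine CAlgA.FibreMod.toFiberMod_eq_zero_of_mem N' t ?_
    rw [IsScalarTower.algebraMap_apply A C C', IsScalarTower.algebraMap_smul, ← map_smul f]
    generalize algebraMap A C r • (c • n) = m at hrm ⊢
    refine Submodule.smul_induction_on hrm (fun a ha m _ => ?_) fun u v hu hv => ?_
    · rw [map_smul, ← IsScalarTower.algebraMap_smul C' a (f m)]
      refine Submodule.smul_mem_smul ?_ Submodule.mem_top
      have h10 := Ideal.mem_map_of_mem (algebraMap C C') ha
      rwa [Ideal.map_map, ← IsScalarTower.algebraMap_eq] at h10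
    · rw [map_add]; exact add_mem hu hv
  -- the annihilator stays below the point
  let Θ : N' →ₗ[C'] C' ⊗[C] F := (π.baseChange C').comp hf.equiv.symm.toLinearMap
  have hΘf : ∀ m, Θ (f m) = (1 : C') ⊗ₜ[C] π m := fun m => by
    simp [Θ, IsBaseChange.equiv_symm_apply]
  have hπA : ∀ a ∈ t, ∀ m : N, π (algebraMap A C a • m) = 0 := fun a ha m =>
    CAlgA.FibreMod.toFiberMod_eq_zero_of_mem N t
      (Submodule.smul_mem_smul (Ideal.mem_map_of_mem _ ha) Submodule.mem_top)
  have hsm : ∀ a ∈ t, ∀ w : C' ⊗[C] N, algebraMap A C' a • π.baseChange C' w = 0 := by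
    intro a ha w
    induction w with
    | zero => simp
    | tmul l m =>
      rw [LinearMap.baseChange_tmul, IsScalarTower.algebraMap_apply A C C', IsScalarTower.algebraMap_smul,
        ← TensorProduct.tmul_smul, ← map_smul, hπA a ha, TensorProduct.tmul_zero]
    | add u w hu hw => rw [map_add, smul_add, hu, hw, add_zero]
  have hΘzero : ∀ v ∈ CAlgA.FibreMod.pN (S := C') N' t, Θ v = 0 := by
    intro v hv
    refine Submodule.smul_induction_on hv (fun a ha m _ => ?_) fun u w hu hw => by rw [map_add, hu, hw, add_zero]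
    induction ha using Submodule.span_induction with
    | mem a ha =>
      obtain ⟨a, ha', rfl⟩ := ha
      rw [map_smul]
      simp only [Θ, LinearMap.comp_apply, LinearEquiv.coe_coe]
      exact hsm a ha' _
    | zero => rw [zero_smul, map_zero]
    | add a b _ _ ha hb => rw [add_smul, map_add, ha, hb, add_zero]
    | smul c a _ ha => rw [smul_eq_mul, mul_smul, map_smul, ha, smul_zero]
  have hJ : J.comap inc ≤ P' := by
    intro b hb
    obtain ⟨r, hr, hrm⟩ := CAlgA.FibreMod.exists_smul_mem N' t ((hinc b).mp hb)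
    have h0 : (algebraMap A C' r * b) ⊗ₜ[C] π n = 0 := by
      have h1 := hΘzero _ hrm
      rw [map_smul, map_smul, hΘf, TensorProduct.smul_tmul', TensorProduct.smul_tmul', smul_eq_mul, smul_eq_mul,
        mul_one] at h1
      exact h1
    let ι : C ⧸ P →ₗ[C] F := P.liftQ (LinearMap.toSpanSingleton C F (π n)) fun c hc => (hn c).mpr hc
    have hι : Function.Injective ι := LinearMap.ker_eq_bot.mp
      (Submodule.ker_liftQ_eq_bot _ _ _ fun c hc => (hn c).mp (LinearMap.mem_ker.mp hc))
    have h2 : (algebraMap A C' r * b) ⊗ₜ[C] (Submodule.Quotient.mk 1 : C ⧸ P) = 0 := by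
      refine Module.Flat.lTensor_preserves_injective_linearMap (M := C') ι hι ?_
      rw [map_zero, LinearMap.lTensor_tmul]
      rw [show ι (Submodule.Quotient.mk 1) = π n from (show (LinearMap.toSpanSingleton C F (π n)) 1 = π n by simp)]
      exact h0
    let g : C ⧸ P →ₗ[C] C' ⧸ P' :=
      P.liftQ ((Ideal.Quotient.mkₐ C P').toLinearMap.comp (Algebra.linearMap C C')) fun c hc =>
        Ideal.Quotient.eq_zero_iff_mem.mpr hc
    have h3 := congrArg (TensorProduct.lift ((LinearMap.mul C (C' ⧸ P')).compl₁₂ (Ideal.Quotient.mkₐ C P').toLinearMap g)) h2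
    simp [g] at h3
    rw [IsScalarTower.algebraMap_apply A C' (C' ⧸ P'), Ideal.Quotient.algebraMap_eq] at h3
    rcases h3 with (h3 | h3) | h3
    · exact absurd ((P'.over_def t).ge (Ideal.mem_comap.mpr (Ideal.Quotient.eq_zero_iff_mem.mp h3))) hr
    · exact Ideal.Quotient.eq_zero_iff_mem.mp h3
    · refine absurd ((Ideal.eq_top_iff_one P').mpr (Ideal.Quotient.eq_zero_iff_mem.mp ?_)) Ideal.IsPrime.ne_top'
      rw [← h3]
      exact (show Ideal.Quotient.mk P' (1 : C') = Ideal.Quotient.mk P' (algebraMap C C' 1) by simp)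
  let P'F := FlatCA.fiberIdeal t P'
  haveI : P'F.IsPrime := fiberIdeal_isPrime t P'
  have hJle : J ≤ P'F := by
    intro z hz
    obtain ⟨r, hr, b, hrb⟩ := Ideal.Fiber.exists_smul_eq_one_tmul t z
    have hb : inc b ∈ J := by
      show (1 : t.ResidueField) ⊗ₜ[A] b ∈ J
      rw [← hrb, Algebra.smul_def]
      exact J.mul_mem_left _ hz
    have h1 : inc b ∈ P'F := Ideal.mem_map_of_mem inc (hJ hb)
    replace h1 : algebraMap A (t.Fiber C') r * z ∈ P'F := by
      rw [← Algebra.smul_def, hrb]; exact h1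
    rw [IsScalarTower.algebraMap_apply A t.ResidueField (t.Fiber C')] at h1
    refine (Ideal.unit_mul_mem_iff_mem _ (IsUnit.map _ ?_)).mp h1
    rw [isUnit_iff_ne_zero, Ne, Ideal.algebraMap_residueField_eq_zero]
    exact hr
  obtain ⟨Q, hQ, hQle⟩ := Ideal.exists_minimalPrimes_le hJle
  haveI : Q.IsPrime := hQ.1.1
  have hQass : Q ∈ associatedPrimes (t.Fiber C') (FlatCA.fiberMod t C' N') := by
    obtain ⟨-, m, hm⟩ := WeakAss.mem_ass_of_fg (IsNoetherian.noetherian Q)
      (show Q ∈ FlatCA.weakAss (t.Fiber C') (FlatCA.fiberMod t C' N') from ⟨y, hQ⟩)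
    refine isAssociatedPrime_iff.mpr ⟨inferInstance, m, hm.trans ?_⟩
    ext a
    rw [WeakAss.mem_ann, Submodule.mem_colon_singleton, Submodule.mem_bot]
  have hqle : Q.comap inc ≤ P' :=
    (Ideal.comap_mono hQle).trans (FlatMisc.Fiber.comap_fiberIdeal t P').le
  haveI : (Q.comap inc).IsPrime := Ideal.comap_isPrime _ _
  have hqc : (Q.comap inc).comap (algebraMap C C') = P :=
    le_antisymm (Ideal.comap_mono hqle) fun c hc => hQ.1.2 (hPJ c hc)
  have heq : Q.comap inc = P' :=
    Algebra.QuasiFinite.eq_of_le_of_under_eq (R := C) _ _ hqle (by rw [Ideal.under_def, Ideal.under_def, hqc])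
  have : P'F = Q := le_antisymm (Ideal.map_le_iff_le_comap.mpr heq.ge) hQle
  show P'F ∈ _
  rw [this]
  exact hQass

/-- Points of a pushout over a rational point of the parameter ring are determined by their image. -/
theorem eq_of_rational {A A' B BA : Type u} [CommRing A] [CommRing A'] [CommRing B] [CommRing BA] [Algebra A A']
    [Algebra A B] [Algebra A' BA] [Algebra B BA] [Algebra A BA] [IsScalarTower A B BA] [IsScalarTower A A' BA]
    [hpush : Algebra.IsPushout A B A' BA] (p : Ideal A) [p.IsPrime] (p' : Ideal A') [p'.IsPrime]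
    (h : FlatCA.IsEtaleNhd A A' p p') (Q₁ Q₂ : Ideal BA) [Q₁.IsPrime] [Q₂.IsPrime] [Q₁.LiesOver p'] [Q₂.LiesOver p']
    (he : Q₁.comap (algebraMap B BA) = Q₂.comap (algebraMap B BA)) : Q₁ = Q₂ := by
  obtain ⟨-, hover, hbij⟩ := h
  haveI := hover
  have hA : ∀ a : A', ∃ s ∉ p, ∃ r : A, algebraMap A A' s * a - algebraMap A A' r ∈ p' := by
    intro a
    obtain ⟨z, hz⟩ := hbij.2 (algebraMap A' p'.ResidueField a)
    obtain ⟨r, s, hs, hrs⟩ : ∃ r s : A, s ∉ p ∧ algebraMap A p.ResidueField r = algebraMap A p.ResidueField s * z := by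
      obtain ⟨⟨r, s⟩, hs⟩ := IsLocalization.surj (nonZeroDivisors (A ⧸ p)) z
      obtain ⟨r, rfl⟩ := Ideal.Quotient.mk_surjective r
      obtain ⟨s', hs'⟩ := Ideal.Quotient.mk_surjective (s : A ⧸ p)
      refine ⟨r, s', fun h => nonZeroDivisors.ne_zero s.2 (by rw [← hs', Ideal.Quotient.eq_zero_iff_mem.mpr h]), ?_⟩
      rw [← hs', mul_comm] at hs
      exact hs.symm
    refine ⟨s, hs, r, ?_⟩
    rw [← Ideal.algebraMap_residueField_eq_zero, map_sub, map_mul, ← hz, ← IsScalarTower.algebraMap_apply A A' p'.ResidueField,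
      ← IsScalarTower.algebraMap_apply A A' p'.ResidueField,
      ← (Ideal.ResidueField.mapₐ p p' (Algebra.ofId A A') hover.over).commutes s,
      ← (Ideal.ResidueField.mapₐ p p' (Algebra.ofId A A') hover.over).commutes r, ← map_mul, hrs, sub_self]
  have key : ∀ x : BA, ∃ s ∉ p, ∃ b : B, algebraMap A BA s * x - algebraMap B BA b ∈ Q₁ ∧
      algebraMap A BA s * x - algebraMap B BA b ∈ Q₂ := by
    intro x
    induction x using hpush.out.inductionOn with
    | zero => exact ⟨1, fun h => (inferInstance : p.IsPrime).ne_top ((Ideal.eq_top_iff_one p).mpr h), 0, by simp, by simp⟩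
    | tmul a =>
      obtain ⟨s, hs, r, hr⟩ := hA a
      refine ⟨s, hs, algebraMap A B r, ?_⟩
      have h1 : algebraMap A BA s * (IsScalarTower.toAlgHom A A' BA).toLinearMap a - algebraMap B BA (algebraMap A B r) =
          algebraMap A' BA (algebraMap A A' s * a - algebraMap A A' r) := by
        rw [map_sub, map_mul, ← IsScalarTower.algebraMap_apply, ← IsScalarTower.algebraMap_apply,
          ← IsScalarTower.algebraMap_apply]
        rfl
      rw [h1]
      exact ⟨(Q₁.over_def p').le hr, (Q₂.over_def p').le hr⟩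
    | smul c x hx =>
      obtain ⟨s, hs, b, h1, h2⟩ := hx
      have e : algebraMap A BA s * (c • x) - algebraMap B BA (c * b) =
          algebraMap B BA c * (algebraMap A BA s * x - algebraMap B BA b) := by
        rw [Algebra.smul_def, map_mul]; ring
      exact ⟨s, hs, c * b, e ▸ Q₁.mul_mem_left _ h1, e ▸ Q₂.mul_mem_left _ h2⟩
    | add x y hx hy =>
      obtain ⟨s, hs, b, h1, h2⟩ := hx
      obtain ⟨u, hu, c, h3, h4⟩ := hy
      have e : algebraMap A BA (s * u) * (x + y) - algebraMap B BA (algebraMap A B u * b + algebraMap A B s * c) =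
          algebraMap A BA u * (algebraMap A BA s * x - algebraMap B BA b) +
            algebraMap A BA s * (algebraMap A BA u * y - algebraMap B BA c) := by
        rw [map_mul, map_add, map_mul, map_mul, ← IsScalarTower.algebraMap_apply, ← IsScalarTower.algebraMap_apply]; ring
      exact ⟨s * u, p.primeCompl.mul_mem hs hu, _, e ▸ add_mem (Q₁.mul_mem_left _ h1) (Q₁.mul_mem_left _ h3),
        e ▸ add_mem (Q₂.mul_mem_left _ h2) (Q₂.mul_mem_left _ h4)⟩
  have hover' : ∀ (Q : Ideal BA) [Q.IsPrime] [Q.LiesOver p'], ∀ s ∉ p, algebraMap A BA s ∉ Q := by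
    intro Q _ _ s hs hsQ
    rw [IsScalarTower.algebraMap_apply A A' BA] at hsQ
    exact hs (hover.over.ge ((Q.over_def p').ge hsQ))
  refine le_antisymm (fun x hx => ?_) fun x hx => ?_
  · obtain ⟨s, hs, b, h1, h2⟩ := key x
    have hb : algebraMap B BA b ∈ Q₂ := he.le (show b ∈ Q₁.comap _ by
      rw [Ideal.mem_comap]; simpa using sub_mem (Q₁.mul_mem_left (algebraMap A BA s) hx) h1)
    exact ((inferInstance : Q₂.IsPrime).mem_or_mem (by simpa using add_mem h2 hb)).resolve_left (hover' Q₂ s hs)
  · obtain ⟨s, hs, b, h1, h2⟩ := key x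
    have hb : algebraMap B BA b ∈ Q₁ := he.ge (show b ∈ Q₂.comap _ by
      rw [Ideal.mem_comap]; simpa using sub_mem (Q₂.mul_mem_left (algebraMap A BA s) hx) h2)
    exact ((inferInstance : Q₁.IsPrime).mem_or_mem (by simpa using add_mem h1 hb)).resolve_left (hover' Q₁ s hs)

end Groth.Agent.RGFlat
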