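import Groth.Prelude.Def_FlatCA
import Groth.Agent.RGFlat.FibreReg
import Groth.Agent.RegLoc.AssTensor
import Mathlib.RingTheory.AdicCompletion.Basic
import Mathlib.RingTheory.Filtration

/-!
Universal injectivity of the map to the adic completion.
-/

set_option autoImplicit false

universe u

open TensorProduct

attribute [local instance] Algebra.TensorProduct.rightAlgebra

namespace Groth.Agent.RGFlat

variable {R S : Type u} [CommRing R] [CommRing S] [Algebra R S] [IsNoetherianRing R] [IsNoetherianRing S]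
  (I : Ideal R) {N : Type u} [AddCommGroup N] [Module S N] [Module R N] [IsScalarTower R S N] [Module.Finite S N]

omit [IsNoetherianRing R] in
theorem eq_zero_of_rTensor_of {Q : Type u} [AddCommGroup Q] [Module R Q] [Module.Finite R Q]
    (h : ∀ q ∈ associatedPrimes S (N ⊗[R] Q), I.map (algebraMap R S) ⊔ q ≠ ⊤)
    (x : N ⊗[R] Q) (hx : (AdicCompletion.of I N).rTensor Q x = 0) : x = 0 := by
  classical
  let J := I.map (algebraMap R S)
  have hmem : ∀ n : ℕ, x ∈ (J ^ n • ⊤ : Submodule S (N ⊗[R] Q)) := by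
    intro n
    let K : Submodule R N := I ^ n • ⊤
    have h1 : K.mkQ.rTensor Q x = 0 := by
      have he : (AdicCompletion.eval I N n).comp (AdicCompletion.of I N) = K.mkQ := by ext m; rfl
      rw [← he, LinearMap.rTensor_comp_apply, hx, map_zero]
    obtain ⟨z, rfl⟩ := ((rTensor_exact Q (LinearMap.exact_subtype_mkQ K) K.mkQ_surjective) x).mp h1
    clear h1 hx
    induction z with
    | zero => simp
    | tmul k q =>
      rw [LinearMap.rTensor_tmul]
      refine Submodule.smul_induction_on (p := fun k => k ⊗ₜ[R] q ∈ (J ^ n • ⊤ : Submodule S (N ⊗[R] Q))) k.2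
        (fun a ha m _ => ?_) fun u v hu hv => by rw [TensorProduct.add_tmul]; exact add_mem hu hv
      rw [← IsScalarTower.algebraMap_smul S a m, ← TensorProduct.smul_tmul']
      refine Submodule.smul_mem_smul ?_ Submodule.mem_top
      rw [← Ideal.map_pow]
      exact Ideal.mem_map_of_mem _ ha
    | add u v hu hv => rw [map_add]; exact add_mem hu hv
  haveI : Module.Finite S (N ⊗[R] Q) :=
    Module.Finite.equiv (AlgebraTensorModule.cancelBaseChange R S S N Q)
  obtain ⟨⟨r, hr⟩, hrx⟩ := (J.mem_iInf_smul_pow_eq_bot_iff x).mp (Submodule.mem_iInf _ |>.mpr hmem)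
  by_contra hne
  obtain ⟨q, hq, hle⟩ := exists_le_isAssociatedPrime_of_isNoetherianRing S x hne
  refine h q hq ((Ideal.eq_top_iff_one _).mpr ?_)
  rw [← sub_add_cancel (1 : S) r, add_comm]
  refine Submodule.add_mem_sup hr (hle ?_)
  rw [Submodule.mem_colon_singleton, Submodule.mem_bot, sub_smul, one_smul]
  exact sub_eq_zero.mpr hrx.symm

theorem univInj_completion
    (h : ∀ (Q : Type u) [AddCommGroup Q] [Module R Q], Module.Finite R Q →
      ∀ q ∈ associatedPrimes S (N ⊗[R] Q), I.map (algebraMap R S) ⊔ q ≠ ⊤) :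
    FlatCA.UnivInj R (AdicCompletion.of I N) := by
  classical
  intro Q _ _
  rw [LinearMap.lTensor_inj_iff_rTensor_inj, injective_iff_map_eq_zero]
  intro x hx
  obtain ⟨s, hs⟩ := TensorProduct.exists_finset x
  let Q' : Submodule R Q := Submodule.span R ((s.image Prod.snd : Finset Q) : Set Q)
  let x' : N ⊗[R] Q' := ∑ i ∈ s.attach, i.1.1 ⊗ₜ ⟨i.1.2, Submodule.subset_span (Finset.mem_image_of_mem _ i.2)⟩
  have hx' : Q'.subtype.lTensor N x' = x := by
    rw [hs, map_sum, ← Finset.sum_attach s fun i => i.1 ⊗ₜ[R] i.2]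
    rfl
  let y := (AdicCompletion.of I N).rTensor Q' x'
  have hy : Q'.subtype.lTensor (AdicCompletion I N) y = 0 := by
    rw [← LinearMap.comp_apply, LinearMap.lTensor_comp_rTensor, ← LinearMap.rTensor_comp_lTensor,
      LinearMap.comp_apply, hx', hx]
  obtain ⟨Q'', hle, hfg, hy''⟩ :=
    CAlgA.FibreMod.exists_fg_lTensor_eq_zero (R := R) (AdicCompletion I N) Q' ⟨_, rfl⟩ y hy
  haveI : Module.Finite R Q'' := Module.Finite.of_fg hfg
  have h0 : (Submodule.inclusion hle).lTensor N x' = 0 := by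
    refine eq_zero_of_rTensor_of I (h Q'' inferInstance) _ ?_
    rw [← LinearMap.comp_apply, LinearMap.rTensor_comp_lTensor, ← LinearMap.lTensor_comp_rTensor,
      LinearMap.comp_apply]
    exact hy''
  rw [← hx', show Q'.subtype = Q''.subtype.comp (Submodule.inclusion hle) from rfl, LinearMap.lTensor_comp_apply,
    h0, map_zero]

theorem univInj_completion_of_fibres [Module.Flat R N]
    (h : ∀ (p : Ideal R) (q : Ideal S) [p.IsPrime] [q.IsPrime] [q.LiesOver p],
      FlatCA.fiberIdeal p q ∈ associatedPrimes (p.Fiber S) (FlatCA.fiberMod p S N) → I.map (algebraMap R S) ⊔ q ≠ ⊤) :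
    FlatCA.UnivInj R (AdicCompletion.of I N) := by
  refine univInj_completion (S := S) I fun Q _ _ _ q hq => ?_
  rw [RegLoc.AssTensor.associatedPrimes_tensor, Set.mem_iUnion₂] at hq
  obtain ⟨p, hp, hq⟩ := hq
  haveI : p.IsPrime := hp.1
  haveI : q.IsPrime := hq.1
  obtain ⟨-, x, hx⟩ := isAssociatedPrime_iff.mp hq
  obtain ⟨n, rfl⟩ := Submodule.Quotient.mk_surjective _ x
  have hcol : ∀ a : S, a ∈ q ↔ a • n ∈ CAlgA.FibreMod.pN (S := S) N p := fun a => by
    rw [hx, Submodule.mem_colon_singleton, Submodule.mem_bot, ← Submodule.Quotient.mk_smul,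
      Submodule.Quotient.mk_eq_zero]
  have hover : q.LiesOver p := ⟨by
    ext a
    show a ∈ p ↔ algebraMap R S a ∈ q
    refine ⟨fun ha => (hcol _).mpr (Submodule.smul_mem_smul (Ideal.mem_map_of_mem _ ha) Submodule.mem_top),
      fun ha => by_contra fun hap => ?_⟩
    have h1 := CAlgA.FibreMod.mem_pN_of_smul_mem (S := S) N p hap ((hcol _).mp ha)
    exact (inferInstance : q.IsPrime).ne_top
      ((Ideal.eq_top_iff_one _).mpr ((hcol 1).mpr (by rwa [one_smul])))⟩
  haveI := hover
  refine h p q ⟨fiberIdeal_isPrime p q, FlatCA.toFiberMod p S N n, ?_⟩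
  have hqB : (FlatCA.fiberIdeal p q).IsPrime := fiberIdeal_isPrime p q
  refine le_antisymm (le_trans ?_ Ideal.le_radical) (hqB.radical_le_iff.mpr fun b hb => ?_)
  · refine Ideal.map_le_iff_le_comap.mpr fun a ha => ?_
    rw [Ideal.mem_comap, Submodule.mem_colon_singleton, Submodule.mem_bot]
    show (Algebra.TensorProduct.includeRight (R := R) (A := p.ResidueField) a : p.Fiber S) • FlatCA.toFiberMod p S N n = 0
    rw [CAlgA.FibreMod.includeRight_smul, ← map_smul]
    exact CAlgA.FibreMod.toFiberMod_eq_zero_of_mem N p ((hcol a).mp ha)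
  · rw [Submodule.mem_colon_singleton, Submodule.mem_bot] at hb
    obtain ⟨c, hc, s, hcs⟩ := Ideal.Fiber.exists_smul_eq_one_tmul p b
    have h0 : FlatCA.toFiberMod p S N (s • n) = 0 := by
      rw [map_smul, ← CAlgA.FibreMod.includeRight_smul N p s]
      show ((1 : p.ResidueField) ⊗ₜ[R] s : p.Fiber S) • FlatCA.toFiberMod p S N n = 0
      rw [← hcs, Algebra.smul_def, mul_smul, hb, smul_zero]
    obtain ⟨d, hd, hdn⟩ := CAlgA.FibreMod.exists_smul_mem N p h0
    rw [← mul_smul] at hdn
    have hs : s ∈ q := (hq.1.mem_or_mem ((hcol _).mpr hdn)).resolve_left fun hm => hd ((q.over_def p).ge hm)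
    have hmem : (1 : p.ResidueField) ⊗ₜ[R] s ∈ FlatCA.fiberIdeal p q := Ideal.mem_map_of_mem _ hs
    rw [← hcs, Algebra.smul_def, IsScalarTower.algebraMap_apply R p.ResidueField (p.Fiber S)] at hmem
    refine (Ideal.unit_mul_mem_iff_mem _ (IsUnit.map _ ?_)).mp hmem
    rw [isUnit_iff_ne_zero, Ne, Ideal.algebraMap_residueField_eq_zero]
    exact hc

end Groth.Agent.RGFlat
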