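import Mathlib.RingTheory.Flat.EquationalCriterion
import Mathlib.RingTheory.Nakayama
import Mathlib.LinearAlgebra.Matrix.Charpoly.LinearMap
import Mathlib.RingTheory.LocalRing.MaximalIdeal.Basic

/-!
The dévissage step for finite flat modules, by content ideals.

`D` is an algebra over a local ring `A` with an `A`-linear coefficient map `co : D →ₗ[A] (σ → A)` such
that an element all whose coefficients lie in `I` lies in `I D`. A finite `D`-module flat over `A` then
contains a free `D`-module with flat cokernel killed by an element outside `m D`.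
-/

set_option autoImplicit false

universe u v

open Module

namespace Groth.Agent.RGFlat

variable {A : Type u} [CommRing A] [IsLocalRing A] {D : Type u} [CommRing D] [Algebra A D]
  {σ : Type v} (co : D →ₗ[A] σ → A)

local notation "mD" => Ideal.map (algebraMap A D) (IsLocalRing.maximalIdeal A)

theorem co_mem_of_mem_map {I : Ideal A} {d : D} (hd : d ∈ I.map (algebraMap A D)) (ν : σ) :
    co d ν ∈ I := by
  have hd' : d ∈ (I • (⊤ : Submodule A D)) := by
    rw [Ideal.smul_top_eq_map]; exact hd
  refine Submodule.smul_induction_on hd' (fun a ha x _ => ?_) (fun x y hx hy => ?_)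
  · rw [map_smul]; exact I.mul_mem_right _ ha
  · rw [map_add]; exact I.add_mem hx hy

theorem exists_fg_le {r : ℕ} (c : Ideal A) (d : Fin r → D) (hd : ∀ i, d i ∈ c.map (algebraMap A D)) :
    ∃ s : Finset A, (s : Set A) ⊆ c ∧ ∀ i, d i ∈ (Ideal.span (s : Set A)).map (algebraMap A D) := by
  classical
  have h1 : ∀ i, ∃ s : Finset A, (s : Set A) ⊆ c ∧ d i ∈ (Ideal.span (s : Set A)).map (algebraMap A D) := by
    intro i
    obtain ⟨s, hs, hd'⟩ := Submodule.mem_span_finite_of_mem_span (hd i)
    choose g hg using fun x : s => hs x.2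
    refine ⟨s.attach.image g, ?_, ?_⟩
    · intro a ha
      obtain ⟨x, -, rfl⟩ := Finset.mem_image.mp ha
      exact (hg x).1
    · rw [Ideal.map_span]
      refine Submodule.span_mono ?_ hd'
      intro x hx
      exact ⟨g ⟨x, hx⟩, Finset.mem_image_of_mem _ (Finset.mem_attach _ _), (hg ⟨x, hx⟩).2⟩
  choose s hs hd' using h1
  refine ⟨Finset.univ.biUnion s, ?_, fun i => Ideal.map_mono (Ideal.span_mono ?_) (hd' i)⟩
  · intro a ha
    obtain ⟨i, -, hi⟩ := Finset.mem_biUnion.mp ha
    exact hs i hi
  · exact_mod_cast Finset.subset_biUnion_of_mem s (Finset.mem_univ i)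

theorem exists_sum_of_mem {I : Ideal A} {k : ℕ} (c : Fin k → A) {d : D}
    (hd : d ∈ (Ideal.span (Set.range c) ⊔ I).map (algebraMap A D)) :
    ∃ e : Fin k → D, d - ∑ j, c j • e j ∈ I.map (algebraMap A D) := by
  rw [Ideal.map_sup, Submodule.mem_sup] at hd
  obtain ⟨x, hx, y, hy, rfl⟩ := hd
  rw [Ideal.map_span, ← Set.range_comp] at hx
  obtain ⟨e, he⟩ := (Submodule.mem_span_range_iff_exists_fun D).mp hx
  refine ⟨e, ?_⟩
  have : ∑ j, c j • e j = x := by
    rw [← he]
    exact Finset.sum_congr rfl fun j _ => by simp [Algebra.smul_def, mul_comm]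
  rw [this, add_sub_cancel_left]
  exact hy

variable {G : Type u} [AddCommGroup G] [Module A G] [Module D G] [IsScalarTower A D G]

theorem smul_mem_of_mem_map {I : Ideal A} {d : D} (hd : d ∈ I.map (algebraMap A D)) (g : G) :
    d • g ∈ I • (⊤ : Submodule A G) := by
  have hd' : d ∈ (I • (⊤ : Submodule A D)) := by
    rw [Ideal.smul_top_eq_map]; exact hd
  refine Submodule.smul_induction_on hd' (fun a ha x _ => ?_) (fun x y hx hy => ?_)
  · rw [smul_assoc]; exact Submodule.smul_mem_smul ha trivial
  · rw [add_smul]; exact add_mem hx hy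

/-- A family independent modulo the maximal ideal has no relations modulo any ideal. -/
theorem mem_map_of_sum_mem [Module.Flat A G] (hsep : ∀ (I : Ideal A) (d : D), (∀ ν, co d ν ∈ I) → d ∈ I.map (algebraMap A D))
    {r : ℕ} (g : Fin r → G)
    (hind : ∀ e : Fin r → D, ∑ i, e i • g i ∈ IsLocalRing.maximalIdeal A • (⊤ : Submodule A G) → ∀ i, e i ∈ mD)
    (I : Ideal A) (d : Fin r → D) (hd : ∑ i, d i • g i ∈ I • (⊤ : Submodule A G)) (i : Fin r) :
    d i ∈ I.map (algebraMap A D) := by
  classical
  let c : Ideal A := Ideal.span (Set.range fun x : Fin r × σ => co (d x.1) x.2)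
  have hdc : ∀ i, d i ∈ c.map (algebraMap A D) := fun i =>
    hsep c (d i) fun ν => Ideal.subset_span ⟨(i, ν), rfl⟩
  obtain ⟨s, hs, hds⟩ := exists_fg_le c d hdc
  have hcs : c = Ideal.span (s : Set A) := le_antisymm
    (Ideal.span_le.mpr (by rintro _ ⟨⟨i, ν⟩, rfl⟩; exact co_mem_of_mem_map co (hds i) ν))
    (Ideal.span_le.mpr hs)
  -- a shortest list of generators of `c` modulo `I`
  have hex : ∃ k, ∃ a : Fin k → A, (∀ j, a j ∈ c) ∧ c ≤ Ideal.span (Set.range a) ⊔ I := by
    refine ⟨s.card, fun j => (s.equivFin.symm j : A), fun j => hs (s.equivFin.symm j).2, ?_⟩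
    refine le_trans (le_of_eq hcs) (le_trans (Ideal.span_mono ?_) le_sup_left)
    intro x hx
    exact ⟨s.equivFin ⟨x, hx⟩, by simp⟩
  obtain ⟨a, hac, ha⟩ := Nat.find_spec hex
  choose e he using fun i => exists_sum_of_mem a (Ideal.map_mono ha (hdc i))
  let h : Fin (Nat.find hex) → G := fun j => ∑ i, e i j • g i
  have hrel : ∑ j, a j • h j ∈ I • (⊤ : Submodule A G) := by
    have h1 : ∑ j, a j • h j = (∑ i, d i • g i) - ∑ i, (d i - ∑ j, a j • e i j) • g i := by
      simp only [h, Finset.smul_sum, sub_smul, Finset.sum_sub_distrib, sub_sub_cancel, Finset.sum_smul,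
        smul_assoc]
      exact Finset.sum_comm
    rw [h1]
    exact sub_mem hd (sum_mem fun i _ => smul_mem_of_mem_map (he i) _)
  -- write the right hand side as a combination over `I`
  obtain ⟨w, hw⟩ : ∃ w : I →₀ G, ∑ j, a j • h j = w.sum fun b x => (b : A) • x := by
    refine Submodule.smul_induction_on hrel (fun b hb x _ => ⟨Finsupp.single ⟨b, hb⟩ x, ?_⟩) ?_
    · rw [Finsupp.sum_single_index]; exact smul_zero _
    · rintro x y ⟨w₁, rfl⟩ ⟨w₂, rfl⟩
      exact ⟨w₁ + w₂, (Finsupp.sum_add_index' (fun _ => smul_zero _) fun _ _ _ => smul_add _ _ _).symm⟩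
  let F : Fin (Nat.find hex) ⊕ w.support → A := Sum.elim a fun b => -(b.1 : A)
  let H : Fin (Nat.find hex) ⊕ w.support → G := Sum.elim h fun b => w b.1
  have h0 : ∑ x, F x • H x = 0 := by
    rw [Fintype.sum_sum_type, show ∑ j, F (Sum.inl j) • H (Sum.inl j) = _ from hw]
    simp only [F, H, Sum.elim_inr, neg_smul, Finset.sum_neg_distrib]
    rw [Finset.sum_coe_sort w.support fun b : I => (b : A) • w b]
    exact add_neg_cancel _
  obtain ⟨k, b, y, hy, hb⟩ := Module.Flat.isTrivialRelation_of_sum_smul_eq_zero h0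
  -- by minimality the coefficients are not units
  have hm : ∀ j t, b (Sum.inl j) t ∈ IsLocalRing.maximalIdeal A := by
    intro j t
    by_contra hu
    rw [IsLocalRing.mem_maximalIdeal, mem_nonunits_iff, not_not] at hu
    obtain ⟨n, hn⟩ : ∃ n, Nat.find hex = n + 1 := ⟨Nat.find hex - 1, by have := j.2; omega⟩
    refine Nat.find_min hex (show n < Nat.find hex by omega)
      ⟨fun l => a (Fin.cast hn.symm ((Fin.cast hn j).succAbove l)), fun l => hac _, ?_⟩
    refine le_trans ha (sup_le (Ideal.span_le.mpr ?_) le_sup_right)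
    rintro _ ⟨l, rfl⟩
    set S := Ideal.span (Set.range fun l => a (Fin.cast hn.symm ((Fin.cast hn j).succAbove l))) ⊔ I
    have hne : ∀ l, l ≠ j → a l ∈ S := by
      intro l hl
      obtain ⟨l', hl'⟩ := Fin.exists_succAbove_eq (x := Fin.cast hn l) (y := Fin.cast hn j)
        (fun h => hl (Fin.cast_injective hn h))
      refine Ideal.mem_sup_left (Ideal.subset_span ⟨l', ?_⟩)
      simp [hl']
    show a l ∈ S
    by_cases hl : l = j
    · subst hl
      have h2 := hb t
      rw [Fintype.sum_sum_type, ← Finset.add_sum_erase _ _ (Finset.mem_univ l)] at h2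
      have h3 : a l * b (Sum.inl l) t ∈ S := by
        rw [add_assoc] at h2
        have := eq_neg_of_add_eq_zero_left h2
        rw [show a l * b (Sum.inl l) t = F (Sum.inl l) * b (Sum.inl l) t from rfl, this]
        refine S.neg_mem (S.add_mem (S.sum_mem fun x hx => S.mul_mem_right _ (hne x (Finset.ne_of_mem_erase hx))) ?_)
        exact S.sum_mem fun x _ => S.mul_mem_right _ (Ideal.mem_sup_right (I.neg_mem x.1.2))
      obtain ⟨u, hu'⟩ := hu.exists_right_inv
      have := S.mul_mem_right u h3
      rwa [mul_assoc, hu', mul_one] at this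
    · exact hne l hl
  have hem : ∀ i j, e i j ∈ mD := fun i j => by
    refine hind (fun i => e i j) ?_ i
    show h j ∈ _
    rw [show h j = H (Sum.inl j) from rfl, hy]
    exact sum_mem fun t _ => Submodule.smul_mem_smul (hm j t) trivial
  -- Nakayama on the content
  have hc : c ≤ I := by
    refine Submodule.le_of_le_smul_of_le_jacobson_bot (hcs ▸ Submodule.fg_span s.finite_toSet)
      (IsLocalRing.maximalIdeal_le_jacobson ⊥) ?_
    refine Ideal.span_le.mpr ?_
    rintro _ ⟨⟨i, ν⟩, rfl⟩
    show co (d i) ν ∈ I ⊔ IsLocalRing.maximalIdeal A • c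
    have h2 : d i = (d i - ∑ j, a j • e i j) + ∑ j, a j • e i j := by rw [sub_add_cancel]
    rw [h2, map_add, map_sum]
    refine add_mem (Ideal.mem_sup_left (co_mem_of_mem_map co (he i) ν)) ?_
    rw [Finset.sum_apply]
    refine sum_mem fun j _ => Ideal.mem_sup_right ?_
    rw [map_smul, Pi.smul_apply, smul_eq_mul, smul_eq_mul, mul_comm (IsLocalRing.maximalIdeal A) c]
    exact Ideal.mul_mem_mul (hac j) (co_mem_of_mem_map co (hem i j) ν)
  exact Ideal.map_mono hc (hdc i)

/-- The cokernel of an independent family is flat. -/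
theorem flat_quotient [Module.Flat A G] (hsep : ∀ (I : Ideal A) (d : D), (∀ ν, co d ν ∈ I) → d ∈ I.map (algebraMap A D))
    {r : ℕ} (g : Fin r → G)
    (hind : ∀ e : Fin r → D, ∑ i, e i • g i ∈ IsLocalRing.maximalIdeal A • (⊤ : Submodule A G) → ∀ i, e i ∈ mD) :
    Module.Flat A (G ⧸ Submodule.span D (Set.range g)) := by
  refine Module.Flat.of_forall_isTrivialRelation fun {l f x} hx => ?_
  choose h hh using fun j => Submodule.Quotient.mk_surjective _ (x j)
  have hmem : ∑ j, f j • h j ∈ Submodule.span D (Set.range g) := by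
    rw [← Submodule.Quotient.mk_eq_zero, ← hx, ← Submodule.mkQ_apply, map_sum]
    exact Finset.sum_congr rfl fun j _ => by rw [LinearMap.map_smul_of_tower, Submodule.mkQ_apply, hh]
  obtain ⟨d, hd⟩ := (Submodule.mem_span_range_iff_exists_fun D).mp hmem
  have hdI := mem_map_of_sum_mem co hsep g hind (Ideal.span (Set.range f)) d (by
    rw [hd]
    exact sum_mem fun j _ => Submodule.smul_mem_smul (Ideal.subset_span ⟨j, rfl⟩) trivial)
  choose e he using fun i => exists_sum_of_mem (I := ⊥) f (d := d i) (by rw [sup_bot_eq]; exact hdI i)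
  simp only [Ideal.map_bot, Submodule.mem_bot, sub_eq_zero] at he
  have h0 : ∑ j, f j • (h j - ∑ i, e i j • g i) = 0 := by
    simp only [smul_sub, Finset.sum_sub_distrib, sub_eq_zero, Finset.smul_sum, ← smul_assoc]
    rw [Finset.sum_comm, ← hd]
    exact Finset.sum_congr rfl fun i _ => by rw [he i, Finset.sum_smul]
  obtain ⟨k, a, y, hy, ha⟩ := Module.Flat.isTrivialRelation_of_sum_smul_eq_zero h0
  refine ⟨k, a, fun t => Submodule.Quotient.mk (y t), fun j => ?_, ha⟩
  rw [← hh j, ← Submodule.mkQ_apply, ← sub_add_cancel (h j) (∑ i, e i j • g i), map_add,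
    show h j - ∑ i, e i j • g i = ∑ t, a j t • y t from hy j, map_sum (Submodule.span D (Set.range g)).mkQ (fun t => a j t • y t),
    show (Submodule.span D (Set.range g)).mkQ (∑ i, e i j • g i) = 0 from
      (Submodule.Quotient.mk_eq_zero _).mpr (sum_mem fun i _ => Submodule.smul_mem _ _ (Submodule.subset_span ⟨i, rfl⟩)),
    add_zero]
  exact Finset.sum_congr rfl fun t _ => by rw [LinearMap.map_smul_of_tower]; rfl

/-- The dévissage step. -/
theorem exists_step [Module.Flat A G] [Module.Finite D G]
    (hsep : ∀ (I : Ideal A) (d : D), (∀ ν, co d ν ∈ I) → d ∈ I.map (algebraMap A D))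
    (hprime : (mD).IsPrime) :
    ∃ (r : ℕ) (α : (Fin r → D) →ₗ[D] G) (s : D), s ∉ mD ∧ (∀ z : G, s • z ∈ LinearMap.range α) ∧
      Function.Injective α ∧ Module.Flat A (G ⧸ LinearMap.range α) := by
  classical
  obtain ⟨N, z, hz⟩ := Module.Finite.exists_fin (R := D) (M := G)
  let m := IsLocalRing.maximalIdeal A • (⊤ : Submodule A G)
  let Ind : Finset (Fin N) → Prop := fun S =>
    ∀ e : Fin N → D, ∑ i ∈ S, e i • z i ∈ m → ∀ i ∈ S, e i ∈ mD
  have h0 : ({∅} : Finset (Finset (Fin N))).Nonempty := by simp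
  obtain ⟨S, hS, hmax⟩ := Finset.exists_max_image (Finset.univ.filter Ind) Finset.card
    ⟨∅, by simp [Ind]⟩
  simp only [Finset.mem_filter, Finset.mem_univ, true_and] at hS hmax
  let g : Fin S.card → G := fun j => z (S.equivFin.symm j)
  have hind : ∀ e : Fin S.card → D, ∑ j, e j • g j ∈ m → ∀ j, e j ∈ mD := by
    intro e he j
    have := hS (fun i => if hi : i ∈ S then e (S.equivFin ⟨i, hi⟩) else 0) (by
      rw [← Finset.sum_coe_sort]
      rw [← S.equivFin.symm.sum_comp]
      simpa [g] using he) _ (S.equivFin.symm j).2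
    simpa using this
  let α : (Fin S.card → D) →ₗ[D] G := Fintype.linearCombination D g
  have hrange : LinearMap.range α = Submodule.span D (Set.range g) := Fintype.range_linearCombination D g
  let Q := LinearMap.range α
  -- each generator is torsion modulo `m G`
  have hz' : ∀ i, ∃ s : D, s ∉ mD ∧ ∃ q ∈ Q, s • z i - q ∈ m := by
    intro i
    by_cases hi : i ∈ S
    · refine ⟨1, fun h => hprime.ne_top ((Ideal.eq_top_iff_one _).mpr h), z i, ?_, by simp⟩
      show z i ∈ LinearMap.range α
      rw [hrange]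
      exact Submodule.subset_span ⟨S.equivFin ⟨i, hi⟩, by simp [g]⟩
    · have hnot : ¬ Ind (insert i S) := fun h => by
        have := hmax _ h
        rw [Finset.card_insert_of_notMem hi] at this
        omega
      simp only [Ind, not_forall] at hnot
      obtain ⟨e, he, j, hj, hej⟩ := hnot
      rw [Finset.sum_insert hi] at he
      refine ⟨e i, fun hei => hej ?_, -∑ x ∈ S, e x • z x, ?_, by simpa [sub_neg_eq_add] using he⟩
      · rcases Finset.mem_insert.mp hj with rfl | hj
        · exact hei
        · refine hS e ?_ j hj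
          have := sub_mem he (smul_mem_of_mem_map (G := G) hei (z i))
          simpa using this
      · show _ ∈ LinearMap.range α
        rw [hrange]
        exact neg_mem (sum_mem fun x hx => Submodule.smul_mem _ _
          (Submodule.subset_span ⟨S.equivFin ⟨x, hx⟩, by simp [g]⟩))
  choose t ht q hq htq using hz'
  let T := ∏ i, t i
  have hT : T ∉ mD := fun h => by
    obtain ⟨i, -, hi⟩ := (hprime.prod_mem_iff).mp h
    exact ht i hi
  have hmle : ∀ x ∈ m, Q.mkQ x ∈ (mD) • (⊤ : Submodule D (G ⧸ Q)) := fun x hx => by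
    refine Submodule.smul_induction_on hx (fun a ha y _ => ?_) (fun x y hx hy => ?_)
    · rw [← IsScalarTower.algebraMap_smul D a y, map_smul]
      exact Submodule.smul_mem_smul (Ideal.mem_map_of_mem _ ha) trivial
    · rw [map_add]; exact add_mem hx hy
  have hTm : ∀ x : G ⧸ Q, T • x ∈ (mD) • (⊤ : Submodule D (G ⧸ Q)) := by
    intro x
    obtain ⟨x, rfl⟩ := Q.mkQ_surjective x
    have hx : x ∈ Submodule.span D (Set.range z) := by rw [hz]; trivial
    induction hx using Submodule.span_induction with
    | mem x hx =>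
      obtain ⟨i, rfl⟩ := hx
      have h1 := hmle _ (htq i)
      rw [map_sub, show Q.mkQ (q i) = 0 from (Submodule.Quotient.mk_eq_zero _).mpr (hq i), sub_zero, map_smul] at h1
      rw [show T = (∏ x ∈ Finset.univ.erase i, t x) * t i from (Finset.prod_erase_mul _ _ (Finset.mem_univ i)).symm,
        mul_smul]
      exact Submodule.smul_mem _ _ h1
    | zero => simp
    | add x y _ _ hx hy => rw [map_add, smul_add]; exact add_mem hx hy
    | smul a x _ hx => rw [map_smul, smul_comm]; exact Submodule.smul_mem _ _ hx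
  obtain ⟨p, hp, -, hcoeff, hpT⟩ := LinearMap.exists_monic_and_natDegree_eq_and_coeff_mem_pow_and_aeval_eq_zero
    D (algebraMap D (Module.End D (G ⧸ Q)) T) (mD) (by rintro _ ⟨x, rfl⟩; exact hTm x)
  refine ⟨S.card, α, p.eval T, ?_, fun x => ?_, ?_, ?_⟩
  · intro h
    rw [Polynomial.eval_eq_sum_range, Finset.sum_range_succ, hp.coeff_natDegree, one_mul] at h
    have h1 := (Ideal.add_mem_iff_right _ ?_).mp h
    · exact hT (hprime.mem_of_pow_mem _ h1)
    · refine sum_mem fun k hk => Ideal.mul_mem_right _ _ ?_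
      exact Ideal.pow_le_self (by simp at hk; omega) (hcoeff k)
  · rw [show algebraMap D (Module.End D (G ⧸ Q)) T = Algebra.ofId D _ T from rfl, Polynomial.aeval_algHom_apply,
      Polynomial.coe_aeval_eq_eval, Algebra.ofId_apply] at hpT
    have := LinearMap.congr_fun hpT (Q.mkQ x)
    rw [Module.algebraMap_end_apply, LinearMap.zero_apply, ← map_smul] at this
    exact (Submodule.Quotient.mk_eq_zero _).mp this
  · rw [← LinearMap.ker_eq_bot, eq_bot_iff]
    intro d hd
    rw [Submodule.mem_bot]
    funext i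
    have := mem_map_of_sum_mem co hsep g hind ⊥ d (by
      rw [Submodule.bot_smul, Submodule.mem_bot]
      simpa [α, Fintype.linearCombination_apply] using hd) i
    simpa using this
  · rw [hrange]
    exact flat_quotient co hsep g hind

end Groth.Agent.RGFlat
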