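import Groth.Agent.RGFlat.Generic

/-!
Finite presentation of a flat module from a scheme-theoretically dense open of the base.
-/

set_option autoImplicit false

universe u

open TensorProduct

namespace Groth.Agent.RGFlat

theorem eq_zero_of_dense {A N : Type u} [CommRing A] [AddCommGroup N] [Module A N] [Module.Flat A N] {n : ℕ}
    (f : Fin n → A) (hdense : Function.Injective (RingHom.pi (fun i => algebraMap A (Localization.Away (f i)))))
    (z : N) (k : ℕ) (hz : ∀ i, f i ^ k • z = 0) : z = 0 := by
  classical
  let ψ : A →ₗ[A] (Fin n → A) := LinearMap.pi fun i => LinearMap.lsmul A A (f i ^ k)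
  have hψ : Function.Injective ψ := by
    rw [← LinearMap.ker_eq_bot, eq_bot_iff]
    intro a ha
    refine (Submodule.mem_bot A).mpr (hdense ?_)
    rw [map_zero]
    funext i
    show algebraMap A (Localization.Away (f i)) a = 0
    rw [IsLocalization.map_eq_zero_iff (Submonoid.powers (f i))]
    exact ⟨⟨f i ^ k, k, rfl⟩, congrFun ha i⟩
  have h1 := Module.Flat.lTensor_preserves_injective_linearMap (M := N) ψ hψ
  have h2 : ψ.lTensor N (z ⊗ₜ[A] 1) = 0 := by
    rw [LinearMap.lTensor_tmul, pi_eq_sum_univ (ψ 1), TensorProduct.tmul_sum]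
    refine Finset.sum_eq_zero fun i _ => ?_
    show z ⊗ₜ[A] ((f i ^ k • (1 : A)) • _) = 0
    rw [smul_eq_mul, mul_one, ← TensorProduct.smul_tmul, hz, TensorProduct.zero_tmul]
  have h3 : z ⊗ₜ[A] (1 : A) = 0 := h1 (h2.trans (map_zero _).symm)
  simpa using congrArg (TensorProduct.rid A N) h3

theorem genericFG_of_dense {A B : Type u} [CommRing A] [CommRing B] [Algebra A B]
    {N : Type u} [AddCommGroup N] [Module B N] [Module A N] [IsScalarTower A B N] {n : ℕ} (f : Fin n → A)
    (hdense : Function.Injective (RingHom.pi (fun i => algebraMap A (Localization.Away (f i)))))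
    (hfp : ∀ i, Module.FinitePresentation (Localization.Away (algebraMap A B (f i)))
      (LocalizedModule (Submonoid.powers (algebraMap A B (f i))) N)) :
    GenericFG A B N := by
  intro r K π hK hπ
  classical
  let M₀ := (Fin r → B) ⧸ K
  let b : Fin n → B := fun i => algebraMap A B (f i)
  let p : ∀ i, LocalizedModule (Submonoid.powers (b i)) M₀ →ₗ[Localization.Away (b i)]
      LocalizedModule (Submonoid.powers (b i)) N := fun i => LocalizedModule.map _ π
  haveI : Module.Finite B M₀ := inferInstance
  have hfg : ∀ i, ∃ G : Finset (LocalizedModule (Submonoid.powers (b i)) M₀),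
      Submodule.span (Localization.Away (b i)) (G : Set (LocalizedModule (Submonoid.powers (b i)) M₀)) = LinearMap.ker (p i) := fun i => by
    haveI := hfp i
    haveI : Module.Finite (Localization.Away (b i)) (LocalizedModule (Submonoid.powers (b i)) M₀) :=
      Module.Finite.of_isLocalizedModule (Submonoid.powers (b i)) (LocalizedModule.mkLinearMap (Submonoid.powers (b i)) M₀)
    exact Module.FinitePresentation.fg_ker (p i) (LocalizedModule.map_surjective _ π hπ)
  choose G' hG' using hfg
  have hex : ∀ i, ∀ v ∈ G' i, ∃ (m : M₀) (σ : Submonoid.powers (b i)), π m = 0 ∧ LocalizedModule.mk m σ = v := by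
    intro i v hv
    have h0 : p i v = 0 := (hG' i).le (Submodule.subset_span hv)
    induction v using LocalizedModule.induction_on with
    | h m s =>
      rw [LocalizedModule.map_mk, mk_eq_zero_iff] at h0
      obtain ⟨t, ht⟩ := h0
      exact ⟨(t : B) • m, t * s, by rw [map_smul]; exact ht, LocalizedModule.mk_cancel_common_left t s m⟩
  choose! m σ hm hmσ using hex
  refine ⟨Finset.univ.biUnion fun i => (G' i).image (m i), fun t ht => ?_, fun g hg x hx Q _ hgQ hflat => ?_⟩
  · obtain ⟨i, -, ht⟩ := Finset.mem_biUnion.mp ht
    obtain ⟨v, hv, rfl⟩ := Finset.mem_image.mp ht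
    exact hm i v hv
  · have hi : ∀ i, ∃ k : ℕ, b i ^ k • g • x = 0 := by
      intro i
      have h1 : LocalizedModule.mk x 1 ∈ LinearMap.ker (p i) := by
        rw [LinearMap.mem_ker, LocalizedModule.map_mk, hx, LocalizedModule.zero_mk]
      rw [← hG'] at h1
      have h2 : g • (LocalizedModule.mk x 1 : LocalizedModule (Submonoid.powers (b i)) M₀) = 0 := by
        generalize LocalizedModule.mk x (1 : Submonoid.powers (b i)) = y at h1
        induction h1 using Submodule.span_induction with
        | mem v hv =>
          rw [← hmσ i v hv, LocalizedModule.smul'_mk,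
            hg _ (Finset.mem_biUnion.mpr ⟨i, Finset.mem_univ i, Finset.mem_image_of_mem _ hv⟩), LocalizedModule.zero_mk]
        | zero => simp
        | add a b _ _ ha hb => rw [smul_add, ha, hb, add_zero]
        | smul a b _ hb => rw [smul_comm, hb, smul_zero]
      rw [LocalizedModule.smul'_mk, mk_eq_zero_iff] at h2
      obtain ⟨⟨_, k, rfl⟩, hk⟩ := h2
      exact ⟨k, hk⟩
    choose k hk using hi
    haveI : Module.Flat A (LocalizedModule Q.primeCompl M₀) := hflat
    have h3 := eq_zero_of_dense f hdense (LocalizedModule.mk (g • x) (1 : Q.primeCompl)) (Finset.univ.sup k) fun i => by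
      rw [← IsScalarTower.algebraMap_smul B (f i ^ Finset.univ.sup k), LocalizedModule.smul'_mk, map_pow,
        ← Nat.sub_add_cancel (Finset.le_sup (f := k) (Finset.mem_univ i)), pow_add, mul_smul]
      show LocalizedModule.mk (b i ^ _ • b i ^ k i • g • x) 1 = 0
      rw [hk, smul_zero, LocalizedModule.zero_mk]
    rw [mk_eq_zero_iff] at h3
    obtain ⟨t, ht⟩ := h3
    refine ⟨(t : B) * g, fun h => ((inferInstance : Q.IsPrime).mem_or_mem h).elim t.2 hgQ, ?_⟩
    rw [mul_smul]
    exact ht

theorem fp_of_dense {A B : Type u} [CommRing A] [CommRing B] [Algebra A B] [Algebra.FinitePresentation A B]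
    (N : Type u) [AddCommGroup N] [Module B N] [Module A N] [IsScalarTower A B N] [Module.Finite B N] [Module.Flat A N]
    {n : ℕ} (f : Fin n → A)
    (hdense : Function.Injective (RingHom.pi (fun i => algebraMap A (Localization.Away (f i)))))
    (hfp : ∀ i, Module.FinitePresentation (Localization.Away (algebraMap A B (f i)))
      (LocalizedModule (Submonoid.powers (algebraMap A B (f i))) N)) :
    Module.FinitePresentation B N :=
  fp_of_genericFG (genericFG_of_dense f hdense hfp) fun Q _ => flatAt_of_flat Q

end Groth.Agent.RGFlat
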