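import Groth.Agent.RGFlat.Independent

/-!
Spreading out of the joint injectivity on fibres of finitely many elements of a finitely presented algebra.
-/

set_option autoImplicit false

universe u

open TensorProduct

namespace Groth.Agent.RGFlat.InjNhd

/-- Tensoring with a field in which `f` is invertible factors through the localization at `f`. -/
theorem mk_lTensor_injective {D : Type u} [CommRing D] {f : D} {L : Type u} [Field L] [Algebra D L]
    (hL : algebraMap D L f ≠ 0) {X : Type u} [AddCommGroup X] [Module D X] :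
    Function.Injective ((TensorProduct.mk D (Localization.Away f) X 1).lTensor L) := by
  let ι : Localization.Away f →ₐ[D] L := IsLocalization.liftAlgHom (M := Submonoid.powers f) (f := Algebra.ofId D L)
    fun y => by
      obtain ⟨k, hk⟩ := y.2
      rw [← hk, map_pow]
      exact (isUnit_iff_ne_zero.mpr hL).pow k
  let ret : L ⊗[D] (Localization.Away f ⊗[D] X) →ₗ[D] L ⊗[D] X :=
    (TensorProduct.lift ((LinearMap.mul D L).compl₂ ι.toLinearMap)).rTensor X ∘ₗ
      (TensorProduct.assoc D L (Localization.Away f) X).symm.toLinearMap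
  refine Function.LeftInverse.injective (g := ret) fun z => ?_
  induction z with
  | zero => simp
  | tmul l x => simp [ret, map_one]
  | add a b ha hb => rw [map_add, map_add, ha, hb]

/-- Tensoring with a field where `f` is invertible keeps a map injective when the cokernel is free there. -/
theorem lTensor_injective_of_free {D : Type u} [CommRing D] (f : D) {X Y Z : Type u} [AddCommGroup X] [Module D X]
    [AddCommGroup Y] [Module D Y] [AddCommGroup Z] [Module D Z] (α : X →ₗ[D] Y) (β : Y →ₗ[D] Z)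
    (hα : Function.Injective α) (hex : Function.Exact α β) (hβ : Function.Surjective β)
    [Module.Free (Localization.Away f) (Localization.Away f ⊗[D] Z)]
    (L : Type u) [Field L] [Algebra D L] (hL : algebraMap D L f ≠ 0) : Function.Injective (α.lTensor L) := by
  let Df := Localization.Away f
  haveI : Module.Flat D Df := IsLocalization.flat Df (Submonoid.powers f)
  haveI : Module.Flat D (Df ⊗[D] Z) := Module.Flat.trans D Df (Df ⊗[D] Z)
  have h1 : Function.Injective ((α.lTensor Df).lTensor L) :=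
    LinearMap.lTensor_injective_of_exact_of_flat (β.lTensor Df) (LinearMap.lTensor_surjective Df hβ) (α.lTensor Df)
      (Module.Flat.lTensor_preserves_injective_linearMap α hα) (lTensor_exact Df hex hβ) L
  intro u v huv
  refine mk_lTensor_injective (f := f) hL (X := X) (h1 ?_)
  rw [← LinearMap.lTensor_comp_apply, ← LinearMap.lTensor_comp_apply,
    show α.lTensor Df ∘ₗ TensorProduct.mk D Df X 1 = TensorProduct.mk D Df Y 1 ∘ₗ α from LinearMap.ext fun _ => rfl,
    LinearMap.lTensor_comp_apply, LinearMap.lTensor_comp_apply, huv]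

/-- A map of finite modules over a finite type algebra over a Noetherian domain is either injective on all
fibres over a basic open or on none of them. -/
theorem dichotomy {D P : Type u} [CommRing D] [IsDomain D] [IsNoetherianRing D] [CommRing P] [Algebra D P]
    [Algebra.FiniteType D P] {M M' : Type u} [AddCommGroup M] [Module P M] [Module D M] [IsScalarTower D P M]
    [Module.Finite P M] [AddCommGroup M'] [Module P M'] [Module D M'] [IsScalarTower D P M'] [Module.Finite P M']
    (φ : M →ₗ[P] M') :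
    ∃ d : D, d ≠ 0 ∧
      ((∀ (L : Type u) [Field L] [Algebra D L], algebraMap D L d ≠ 0 →
          Function.Injective ((φ.restrictScalars D).lTensor L)) ∨
        (∀ (L : Type u) [Field L] [Algebra D L], algebraMap D L d ≠ 0 →
          ¬ Function.Injective ((φ.restrictScalars D).lTensor L))) := by
  classical
  haveI : IsNoetherianRing P := Algebra.FiniteType.isNoetherianRing D P
  let K := LinearMap.ker φ
  let I := LinearMap.range φ
  obtain ⟨f₁, hf₁, hK, -, -, -⟩ := FlatOpen.exists_genFree D P K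
  obtain ⟨f₂, hf₂, hI, -, -, -⟩ := FlatOpen.exists_genFree D P I
  obtain ⟨f₃, hf₃, hC, -, -, -⟩ := FlatOpen.exists_genFree D P (M' ⧸ I)
  haveI := hK
  haveI := hI
  haveI := hC
  refine ⟨f₁ * f₂ * f₃, mul_ne_zero (mul_ne_zero hf₁ hf₂) hf₃, ?_⟩
  let ιK : K →ₗ[D] M := K.subtype.restrictScalars D
  let π : M →ₗ[D] I := φ.rangeRestrict.restrictScalars D
  let ιI : I →ₗ[D] M' := I.subtype.restrictScalars D
  let q : M' →ₗ[D] M' ⧸ I := I.mkQ.restrictScalars D
  have hπ : Function.Surjective π := φ.surjective_rangeRestrict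
  have hexK : Function.Exact ιK π := fun v => by
    refine ⟨fun h => ⟨⟨v, LinearMap.mem_ker.mpr (congrArg Subtype.val h)⟩, rfl⟩, ?_⟩
    rintro ⟨w, rfl⟩
    exact Subtype.ext (LinearMap.mem_ker.mp w.2)
  have hexI : Function.Exact ιI q := LinearMap.exact_subtype_mkQ I
  let Df := Localization.Away f₁
  by_cases hK0 : Subsingleton (Df ⊗[D] K)
  · refine Or.inl fun L _ _ hL => ?_
    simp only [map_mul, ne_eq, mul_eq_zero, not_or] at hL
    have hzero : ∀ w : L ⊗[D] (Df ⊗[D] K), w = 0 := fun w => by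
      induction w with
      | zero => rfl
      | tmul l v => rw [hK0.elim v 0, TensorProduct.tmul_zero]
      | add a b ha hb => rw [ha, hb, add_zero]
    have hsub : ∀ z : L ⊗[D] K, z = 0 := fun z =>
      mk_lTensor_injective (f := f₁) hL.1.1 (X := K) ((hzero _).trans (hzero _).symm)
    have hπL : Function.Injective (π.lTensor L) := by
      rw [injective_iff_map_eq_zero]
      intro z hz
      obtain ⟨w, rfl⟩ := ((lTensor_exact L hexK hπ) z).mp hz
      rw [hsub w, map_zero]
    have h2 := (lTensor_injective_of_free f₃ ιI q Subtype.val_injective hexI I.mkQ_surjective L hL.2).comp hπL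
    rw [show φ.restrictScalars D = ιI ∘ₗ π from rfl, LinearMap.lTensor_comp]
    exact h2
  · refine Or.inr fun L _ _ hL hφ => ?_
    simp only [map_mul, ne_eq, mul_eq_zero, not_or] at hL
    letI : Algebra Df L := (IsLocalization.Away.lift f₁ (isUnit_iff_ne_zero.mpr hL.1.1) : Df →+* L).toAlgebra
    haveI : IsScalarTower D Df L :=
      IsScalarTower.of_algebraMap_eq fun a => (IsLocalization.Away.lift_eq f₁ _ a).symm
    let b := Module.Free.chooseBasis Df (Df ⊗[D] K)
    haveI : Nonempty (Module.Free.ChooseBasisIndex Df (Df ⊗[D] K)) := by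
      by_contra he
      haveI := not_nonempty_iff.mp he
      exact hK0 (b.repr.toEquiv.subsingleton)
    let i0 := Classical.arbitrary (Module.Free.ChooseBasisIndex Df (Df ⊗[D] K))
    let χ : Df ⊗[D] K →ₗ[Df] L := (Algebra.linearMap Df L).comp (b.coord i0)
    obtain ⟨k, hk⟩ : ∃ k : K, χ (1 ⊗ₜ k) ≠ 0 := by
      by_contra hc
      push Not at hc
      have h0 : χ = 0 := LinearMap.ext fun w => by
        induction w with
        | zero => simp
        | tmul a k =>
          rw [← mul_one a, ← smul_eq_mul, ← TensorProduct.smul_tmul', map_smul, hc, smul_zero, LinearMap.zero_apply]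
        | add u v hu hv => rw [map_add, hu, hv, map_add]
      have h1 := LinearMap.congr_fun h0 (b i0)
      simp [χ] at h1
    let χ₀ : K →ₗ[D] L := (χ.restrictScalars D).comp (TensorProduct.mk D Df K 1)
    have hne : (1 : L) ⊗ₜ[D] k ≠ 0 := fun h0 => hk (by
      have := congrArg (TensorProduct.lift ((LinearMap.mul D L).compl₂ χ₀)) h0
      simpa [χ₀] using this)
    have hιK := lTensor_injective_of_free f₂ ιK π Subtype.val_injective hexK hπ L hL.1.2
    have hz : (φ.restrictScalars D).lTensor L (ιK.lTensor L ((1 : L) ⊗ₜ k)) = 0 := by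
      simp only [LinearMap.lTensor_tmul]
      show (1 : L) ⊗ₜ[D] φ (k : M) = 0
      rw [LinearMap.mem_ker.mp k.2, TensorProduct.tmul_zero]
    exact hne (hιK ((hφ (hz.trans (map_zero _).symm)).trans (map_zero _).symm))

/-- Joint injectivity after tensoring with a field. -/
def JInj {R : Type u} [CommRing R] (L : Type u) [Field L] [Algebra R L] {M : Type u} [AddCommGroup M] [Module R M]
    {k : ℕ} (ψ : Fin k → (M →ₗ[R] M)) : Prop :=
  ∀ z : L ⊗[R] M, (∀ i, (ψ i).lTensor L z = 0) → z = 0

/-- Joint injectivity is invariant under base change. -/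
theorem jinj_iff {R₁ R : Type u} [CommRing R₁] [CommRing R] [Algebra R₁ R] {M₁ M : Type u} [AddCommGroup M₁]
    [Module R₁ M₁] [AddCommGroup M] [Module R M] {k : ℕ} (ψ₁ : Fin k → (M₁ →ₗ[R₁] M₁)) (ψ : Fin k → (M →ₗ[R] M))
    (e : R ⊗[R₁] M₁ ≃ₗ[R] M) (he : ∀ i y, e (1 ⊗ₜ ψ₁ i y) = ψ i (e (1 ⊗ₜ y)))
    (L : Type u) [Field L] [Algebra R₁ L] [Algebra R L] [IsScalarTower R₁ R L] :
    JInj L ψ ↔ JInj L ψ₁ := by
  let c : L ⊗[R₁] M₁ ≃ₗ[L] L ⊗[R] M :=
    (AlgebraTensorModule.cancelBaseChange R₁ R L L M₁).symm.trans (AlgebraTensorModule.congr (LinearEquiv.refl L L) e)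
  have hc : ∀ i w, c ((ψ₁ i).lTensor L w) = (ψ i).lTensor L (c w) := by
    intro i w
    induction w with
    | zero => simp
    | tmul l y => simp [c, he]
    | add u v hu hv => simp only [map_add, hu, hv]
  constructor
  · intro h w hw
    exact c.injective (by rw [map_zero, h (c w) fun i => by rw [← hc, hw, map_zero]])
  · intro h z hz
    rw [← c.apply_symm_apply z] at hz ⊢
    rw [h (c.symm z) fun i => c.injective (by rw [hc, hz, map_zero]), map_zero]

/-- The comparison of presented modules along a base change. -/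
theorem exists_quot_equiv {n m : ℕ} {R₀ : Type u} [CommRing R₀]
    (Z₀ : Submodule (MvPolynomial (Fin n) R₀) (FlatOpen.Vec n m R₀)) (R₁ R : Type u) [CommRing R₁] [CommRing R]
    [Algebra R₀ R₁] [Algebra R₀ R] [Algebra R₁ R] [IsScalarTower R₀ R₁ R] :
    ∃ e : R ⊗[R₁] FlatOpen.Quot R₁ Z₀ ≃ₗ[R] FlatOpen.Quot R Z₀,
      ∀ (G : MvPolynomial (Fin n) R₁) (y : FlatOpen.Quot R₁ Z₀),
        e (1 ⊗ₜ (G • y)) = MvPolynomial.map (algebraMap R₁ R) G • e (1 ⊗ₜ y) := by
  let N₀ := FlatOpen.Vec n m R₀ ⧸ Z₀
  let e : R ⊗[R₁] FlatOpen.Quot R₁ Z₀ ≃ₗ[R] FlatOpen.Quot R Z₀ :=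
    ((AlgebraTensorModule.congr (LinearEquiv.refl R R) (FlatOpen.quotEquiv R₁ Z₀).symm).trans
      (AlgebraTensorModule.cancelBaseChange R₀ R₁ R R N₀)).trans (FlatOpen.quotEquiv R Z₀)
  have he : ∀ w : FlatOpen.Vec n m R₁, e (1 ⊗ₜ Submodule.Quotient.mk w) =
      Submodule.Quotient.mk (FlatOpen.mapVec (R₀ := R₁) R w) := by
    letI := MvPolynomial.algebraMvPolynomial (σ := Fin n) (R := R₁) (S := R)
    letI : Module (MvPolynomial (Fin n) R₁) (FlatOpen.Quot R Z₀) :=
      Module.compHom _ (algebraMap (MvPolynomial (Fin n) R₁) (MvPolynomial (Fin n) R))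
    haveI : IsScalarTower (MvPolynomial (Fin n) R₁) (MvPolynomial (Fin n) R) (FlatOpen.Quot R Z₀) :=
      IsScalarTower.of_algebraMap_smul fun _ _ => rfl
    obtain ⟨f, -, hf⟩ := FlatOpen.exists_isBaseChange_quot' R Z₀ R₁
    have key : ∀ z : R₁ ⊗[R₀] N₀, e (1 ⊗ₜ FlatOpen.quotEquiv R₁ Z₀ z) = f (FlatOpen.quotEquiv R₁ Z₀ z) := by
      intro z
      induction z with
      | zero => simp
      | tmul a y =>
        obtain ⟨v, rfl⟩ := Submodule.Quotient.mk_surjective _ y
        simp only [e, LinearEquiv.trans_apply, AlgebraTensorModule.congr_tmul, LinearEquiv.refl_apply,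
          LinearEquiv.symm_apply_apply, AlgebraTensorModule.cancelBaseChange_tmul]
        rw [FlatOpen.quotEquiv_tmul_mk, FlatOpen.quotEquiv_tmul_mk,
          show a • (Submodule.Quotient.mk (FlatOpen.mapVec R₁ v) : FlatOpen.Quot R₁ Z₀) =
            Submodule.Quotient.mk (a • FlatOpen.mapVec R₁ v) from rfl, hf, map_smul, FlatOpen.mapVec_trans,
          Algebra.smul_def, mul_one]
        refine (Submodule.Quotient.mk_smul _ _ _).symm.trans (congrArg _ ?_)
        rw [IsScalarTower.algebraMap_smul]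
      | add u v hu hv => simp only [map_add, TensorProduct.tmul_add, hu, hv]
    intro w
    obtain ⟨z, hz⟩ := (FlatOpen.quotEquiv R₁ Z₀).surjective (Submodule.Quotient.mk w)
    rw [← hz, key, hz, hf]
  refine ⟨e, fun G y => ?_⟩
  obtain ⟨w, rfl⟩ := Submodule.Quotient.mk_surjective _ y
  rw [← Submodule.Quotient.mk_smul, he, he, FlatOpen.mapVec_smul, Submodule.Quotient.mk_smul]

/-- Elements of a finitely presented algebra jointly regular on the fibres at the generisations of a point
are so on the fibres over a neighbourhood. -/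
theorem exists_nhd {A B : Type u} [CommRing A] [CommRing B] [Algebra A B] [Algebra.FinitePresentation A B]
    {N : Type u} [AddCommGroup N] [Module B N] [Module A N] [IsScalarTower A B N] [Module.FinitePresentation B N]
    {k : ℕ} (g : Fin k → B) (p : Ideal A) [p.IsPrime]
    (hx : ∀ (t : Ideal A) [t.IsPrime], t ≤ p → ∀ z : t.ResidueField ⊗[A] N,
      (∀ i, ((LinearMap.lsmul B N (g i)).restrictScalars A).lTensor t.ResidueField z = 0) → z = 0) :
    ∃ a ∉ p, ∀ (t : Ideal A) [t.IsPrime], a ∉ t → ∀ z : t.ResidueField ⊗[A] N,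
      (∀ i, ((LinearMap.lsmul B N (g i)).restrictScalars A).lTensor t.ResidueField z = 0) → z = 0 := by
  classical
  obtain ⟨n, m, R₀, Z₀, π, E, hR₀, hπ, hE⟩ := FlatOpen.exists_presentation_model A B N
  choose G hG using fun i => hπ (g i)
  let cs : Finset A := Finset.univ.biUnion fun i => (G i).coeffs
  let R₁ : Subalgebra ℤ A := Algebra.adjoin ℤ (((hR₀.choose : Finset A) : Set A) ∪ (cs : Set A))
  have hR₁ : R₁.FG := ⟨hR₀.choose ∪ cs, by rw [Finset.coe_union]⟩
  have hle : R₀ ≤ R₁ := by
    rw [← hR₀.choose_spec]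
    exact Algebra.adjoin_mono Set.subset_union_left
  letI : Algebra R₀ R₁ := (Subalgebra.inclusion hle).toRingHom.toAlgebra
  haveI : IsScalarTower R₀ R₁ A := IsScalarTower.of_algebraMap_eq fun _ => rfl
  haveI : Algebra.FiniteType ℤ R₁ := R₁.fg_iff_finiteType.mp hR₁
  haveI : IsNoetherianRing R₁ := Algebra.FiniteType.isNoetherianRing ℤ R₁
  have hlift : ∀ i, ∃ w : MvPolynomial (Fin n) R₁, MvPolynomial.map (algebraMap R₁ A) w = G i := fun i =>
    MvPolynomial.mem_range_map_iff_coeffs_subset.2 fun x hx =>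
      ⟨⟨x, Algebra.subset_adjoin (Or.inr (Finset.mem_biUnion.2 ⟨i, Finset.mem_univ i, hx⟩))⟩, rfl⟩
  choose G₁ hG₁ using hlift
  let ψA : Fin k → (N →ₗ[A] N) := fun i => (LinearMap.lsmul B N (g i)).restrictScalars A
  let ψ₁ : Fin k → (FlatOpen.Quot R₁ Z₀ →ₗ[R₁] FlatOpen.Quot R₁ Z₀) := fun i =>
    (LinearMap.lsmul (MvPolynomial (Fin n) R₁) (FlatOpen.Quot R₁ Z₀) (G₁ i)).restrictScalars R₁
  obtain ⟨eA, heA⟩ := exists_quot_equiv Z₀ R₁ A
  have hbc : ∀ (t : Ideal A) [t.IsPrime], JInj t.ResidueField ψA ↔ JInj t.ResidueField ψ₁ := fun t _ =>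
    jinj_iff ψ₁ ψA (eA.trans E) (fun i y => by
      simp only [LinearEquiv.trans_apply, ψ₁, ψA, LinearMap.coe_restrictScalars, LinearMap.lsmul_apply]
      rw [heA, hE, hG₁, hG]) _
  suffices H : ∀ I : Ideal R₁, ∃ a ∉ p, ∀ (t : Ideal A) [t.IsPrime], I ≤ t.comap (algebraMap R₁ A) → a ∉ t →
      JInj t.ResidueField ψ₁ by
    obtain ⟨a, ha, h⟩ := H ⊥
    exact ⟨a, ha, fun t _ ht => (hbc t).mpr (h t bot_le ht)⟩
  intro I
  refine IsNoetherian.induction (P := fun I : Ideal R₁ => ∃ a ∉ p, ∀ (t : Ideal A) [t.IsPrime],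
    I ≤ t.comap (algebraMap R₁ A) → a ∉ t → JInj t.ResidueField ψ₁) (fun (P : Ideal R₁) IH => ?_) I
  by_cases hP : Ideal.IsPrime P
  · haveI := hP
    let D := R₁ ⧸ (P : Ideal R₁)
    let PD := MvPolynomial (Fin n) D
    let MD := FlatOpen.Quot D Z₀
    let GD : Fin k → PD := fun i => MvPolynomial.map (algebraMap R₁ D) (G₁ i)
    let ψD : Fin k → (MD →ₗ[D] MD) := fun i => (LinearMap.lsmul PD MD (GD i)).restrictScalars D
    let φ : MD →ₗ[PD] (Fin k → MD) := LinearMap.pi fun i => LinearMap.lsmul PD MD (GD i)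
    obtain ⟨d₀, hd₀, hdich⟩ := dichotomy (D := D) (P := PD) φ
    obtain ⟨d, rfl⟩ := Ideal.Quotient.mk_surjective d₀
    have hdP : d ∉ P := fun h => hd₀ (Ideal.Quotient.eq_zero_iff_mem.mpr h)
    obtain ⟨a₁, ha₁, hbig⟩ := IH (P ⊔ Ideal.span {d}) (left_lt_sup.mpr fun h => hdP (h (Ideal.mem_span_singleton_self d)))
    obtain ⟨eD, heD⟩ := exists_quot_equiv Z₀ R₁ D
    have hiff : ∀ (L : Type u) [Field L] [Algebra R₁ L] [Algebra D L] [IsScalarTower R₁ D L],
        (JInj L ψ₁ ↔ Function.Injective ((φ.restrictScalars D).lTensor L)) := by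
      intro L _ _ _ _
      rw [← jinj_iff ψ₁ ψD eD (fun i y => heD (G₁ i) y) L]
      have hsum : φ.restrictScalars D = ∑ i, (LinearMap.single D (fun _ : Fin k => MD) i).comp (ψD i) := by
        refine LinearMap.ext fun v => funext fun j => ?_
        simp [φ, ψD, Finset.sum_apply, Pi.single_apply]
      have hpr : ∀ z i, (ψD i).lTensor L z =
          (LinearMap.proj (R := D) (φ := fun _ : Fin k => MD) i).lTensor L ((φ.restrictScalars D).lTensor L z) := by
        intro z i
        rw [← LinearMap.lTensor_comp_apply]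
        rfl
      constructor
      · intro h
        rw [injective_iff_map_eq_zero]
        exact fun z hz => h z fun i => by rw [hpr, hz, map_zero]
      · intro h z hz
        refine h ((?_ : (φ.restrictScalars D).lTensor L z = 0).trans (map_zero _).symm)
        rw [hsum, ← LinearMap.coe_lTensorHom, map_sum, LinearMap.sum_apply]
        exact Finset.sum_eq_zero fun i _ => by rw [LinearMap.coe_lTensorHom, LinearMap.lTensor_comp_apply, hz, map_zero]
    let alg : ∀ (t : Ideal A) [t.IsPrime], P ≤ t.comap (algebraMap R₁ A) → (D →+* t.ResidueField) := fun t _ hle' =>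
      Ideal.Quotient.lift P (algebraMap R₁ t.ResidueField) fun a ha => by
        rw [IsScalarTower.algebraMap_apply R₁ A t.ResidueField]
        exact Ideal.algebraMap_residueField_eq_zero.mpr (hle' ha)
    have hd : ∀ (t : Ideal A) [t.IsPrime] (hle' : P ≤ t.comap (algebraMap R₁ A)), algebraMap R₁ A d ∉ t →
        alg t hle' (Ideal.Quotient.mk P d) ≠ 0 := fun t _ hle' hd' h0 => hd' (Ideal.algebraMap_residueField_eq_zero.mp h0)
    have htower : ∀ (t : Ideal A) [t.IsPrime] (hle' : P ≤ t.comap (algebraMap R₁ A)),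
        letI := (alg t hle').toAlgebra
        IsScalarTower R₁ D t.ResidueField := fun t _ hle' => by
      letI := (alg t hle').toAlgebra
      exact ⟨fun a b v => by
        obtain ⟨b, rfl⟩ := Ideal.Quotient.mk_surjective b
        rw [Algebra.smul_def, Algebra.smul_def, Algebra.smul_def, ← mul_assoc]
        exact congrArg (· * v) (map_mul (algebraMap R₁ t.ResidueField) a b)⟩
    rcases hdich with hgood | hbad
    · refine ⟨a₁, ha₁, fun t _ hle' hat => ?_⟩
      by_cases hdt : algebraMap R₁ A d ∈ t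
      · exact hbig t (sup_le hle' ((Ideal.span_singleton_le_iff_mem _).mpr hdt)) hat
      · letI := (alg t hle').toAlgebra
        haveI := htower t hle'
        exact (hiff _).mpr (hgood _ (hd t hle' hdt))
    · obtain ⟨a₂, ha₂, k', hk⟩ : ∃ a₂ ∉ p, ∃ k : ℕ, a₂ * algebraMap R₁ A d ^ k ∈ P.map (algebraMap R₁ A) := by
        by_contra hc
        push Not at hc
        obtain ⟨t, ht, htle, hdisj⟩ : ∃ t : Ideal A, t.IsPrime ∧ P.map (algebraMap R₁ A) ≤ t ∧
            Disjoint (t : Set A) ((p.primeCompl ⊔ Submonoid.powers (algebraMap R₁ A d) : Submonoid A) : Set A) := by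
          refine Ideal.exists_le_prime_disjoint _ _ (Set.disjoint_left.mpr fun z hz hz' => ?_)
          obtain ⟨u, hu, w, ⟨j, rfl⟩, rfl⟩ := Submonoid.mem_sup.mp hz'
          exact hc u hu j hz
        haveI := ht
        have htp : t ≤ p := fun z hz => by
          by_contra hzp
          exact Set.disjoint_left.mp hdisj hz (Submonoid.mem_sup_left hzp)
        have hdt : algebraMap R₁ A d ∉ t := fun h =>
          Set.disjoint_left.mp hdisj h (Submonoid.mem_sup_right (Submonoid.mem_powers _))
        have hle' : P ≤ t.comap (algebraMap R₁ A) := Ideal.map_le_iff_le_comap.mp htle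
        letI := (alg t hle').toAlgebra
        haveI := htower t hle'
        exact hbad _ (hd t hle' hdt) ((hiff _).mp ((hbc t).mp (hx t htp)))
      refine ⟨a₁ * a₂, p.primeCompl.mul_mem ha₁ ha₂, fun t _ hle' hat => ?_⟩
      refine hbig t (sup_le hle' ((Ideal.span_singleton_le_iff_mem _).mpr ?_)) fun h => hat (t.mul_mem_right _ h)
      by_contra hdt
      have : a₂ * algebraMap R₁ A d ^ k' ∈ t := (Ideal.map_le_iff_le_comap.mpr hle') hk
      rcases (inferInstance : t.IsPrime).mem_or_mem this with h | h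
      · exact hat (t.mul_mem_left _ h)
      · exact hdt ((inferInstance : t.IsPrime).mem_of_pow_mem k' h)
  · by_cases htop : P = ⊤
    · exact ⟨1, fun h => (inferInstance : p.IsPrime).ne_top ((Ideal.eq_top_iff_one p).mpr h),
        fun t _ hle' _ => absurd (htop ▸ hle' : (⊤ : Ideal R₁) ≤ _) fun h =>
          Ideal.IsPrime.ne_top inferInstance (top_le_iff.mp h)⟩
    · obtain ⟨u, v, hu, hv, huv⟩ : ∃ u v, u ∉ P ∧ v ∉ P ∧ u * v ∈ P := by
        by_contra hc
        push Not at hc
        exact hP ⟨htop, fun {u v} h => or_iff_not_imp_left.mpr fun hu => by_contra fun hv => hc u v hu hv h⟩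
      obtain ⟨a₁, ha₁, h1⟩ := IH (P ⊔ Ideal.span {u}) (left_lt_sup.mpr fun h => hu (h (Ideal.mem_span_singleton_self u)))
      obtain ⟨a₂, ha₂, h2⟩ := IH (P ⊔ Ideal.span {v}) (left_lt_sup.mpr fun h => hv (h (Ideal.mem_span_singleton_self v)))
      refine ⟨a₁ * a₂, p.primeCompl.mul_mem ha₁ ha₂, fun t _ hle' hat => ?_⟩
      rcases (inferInstance : (t.comap (algebraMap R₁ A)).IsPrime).mem_or_mem (hle' huv) with h | h
      · exact h1 t (sup_le hle' ((Ideal.span_singleton_le_iff_mem _).mpr h)) fun h' => hat (t.mul_mem_right _ h')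
      · exact h2 t (sup_le hle' ((Ideal.span_singleton_le_iff_mem _).mpr h)) fun h' => hat (t.mul_mem_left _ h')

end Groth.Agent.RGFlat.InjNhd
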