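import Groth.Agent.RGFlat.InjNhd
import Mathlib.RingTheory.Spectrum.Prime.Chevalley

/-!
The locus of joint injectivity on fibres is constructible, and emptiness of constructible sets descends to
finitely generated stages.
-/

set_option autoImplicit false
set_option linter.style.haveILetI false

universe u

open TensorProduct

attribute [local instance] Algebra.TensorProduct.rightAlgebra

namespace Groth.Agent.RGFlat.JInjLocus

open InjNhd (JInj)

/-- Joint injectivity does not depend on the field. -/
theorem jinj_field_iff {R K L : Type u} [CommRing R] [Field K] [Field L] [Algebra R K] [Algebra R L] [Algebra K L]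
    [IsScalarTower R K L] {M : Type u} [AddCommGroup M] [Module R M] {k : ℕ} (ψ : Fin k → (M →ₗ[R] M)) :
    JInj L ψ ↔ JInj K ψ := by
  let c := AlgebraTensorModule.cancelBaseChange R K L L M
  let mk : K ⊗[R] M →ₗ[K] L ⊗[K] (K ⊗[R] M) := TensorProduct.mk K L (K ⊗[R] M) 1
  have hnat : ∀ (i : Fin k) (y : L ⊗[R] M),
      ((ψ i).baseChange K).lTensor L (c.symm y) = c.symm ((ψ i).lTensor L y) := fun i y => by
    induction y with
    | zero => simp
    | tmul l n => simp [c]
    | add u v hu hv => simp only [map_add, hu, hv]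
  constructor
  · intro h z hz
    have hinj : Function.Injective mk := Module.FaithfullyFlat.tensorProduct_mk_injective (B := L) (K ⊗[R] M)
    refine hinj ?_
    rw [map_zero]
    apply c.injective
    rw [map_zero]
    refine h _ fun i => c.symm.injective ?_
    rw [← hnat, c.symm_apply_apply, map_zero]
    show ((ψ i).baseChange K).lTensor L ((1 : L) ⊗ₜ[K] z) = 0
    rw [LinearMap.lTensor_tmul]
    exact (congrArg ((1 : L) ⊗ₜ[K] ·) (hz i)).trans (TensorProduct.tmul_zero _ _)
  · intro h z hz
    let W : K ⊗[R] M →ₗ[K] (Fin k → K ⊗[R] M) := LinearMap.pi fun i => (ψ i).baseChange K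
    have hW : Function.Injective W := by
      rw [injective_iff_map_eq_zero]
      exact fun w hw => h w fun i => congrFun hw i
    apply c.symm.injective
    rw [map_zero]
    apply Module.Flat.lTensor_preserves_injective_linearMap (M := L) W hW
    rw [map_zero]
    apply (TensorProduct.piRight K K L (fun _ : Fin k => K ⊗[R] M)).injective
    funext j
    rw [map_zero, Pi.zero_apply]
    have : ∀ w : L ⊗[K] (K ⊗[R] M), TensorProduct.piRight K K L (fun _ : Fin k => K ⊗[R] M) (W.lTensor L w) j =
        ((ψ j).baseChange K).lTensor L w := fun w => by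
      induction w with
      | zero => simp
      | tmul l n => simp [W]
      | add u v hu hv => simp only [map_add, Pi.add_apply, hu, hv]
    rw [this, hnat, hz, map_zero]

/-- Over a Noetherian base, the joint injectivity locus is constructible. -/
theorem isConstructible_jinj {R P : Type u} [CommRing R] [IsNoetherianRing R] [CommRing P] [Algebra R P]
    [Algebra.FiniteType R P] (M : Type u) [AddCommGroup M] [Module P M] [Module R M] [IsScalarTower R P M]
    [Module.Finite P M] {k : ℕ} (g : Fin k → P) :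
    Topology.IsConstructible {t : PrimeSpectrum R |
      JInj t.asIdeal.ResidueField fun i => (LinearMap.lsmul P M (g i)).restrictScalars R} := by
  classical
  let ψ : Fin k → (M →ₗ[R] M) := fun i => (LinearMap.lsmul P M (g i)).restrictScalars R
  let E : Set (PrimeSpectrum R) := {t | JInj t.asIdeal.ResidueField ψ}
  show Topology.IsConstructible E
  suffices H : ∀ I : Ideal R, Topology.IsConstructible (E ∩ PrimeSpectrum.zeroLocus (I : Set R)) by
    have h0 := H ⊥
    rwa [PrimeSpectrum.zeroLocus_bot, Set.inter_univ] at h0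
  intro I
  refine IsNoetherian.induction (P := fun I : Ideal R =>
    Topology.IsConstructible (E ∩ PrimeSpectrum.zeroLocus (I : Set R))) (fun (I : Ideal R) IH => ?_) I
  by_cases hP : I.IsPrime
  · haveI := hP
    let D := R ⧸ I
    let PD := D ⊗[R] P
    haveI : IsScalarTower R P PD := IsScalarTower.of_algebraMap_eq fun x => by
      show algebraMap R D x ⊗ₜ[R] (1 : P) = (1 : D) ⊗ₜ[R] algebraMap R P x
      rw [Algebra.algebraMap_eq_smul_one, Algebra.algebraMap_eq_smul_one, TensorProduct.smul_tmul]
    haveI : Algebra.IsPushout R D P PD := inferInstance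
    let MD := PD ⊗[P] M
    let gD : Fin k → PD := fun i => algebraMap P PD (g i)
    let ψD : Fin k → (MD →ₗ[D] MD) := fun i => (LinearMap.lsmul PD MD (gD i)).restrictScalars D
    let φ : MD →ₗ[PD] (Fin k → MD) := LinearMap.pi fun i => LinearMap.lsmul PD MD (gD i)
    let e : MD ≃ₗ[D] D ⊗[R] M := Algebra.IsPushout.cancelBaseChange R D P PD M
    have he : ∀ i y, e.symm (1 ⊗ₜ ψ i y) = ψD i (e.symm (1 ⊗ₜ y)) := fun i y => by
      simp only [e, ψ, ψD, gD, Algebra.IsPushout.cancelBaseChange_symm_tmul, LinearMap.coe_restrictScalars,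
        LinearMap.lsmul_apply, TensorProduct.tmul_smul, algebraMap_smul]
      rw [Algebra.IsPushout.cancelBaseChange_symm_tmul, Algebra.IsPushout.cancelBaseChange_symm_tmul,
        TensorProduct.tmul_smul]
    obtain ⟨d₀, hd₀, hdich⟩ := InjNhd.dichotomy (D := D) (P := PD) (M := MD) (M' := Fin k → MD) φ
    obtain ⟨d, rfl⟩ := Ideal.Quotient.mk_surjective d₀
    have hdI : d ∉ I := fun h => hd₀ (Ideal.Quotient.eq_zero_iff_mem.mpr h)
    have hIH := IH (I ⊔ Ideal.span {d}) (left_lt_sup.mpr fun h => hdI (h (Ideal.mem_span_singleton_self d)))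
    let U : Set (PrimeSpectrum R) :=
      PrimeSpectrum.zeroLocus (I : Set R) \ PrimeSpectrum.zeroLocus (Ideal.span {d} : Set R)
    have hU : Topology.IsConstructible U := by
      refine Topology.IsConstructible.sdiff ?_ ?_ <;> rw [← Topology.isConstructible_compl]
      · exact (PrimeSpectrum.isRetrocompact_zeroLocus_compl_of_fg (IsNoetherian.noetherian I)).isConstructible
          (PrimeSpectrum.isClosed_zeroLocus _).isOpen_compl
      · exact (PrimeSpectrum.isRetrocompact_zeroLocus_compl_of_fg (IsNoetherian.noetherian _)).isConstructible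
          (PrimeSpectrum.isClosed_zeroLocus _).isOpen_compl
    have hsplit : E ∩ PrimeSpectrum.zeroLocus (I : Set R) =
        (E ∩ PrimeSpectrum.zeroLocus ((I ⊔ Ideal.span {d} : Ideal R) : Set R)) ∪ (E ∩ U) := by
      rw [PrimeSpectrum.zeroLocus_sup, ← Set.inter_union_distrib_left, Set.inter_union_sdiff]
    rw [hsplit]
    refine hIH.union ?_
    have hkey : ∀ t ∈ U, (t ∈ E ↔
        ∃ (L : Type u) (_ : Field L) (_ : Algebra D L), algebraMap D L (Ideal.Quotient.mk I d) ≠ 0 ∧
          Function.Injective ((φ.restrictScalars D).lTensor L)) ∧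
        ∃ (L : Type u) (_ : Field L) (_ : Algebra D L), algebraMap D L (Ideal.Quotient.mk I d) ≠ 0 ∧
          (t ∈ E ↔ Function.Injective ((φ.restrictScalars D).lTensor L)) := by
      rintro t ⟨hIt, hdt⟩
      let L := t.asIdeal.ResidueField
      letI : Algebra D L := (Ideal.Quotient.lift I (algebraMap R L) fun x hx =>
        Ideal.algebraMap_residueField_eq_zero.mpr (hIt hx)).toAlgebra
      haveI : IsScalarTower R D L := IsScalarTower.of_algebraMap_eq fun _ => rfl
      have hd : algebraMap D L (Ideal.Quotient.mk I d) ≠ 0 := fun h => hdt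
        ((Ideal.span_singleton_le_iff_mem _).mpr (Ideal.algebraMap_residueField_eq_zero.mp h))
      have hiff : t ∈ E ↔ Function.Injective ((φ.restrictScalars D).lTensor L) := by
        show JInj L ψ ↔ _
        rw [← InjNhd.jinj_iff (R₁ := R) (R := D) (M₁ := M) (M := MD) ψ ψD e.symm he L]
        have hsum : φ.restrictScalars D = ∑ i, (LinearMap.single D (fun _ : Fin k => MD) i).comp (ψD i) := by
          refine LinearMap.ext fun v => funext fun j => ?_
          simp [φ, ψD, Finset.sum_apply, Pi.single_apply]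
        have hpr : ∀ z i, (ψD i).lTensor L z =
            (LinearMap.proj (R := D) (φ := fun _ : Fin k => MD) i).lTensor L ((φ.restrictScalars D).lTensor L z) := by
          intro z i
          rw [← LinearMap.lTensor_comp_apply]
          rfl
        constructor
        · intro h
          rw [injective_iff_map_eq_zero]
          exact fun z hz => h z fun i => by rw [hpr, hz, map_zero]
        · intro h z hz
          refine h ((?_ : (φ.restrictScalars D).lTensor L z = 0).trans (map_zero _).symm)
          rw [hsum, ← LinearMap.coe_lTensorHom, map_sum, LinearMap.sum_apply]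
          exact Finset.sum_eq_zero fun i _ => by
            rw [LinearMap.coe_lTensorHom, LinearMap.lTensor_comp_apply, hz, map_zero]
      refine ⟨⟨fun h => ⟨L, inferInstance, inferInstance, hd, hiff.mp h⟩, fun ⟨L', _, _, hd', h'⟩ => hiff.mpr ?_⟩,
        L, inferInstance, inferInstance, hd, hiff⟩
      rcases hdich with hgood | hbad
      · exact hgood L hd
      · exact absurd h' (hbad L' hd')
    rcases hdich with hgood | hbad
    · rw [show E ∩ U = U from Set.inter_eq_right.mpr fun t ht => by
        obtain ⟨-, L, _, _, hd, hiff⟩ := hkey t ht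
        exact hiff.mpr (hgood L hd)]
      exact hU
    · rw [show E ∩ U = ∅ from Set.eq_empty_of_forall_notMem fun t ⟨htE, ht⟩ => by
        obtain ⟨-, L, _, _, hd, hiff⟩ := hkey t ht
        exact hbad L hd (hiff.mp htE)]
      exact Topology.IsConstructible.empty
  · by_cases htop : I = ⊤
    · subst htop
      rw [Submodule.top_coe, PrimeSpectrum.zeroLocus_univ, Set.inter_empty]
      exact Topology.IsConstructible.empty
    · obtain ⟨u, v, hu, hv, huv⟩ : ∃ u v, u ∉ I ∧ v ∉ I ∧ u * v ∈ I := by
        by_contra hc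
        push Not at hc
        exact hP ⟨htop, fun {u v} h => or_iff_not_imp_left.mpr fun hu => by_contra fun hv => hc u v hu hv h⟩
      have h1 := IH (I ⊔ Ideal.span {u}) (left_lt_sup.mpr fun h => hu (h (Ideal.mem_span_singleton_self u)))
      have h2 := IH (I ⊔ Ideal.span {v}) (left_lt_sup.mpr fun h => hv (h (Ideal.mem_span_singleton_self v)))
      convert h1.union h2 using 1
      rw [← Set.inter_union_distrib_left, PrimeSpectrum.zeroLocus_sup, PrimeSpectrum.zeroLocus_sup,
        ← Set.inter_union_distrib_left]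
      refine congrArg (E ∩ ·) (Set.inter_eq_left.mpr fun t ht => ?_).symm
      rcases t.isPrime.mem_or_mem (ht huv) with h | h
      · exact Or.inl ((Ideal.span_singleton_le_iff_mem _).mpr h)
      · exact Or.inr ((Ideal.span_singleton_le_iff_mem _).mpr h)

/-- A constructible set with empty preimage has empty preimage in every subring containing finitely many
given elements. -/
theorem exists_finset_preimage_empty {R A : Type u} [CommRing R] [CommRing A] [Algebra R A]
    {s : Set (PrimeSpectrum R)} (hs : Topology.IsConstructible s)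
    (h : PrimeSpectrum.comap (algebraMap R A) ⁻¹' s = ∅) :
    ∃ T : Finset A, ∀ (R₂ : Type u) [CommRing R₂] [Algebra R R₂] [Algebra R₂ A] [IsScalarTower R R₂ A],
      Function.Injective (algebraMap R₂ A) → (∀ x ∈ T, x ∈ Set.range (algebraMap R₂ A)) →
        PrimeSpectrum.comap (algebraMap R R₂) ⁻¹' s = ∅ := by
  classical
  obtain ⟨S, rfl⟩ := PrimeSpectrum.exists_constructibleSetData_iff.mpr hs
  have hC : ∀ C ∈ S, ∃ (k : ℕ) (c : Fin C.n → A), algebraMap R A C.f ^ k = ∑ l, c l * algebraMap R A (C.g l) := by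
    intro C hC
    have hle : algebraMap R A C.f ∈ (Ideal.span (Set.range fun l => algebraMap R A (C.g l))).radical := by
      rw [← PrimeSpectrum.vanishingIdeal_zeroLocus_eq_radical, PrimeSpectrum.mem_vanishingIdeal]
      intro x hx
      by_contra hf
      refine (Set.eq_empty_iff_forall_notMem.mp h x) ?_
      simp only [Set.mem_preimage, PrimeSpectrum.ConstructibleSetData.toSet, Set.mem_iUnion₂]
      refine ⟨C, hC, ?_, ?_⟩
      · rintro _ ⟨l, rfl⟩
        exact hx (Ideal.subset_span ⟨l, rfl⟩)
      · exact fun hx' => hf (hx' rfl)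
    obtain ⟨k, hk⟩ := hle
    obtain ⟨c, hc⟩ := (Submodule.mem_span_range_iff_exists_fun A).mp hk
    exact ⟨k, c, hc.symm⟩
  choose k c hc using hC
  refine ⟨S.attach.biUnion fun C => Finset.univ.image (c C.1 C.2), fun R₂ _ _ _ _ hinj hT => ?_⟩
  refine Set.eq_empty_iff_forall_notMem.mpr fun x hx => ?_
  simp only [Set.mem_preimage, PrimeSpectrum.ConstructibleSetData.toSet, Set.mem_iUnion₂] at hx
  obtain ⟨C, hC, hg, hf⟩ := hx
  choose d hd using fun l => hT (c C hC l)
    (Finset.mem_biUnion.mpr ⟨⟨C, hC⟩, Finset.mem_attach _ _, Finset.mem_image_of_mem _ (Finset.mem_univ l)⟩)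
  refine hf (Set.singleton_subset_iff.mpr (show algebraMap R R₂ C.f ∈ x.asIdeal from
    x.isPrime.mem_of_pow_mem (k C hC) ?_))
  have : algebraMap R R₂ C.f ^ k C hC = ∑ l, d l * algebraMap R R₂ (C.g l) := hinj (by
    simp only [map_pow, map_sum, map_mul, hd, ← IsScalarTower.algebraMap_apply]
    exact hc C hC)
  rw [this]
  exact Ideal.sum_mem _ fun l _ => Ideal.mul_mem_left _ _ (hg ⟨l, rfl⟩)

/-- A point condition which holds over a basic open of a base change holds over a basic open at a finitely
generated stage. -/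
theorem exists_finset_disjoint {R A A₁ : Type u} [CommRing R] [CommRing A] [CommRing A₁] [Algebra R A]
    [Algebra R A₁] [Algebra.FinitePresentation R A₁] {E : Set (PrimeSpectrum A₁)} (hE : Topology.IsConstructible E)
    (a : A ⊗[R] A₁)
    (h : ∀ t : PrimeSpectrum (A ⊗[R] A₁), a ∉ t.asIdeal →
      PrimeSpectrum.comap (algebraMap A₁ (A ⊗[R] A₁)) t ∉ E) :
    ∃ T : Finset A, ∀ (R₂ : Type u) [CommRing R₂] [Algebra R R₂] [Algebra R₂ A] [IsScalarTower R R₂ A],
      Function.Injective (algebraMap R₂ A) → (∀ x ∈ T, x ∈ Set.range (algebraMap R₂ A)) →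
        ∃ a₂ : R₂ ⊗[R] A₁, Algebra.TensorProduct.map (IsScalarTower.toAlgHom R R₂ A) (AlgHom.id R A₁) a₂ = a ∧
          ∀ t : PrimeSpectrum (R₂ ⊗[R] A₁), a₂ ∉ t.asIdeal →
            PrimeSpectrum.comap (algebraMap A₁ (R₂ ⊗[R] A₁)) t ∉ E := by
  classical
  obtain ⟨S, hS⟩ := TensorProduct.exists_finset a
  let R' : Subalgebra R A := Algebra.adjoin R (S.image Prod.fst : Set A)
  let A' := R' ⊗[R] A₁
  let θ : A' →ₐ[R] A ⊗[R] A₁ := Algebra.TensorProduct.map R'.val (AlgHom.id R A₁)
  let a' : A' := ∑ i ∈ S.attach, (⟨i.1.1, Algebra.subset_adjoin (by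
    rw [Finset.coe_image]; exact ⟨i.1, i.2, rfl⟩)⟩ : R') ⊗ₜ[R] i.1.2
  have ha' : θ a' = a := by
    rw [map_sum, hS, ← Finset.sum_attach S]
    exact Finset.sum_congr rfl fun i _ => rfl
  let E' : Set (PrimeSpectrum A') :=
    PrimeSpectrum.comap (algebraMap A₁ A') ⁻¹' E ∩ (PrimeSpectrum.basicOpen a' : Set (PrimeSpectrum A'))
  have hE' : Topology.IsConstructible E' := by
    refine Topology.IsConstructible.inter ?_ ?_
    · obtain ⟨C, rfl⟩ := PrimeSpectrum.exists_constructibleSetData_iff.mpr hE
      rw [← PrimeSpectrum.ConstructibleSetData.toSet_map]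
      exact PrimeSpectrum.ConstructibleSetData.isConstructible_toSet _
    · exact (PrimeSpectrum.isRetrocompact_basicOpen).isConstructible (PrimeSpectrum.basicOpen a').isOpen
  have hfp : (algebraMap R' A').FinitePresentation :=
    RingHom.finitePresentation_algebraMap.mpr inferInstance
  have hM := PrimeSpectrum.isConstructible_comap_image hfp hE'
  obtain ⟨T, hT⟩ := exists_finset_preimage_empty (A := A) hM (by
    refine Set.eq_empty_iff_forall_notMem.mpr fun x hx => ?_
    obtain ⟨e, ⟨heE, hea⟩, hex⟩ := hx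
    letI : Algebra A' (A ⊗[R] A₁) := θ.toRingHom.toAlgebra
    haveI : IsScalarTower R' A' (A ⊗[R] A₁) := IsScalarTower.of_algebraMap_eq fun r => by
      show _ = θ (r ⊗ₜ 1)
      rw [Algebra.TensorProduct.map_tmul]
      rfl
    haveI : IsScalarTower R A' (A ⊗[R] A₁) := IsScalarTower.of_algebraMap_eq' θ.comp_algebraMap.symm
    haveI : IsScalarTower A₁ A' (A ⊗[R] A₁) := IsScalarTower.of_algebraMap_eq fun r => by
      show _ = θ (1 ⊗ₜ r)
      rw [Algebra.TensorProduct.map_tmul, map_one]
      rfl
    haveI : Algebra.IsPushout R R' A₁ A' := inferInstance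
    haveI : Algebra.IsPushout R A A₁ (A ⊗[R] A₁) := inferInstance
    haveI : Algebra.IsPushout R A₁ A (A ⊗[R] A₁) := Algebra.IsPushout.symm inferInstance
    haveI : Algebra.IsPushout R A₁ R' A' := Algebra.IsPushout.symm inferInstance
    haveI : Algebra.IsPushout R' A' A (A ⊗[R] A₁) := Algebra.IsPushout.symm
      ((Algebra.IsPushout.comp_iff (R := R) (S := R') (R' := A₁) (S' := A') (T := A) (T' := A ⊗[R] A₁)).mp inferInstance)
    obtain ⟨z, hz, hzA', -⟩ := FlatMor.FlatAtBC.exists_prime_of_pushout (R := R') (S := A') (R' := A)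
      (S' := A ⊗[R] A₁) (e.asIdeal.comap (algebraMap R' A')) e.asIdeal x.asIdeal rfl
      (congrArg PrimeSpectrum.asIdeal hex).symm
    refine h ⟨z, hz⟩ (fun hm => hea (show a' ∈ e.asIdeal from hzA' ▸ (show θ a' ∈ z from ha' ▸ hm))) ?_
    suffices hcm : PrimeSpectrum.comap (algebraMap A₁ (A ⊗[R] A₁)) ⟨z, hz⟩ = PrimeSpectrum.comap (algebraMap A₁ A') e by
      rw [hcm]
      exact heE
    refine PrimeSpectrum.ext ?_
    show z.comap (algebraMap A₁ (A ⊗[R] A₁)) = e.asIdeal.comap (algebraMap A₁ A')
    rw [IsScalarTower.algebraMap_eq A₁ A' (A ⊗[R] A₁), ← Ideal.comap_comap, hzA'])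
  refine ⟨T ∪ S.image Prod.fst, fun R₂ _ _ _ _ hinj hR₂ => ?_⟩
  let ι := IsScalarTower.toAlgHom R R₂ A
  have hle : R' ≤ ι.range := Algebra.adjoin_le fun x hx =>
    hR₂ x (Finset.mem_union_right _ (Finset.mem_coe.mp hx))
  let r : R' →ₐ[R] R₂ := (AlgEquiv.ofInjective ι hinj).symm.toAlgHom.comp (Subalgebra.inclusion hle)
  have hr : ι.comp r = R'.val := AlgHom.ext fun x =>
    congrArg Subtype.val ((AlgEquiv.ofInjective ι hinj).apply_symm_apply (Subalgebra.inclusion hle x))
  letI : Algebra R' R₂ := r.toRingHom.toAlgebra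
  haveI : IsScalarTower R' R₂ A := IsScalarTower.of_algebraMap_eq fun x => (AlgHom.congr_fun hr x).symm
  have hempty := hT R₂ hinj fun x hx => hR₂ x (Finset.mem_union_left _ hx)
  let θ₂ : A' →ₐ[R] R₂ ⊗[R] A₁ := Algebra.TensorProduct.map r (AlgHom.id R A₁)
  refine ⟨θ₂ a', ?_, fun t ht htE => ?_⟩
  · rw [← ha', ← AlgHom.comp_apply, ← Algebra.TensorProduct.map_comp, hr, AlgHom.id_comp]
  · refine Set.eq_empty_iff_forall_notMem.mp hempty (PrimeSpectrum.comap (algebraMap R₂ (R₂ ⊗[R] A₁)) t) ?_
    refine ⟨PrimeSpectrum.comap θ₂.toRingHom t, ⟨?_, ht⟩, ?_⟩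
    · have : θ₂.toRingHom.comp (algebraMap A₁ A') = algebraMap A₁ (R₂ ⊗[R] A₁) := RingHom.ext fun x => by
        show θ₂ (1 ⊗ₜ x) = 1 ⊗ₜ x
        rw [Algebra.TensorProduct.map_tmul, map_one]
        rfl
      show PrimeSpectrum.comap (algebraMap A₁ A') (PrimeSpectrum.comap θ₂.toRingHom t) ∈ E
      rw [← PrimeSpectrum.comap_comp_apply, this]
      exact htE
    · rw [← PrimeSpectrum.comap_comp_apply, ← PrimeSpectrum.comap_comp_apply]
      congr 1

end Groth.Agent.RGFlat.JInjLocus
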