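import Mathlib.RingTheory.MvPowerSeries.Equiv
import Mathlib.RingTheory.MvPowerSeries.NoZeroDivisors
import Mathlib.RingTheory.Etale.Basic
import Mathlib.RingTheory.Smooth.NoetherianDescent
import Mathlib.RingTheory.Filtration
import Mathlib.RingTheory.LocalRing.MaximalIdeal.Basic
import Mathlib.RingTheory.Localization.AtPrime.Basic
import Mathlib.RingTheory.FinitePresentation

/-!
Power series expansion along a section of an étale algebra over a polynomial ring.
-/

set_option autoImplicit false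

universe u

open MvPolynomial Finsupp

namespace Groth.Agent.RGFlat

variable {n : ℕ}

local notation "J" => MvPolynomial.idealOfVars (Fin n)

theorem sub_C_mem (R : Type u) [CommRing R] (p : MvPolynomial (Fin n) R) :
    p - C (MvPolynomial.constantCoeff p) ∈ J R := by
  rw [← pow_one (J R), mem_pow_idealOfVars_iff']
  intro x hx
  have : x = 0 := (Finsupp.degree_eq_zero_iff x).mp (by omega)
  subst this
  simp [constantCoeff_eq]

/-- Truncation modulo the `k`-th power of the variables. -/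
noncomputable def trunc (R : Type u) [CommRing R] (k : ℕ) :
    MvPowerSeries (Fin n) R →ₐ[MvPolynomial (Fin n) R] MvPolynomial (Fin n) R ⧸ J R ^ k :=
  MvPowerSeries.truncTotalAlgHom (Fin n) R k

theorem coeff_eq_of_trunc_eq (R : Type u) [CommRing R] {k : ℕ} {s t : MvPowerSeries (Fin n) R}
    (h : trunc R k s = trunc R k t) {x : Fin n →₀ ℕ} (hx : degree x < k) :
    MvPowerSeries.coeff x s = MvPowerSeries.coeff x t := by
  have h' := (mem_pow_idealOfVars_iff' k _).mp (Ideal.Quotient.eq.mp h) x hx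
  rwa [coeff_sub, MvPowerSeries.coeff_truncTotal _ hx, MvPowerSeries.coeff_truncTotal _ hx, sub_eq_zero] at h'

theorem trunc_sub_C (R : Type u) [CommRing R] (k : ℕ) (s : MvPowerSeries (Fin n) R) :
    trunc R (k + 1) s - Ideal.Quotient.mk _ (C (MvPowerSeries.constantCoeff s)) ∈
      (J R).map (Ideal.Quotient.mk (J R ^ (k + 1))) := by
  show Ideal.Quotient.mk _ (MvPowerSeries.truncTotal (k + 1) s) - _ ∈ _
  rw [← map_sub]
  refine Ideal.mem_map_of_mem _ ?_
  convert sub_C_mem R (MvPowerSeries.truncTotal (k + 1) s) using 3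
  rw [constantCoeff_eq, MvPowerSeries.coeff_truncTotal _ (by simp)]
  rfl

theorem isNilpotent_map_J (R : Type u) [CommRing R] (k : ℕ) :
    IsNilpotent ((J R).map (Ideal.Quotient.mk (J R ^ k))) :=
  ⟨k, by rw [← Ideal.map_pow, Ideal.map_quotient_self]; rfl⟩

/-- Expansions are determined by their constant terms. -/
theorem series_unique {B : Type u} [CommRing B] {P E : Type u} [CommRing P] [CommRing E] [Algebra P E]
    [Algebra.FormallyUnramified P E] (g₁ g₂ : E →+* MvPowerSeries (Fin n) B)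
    (hP : ∀ p, g₁ (algebraMap P E p) = g₂ (algebraMap P E p))
    (hc : ∀ e, MvPowerSeries.constantCoeff (g₁ e) = MvPowerSeries.constantCoeff (g₂ e)) : g₁ = g₂ := by
  refine RingHom.ext fun e => MvPowerSeries.ext fun x => ?_
  refine coeff_eq_of_trunc_eq B (k := degree x + 1) ?_ (Nat.lt_succ_self _)
  let t := (trunc (n := n) B (degree x + 1)).toRingHom
  letI := ((t.comp g₁).comp (algebraMap P E)).toAlgebra
  let G₁ : E →ₐ[P] _ := ⟨t.comp g₁, fun p => rfl⟩
  let G₂ : E →ₐ[P] _ := ⟨t.comp g₂, fun p => congrArg t (hP p).symm⟩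
  refine AlgHom.congr_fun (Algebra.FormallyUnramified.lift_unique _ (isNilpotent_map_J B (degree x + 1)) G₁ G₂
    (AlgHom.ext fun e => Ideal.Quotient.eq.mpr ?_)) e
  show trunc B (degree x + 1) (g₁ e) - trunc B (degree x + 1) (g₂ e) ∈ _
  have h1 := sub_mem (trunc_sub_C B (degree x) (g₁ e)) (trunc_sub_C B (degree x) (g₂ e))
  rwa [hc e, sub_sub_sub_cancel_right] at h1

/-- Expansions exist. -/
theorem exists_series {A : Type u} [CommRing A] {E : Type u} [CommRing E] [Algebra (MvPolynomial (Fin n) A) E]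
    [Algebra.FormallyEtale (MvPolynomial (Fin n) A) E] (ε : E →+* A)
    (hε : ∀ p : MvPolynomial (Fin n) A, ε (algebraMap _ E p) = MvPolynomial.constantCoeff p) :
    ∃ ι : E →ₐ[MvPolynomial (Fin n) A] MvPowerSeries (Fin n) A,
      ∀ e, MvPowerSeries.constantCoeff (ι e) = ε e := by
  let P := MvPolynomial (Fin n) A
  let σ : E →ₐ[P] P ⧸ J A :=
    { toRingHom := (Ideal.Quotient.mk (J A)).comp (C.comp ε)
      commutes' := fun p => by
        show Ideal.Quotient.mk (J A) (C (ε (algebraMap _ E p))) = Ideal.Quotient.mk (J A) p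
        rw [hε, Ideal.Quotient.eq, ← neg_sub]
        exact neg_mem (sub_C_mem A p) }
  let π : ∀ k, P ⧸ J A ^ (k + 1) →ₐ[P] P ⧸ J A := fun k =>
    Ideal.Quotient.factorₐ P (Ideal.pow_le_self (Nat.succ_ne_zero k))
  have hπ : ∀ k, IsNilpotent (RingHom.ker (π k : P ⧸ J A ^ (k + 1) →+* P ⧸ J A)) := fun k => by
    obtain ⟨N, hN⟩ := isNilpotent_map_J (n := n) A (k + 1)
    refine ⟨N, le_antisymm (le_trans (Ideal.pow_right_mono (fun z hz => ?_) N) hN.le) bot_le⟩
    obtain ⟨z, rfl⟩ := Ideal.Quotient.mk_surjective z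
    exact Ideal.mem_map_of_mem _ (Ideal.Quotient.eq_zero_iff_mem.mp hz)
  have hex : ∀ k, ∃ f : E →ₐ[P] P ⧸ J A ^ (k + 1), (π k).comp f = σ := fun k =>
    ⟨Algebra.FormallySmooth.liftOfSurjective σ (π k)
      (Ideal.Quotient.factor_surjective (Ideal.pow_le_self (Nat.succ_ne_zero k))) (hπ k),
      Algebra.FormallySmooth.comp_liftOfSurjective _ _ _ _⟩
  choose f hf using hex
  have hcomp : ∀ {l k : ℕ} (h : l ≤ k),
      (Ideal.Quotient.factorₐ P (Ideal.pow_le_pow_right (Nat.succ_le_succ h))).comp (f k) = f l := by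
    intro l k h
    refine Algebra.FormallyUnramified.lift_unique' (π l) (hπ l) _ _ ?_
    rw [← AlgHom.comp_assoc, show (π l).comp (Ideal.Quotient.factorₐ P (Ideal.pow_le_pow_right (Nat.succ_le_succ h))) = π k from
      Ideal.Quotient.algHom_ext _ (AlgHom.ext fun p => rfl), hf, hf]
  let F : ∀ k, E →ₐ[P] P ⧸ J A ^ k := fun k =>
    (Ideal.Quotient.factorₐ P (Ideal.pow_le_pow_right (Nat.le_succ k))).comp (f k)
  let L := AdicCompletion.liftAlgHom (J A) F fun {l k} h => by
    refine AlgHom.ext fun e => ?_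
    simp only [AlgHom.comp_apply, F, ← hcomp h]
    obtain ⟨z, hz⟩ := Ideal.Quotient.mk_surjective (f k e)
    simp [← hz]
  let ι : E →ₐ[P] MvPowerSeries (Fin n) A :=
    (MvPowerSeries.toAdicCompletionAlgEquiv (Fin n) A).symm.toAlgHom.comp L
  refine ⟨ι, fun e => ?_⟩
  have h1 : AdicCompletion.evalₐ (J A) 1 (MvPowerSeries.toAdicCompletionAlgEquiv (Fin n) A (ι e)) = F 1 e := by
    show AdicCompletion.evalₐ (J A) 1 (MvPowerSeries.toAdicCompletionAlgEquiv (Fin n) A
      ((MvPowerSeries.toAdicCompletionAlgEquiv (Fin n) A).symm (L e))) = _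
    rw [AlgEquiv.apply_symm_apply, AdicCompletion.evalₐ_liftAlgHom]
  have h2 : trunc A 1 (ι e) = Ideal.Quotient.mk _ (C (ε e)) := by
    refine Eq.trans ?_ (h1.trans ?_)
    · show _ = AdicCompletion.evalₐ (J A) 1 _
      simp only [MvPowerSeries.toAdicCompletionAlgEquiv, trunc]
      rfl
    · have h3 := AlgHom.congr_fun (hf 0) e
      obtain ⟨z, hz⟩ := Ideal.Quotient.mk_surjective (f 1 e)
      have h4 := AlgHom.congr_fun (hf 1) e
      simp only [AlgHom.comp_apply, π, F, Ideal.Quotient.factorₐ_apply, ← hz, Ideal.Quotient.factor_mk] at h4 ⊢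
      rw [Ideal.Quotient.eq, pow_one]
      exact Ideal.Quotient.eq.mp h4
  have h5 := (mem_pow_idealOfVars_iff' 1 _).mp (Ideal.Quotient.eq.mp h2) 0 (by simp)
  rw [coeff_sub, MvPowerSeries.coeff_truncTotal _ (by simp), coeff_zero_C, sub_eq_zero] at h5
  exact h5

section Kernel

variable {A : Type u} [CommRing A] {E : Type u} [CommRing E] [Algebra A E]
  [Algebra (MvPolynomial (Fin n) A) E] [IsScalarTower A (MvPolynomial (Fin n) A) E]
  [Algebra.FormallyUnramified (MvPolynomial (Fin n) A) E] (ε : E →ₐ[A] A)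
  (hX : ∀ i, ε (algebraMap _ E (X i : MvPolynomial (Fin n) A)) = 0)

include hX in
theorem eval_algebraMap (p : MvPolynomial (Fin n) A) : ε (algebraMap _ E p) = constantCoeff p := by
  have h : ε.comp (IsScalarTower.toAlgHom A (MvPolynomial (Fin n) A) E) = MvPolynomial.aeval (fun _ => (0 : A)) :=
    MvPolynomial.algHom_ext fun i => by simp [hX i]
  have h' := AlgHom.congr_fun h p
  simp only [AlgHom.comp_apply, IsScalarTower.coe_toAlgHom'] at h'
  rw [h', MvPolynomial.aeval_zero', Algebra.algebraMap_self, RingHom.id_apply]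

include hX in
theorem ker_le : RingHom.ker ε ≤ (J A).map (algebraMap _ E) ⊔ RingHom.ker ε ^ 2 := by
  intro e he
  set I := RingHom.ker ε
  set K := (J A).map (algebraMap (MvPolynomial (Fin n) A) E) ⊔ I ^ 2
  let g₁ : E →ₐ[MvPolynomial (Fin n) A] E ⧸ K := Ideal.Quotient.mkₐ _ K
  let g₂ : E →ₐ[MvPolynomial (Fin n) A] E ⧸ K :=
    { toRingHom := (Ideal.Quotient.mk K).comp ((algebraMap A E).comp (ε : E →+* A))
      commutes' := fun p => by
        show Ideal.Quotient.mk K (algebraMap A E (ε (algebraMap _ E p))) = Ideal.Quotient.mk K (algebraMap _ E p)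
        rw [eval_algebraMap ε hX, IsScalarTower.algebraMap_apply A (MvPolynomial (Fin n) A) E, Ideal.Quotient.eq,
          ← map_sub, MvPolynomial.algebraMap_eq, ← neg_sub, map_neg]
        exact neg_mem (Ideal.mem_sup_left (Ideal.mem_map_of_mem _ (sub_C_mem A p))) }
  have h := Algebra.FormallyUnramified.lift_unique (I.map (Ideal.Quotient.mk K)) ⟨2, by
      rw [← Ideal.map_pow]
      exact (Ideal.map_eq_bot_iff_le_ker _).mpr (le_trans le_sup_right (Ideal.mk_ker (I := K)).ge)⟩ g₁ g₂
    (AlgHom.ext fun z => Ideal.Quotient.eq.mpr (by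
      show Ideal.Quotient.mk K z - Ideal.Quotient.mk K (algebraMap A E (ε z)) ∈ _
      rw [← map_sub]
      refine Ideal.mem_map_of_mem _ ?_
      rw [RingHom.mem_ker, map_sub, AlgHom.commutes, Algebra.algebraMap_self, RingHom.id_apply, sub_self]))
  have h' := AlgHom.congr_fun h e
  refine Ideal.Quotient.eq_zero_iff_mem.mp (h'.trans ?_)
  show Ideal.Quotient.mk K (algebraMap A E (ε e)) = 0
  rw [show ε e = 0 from he, map_zero, map_zero]

variable {L : Type u} [CommRing L] [IsLocalRing L] [Algebra E L]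

include hX in
theorem map_ker_le (hfg : (RingHom.ker ε).FG) (hL : (RingHom.ker ε).map (algebraMap E L) ≤ IsLocalRing.maximalIdeal L) :
    (RingHom.ker ε).map (algebraMap E L) ≤ ((J A).map (algebraMap _ E)).map (algebraMap E L) := by
  refine Submodule.le_of_le_smul_of_le_jacobson_bot (hfg.map _)
    (le_trans hL (IsLocalRing.maximalIdeal_le_jacobson ⊥)) ?_
  refine le_trans (Ideal.map_mono (ker_le ε hX)) ?_
  rw [Ideal.map_sup, Ideal.map_pow, smul_eq_mul, pow_two]

include hX in
/-- Over a Noetherian ring the expansion is injective up to localisation. -/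
theorem exists_mul_eq_zero_of_noetherian [IsNoetherianRing A] [Algebra.FiniteType (MvPolynomial (Fin n) A) E]
    (m : Ideal A) [m.IsPrime] (ι : E →ₐ[MvPolynomial (Fin n) A] MvPowerSeries (Fin n) A)
    (hι : ∀ e, MvPowerSeries.constantCoeff (ι e) = ε e) (d : E) (hd : ι d = 0) :
    ∃ w : E, ε w ∉ m ∧ w * d = 0 := by
  haveI : IsNoetherianRing E := Algebra.FiniteType.isNoetherianRing (MvPolynomial (Fin n) A) E
  let y : Ideal E := m.comap ε
  haveI : y.IsPrime := Ideal.comap_isPrime _ _
  set L := Localization.AtPrime y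
  let JL : Ideal L := ((J A).map (algebraMap (MvPolynomial (Fin n) A) E)).map (algebraMap E L)
  have hmax : (RingHom.ker ε).map (algebraMap E L) ≤ IsLocalRing.maximalIdeal L := by
    rw [← Localization.AtPrime.map_eq_maximalIdeal]
    exact Ideal.map_mono fun z hz => by
      show ε z ∈ m
      rw [show ε z = 0 from hz]
      exact m.zero_mem
  have hI : (RingHom.ker ε).map (algebraMap E L) ≤ JL :=
    map_ker_le ε hX (IsNoetherian.noetherian _) hmax
  have hJ : JL ≠ ⊤ := fun h => by
    have h' : JL ≤ IsLocalRing.maximalIdeal L := by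
      refine le_trans (Ideal.map_mono ?_) hmax
      rw [Ideal.map_le_iff_le_comap]
      refine Ideal.span_le.mpr ?_
      rintro _ ⟨i, rfl⟩
      exact hX i
    exact (IsLocalRing.maximalIdeal.isMaximal L).ne_top (top_le_iff.mp (h ▸ h'))
  have hdk : ∀ k, algebraMap E L d ∈ JL ^ (k + 1) := by
    intro k
    set Q := JL ^ (k + 1)
    let g₁ : E →ₐ[MvPolynomial (Fin n) A] L ⧸ Q := IsScalarTower.toAlgHom _ E (L ⧸ Q)
    let ψ : MvPolynomial (Fin n) A ⧸ J A ^ (k + 1) →ₐ[MvPolynomial (Fin n) A] L ⧸ Q :=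
      Ideal.Quotient.liftₐ _ (Algebra.ofId _ _) fun p hp => by
        show algebraMap (MvPolynomial (Fin n) A) (L ⧸ Q) p = 0
        rw [IsScalarTower.algebraMap_apply _ L (L ⧸ Q), Ideal.Quotient.algebraMap_eq,
          Ideal.Quotient.eq_zero_iff_mem, IsScalarTower.algebraMap_apply (MvPolynomial (Fin n) A) E L]
        have := Ideal.mem_map_of_mem (algebraMap E L) (Ideal.mem_map_of_mem (algebraMap (MvPolynomial (Fin n) A) E) hp)
        rwa [Ideal.map_pow, Ideal.map_pow] at this
    let g₂ : E →ₐ[MvPolynomial (Fin n) A] L ⧸ Q := ψ.comp ((trunc A (k + 1)).comp ι)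
    have h := Algebra.FormallyUnramified.lift_unique (JL.map (Ideal.Quotient.mk Q)) ⟨k + 1, by
        rw [← Ideal.map_pow, Ideal.map_quotient_self]; rfl⟩ g₁ g₂
      (AlgHom.ext fun e => Ideal.Quotient.eq.mpr (by
        show algebraMap E (L ⧸ Q) e - ψ (trunc A (k + 1) (ι e)) ∈ _
        obtain ⟨p, hp⟩ := Ideal.Quotient.mk_surjective (trunc A (k + 1) (ι e))
        have h1 : p - C (ε e) ∈ J A := by
          have h2 := trunc_sub_C A k (ι e)
          rw [hι, ← hp, ← map_sub, Ideal.mem_quotient_iff_mem_sup,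
            sup_eq_left.mpr (Ideal.pow_le_self (Nat.succ_ne_zero k))] at h2
          exact h2
        rw [← hp, show ψ (Ideal.Quotient.mk _ p) = algebraMap (MvPolynomial (Fin n) A) (L ⧸ Q) p from rfl,
          IsScalarTower.algebraMap_apply E L (L ⧸ Q), IsScalarTower.algebraMap_apply (MvPolynomial (Fin n) A) L (L ⧸ Q),
          ← map_sub, Ideal.Quotient.algebraMap_eq]
        refine Ideal.mem_map_of_mem _ ?_
        rw [IsScalarTower.algebraMap_apply (MvPolynomial (Fin n) A) E L, ← map_sub]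
        have h3 : e - algebraMap (MvPolynomial (Fin n) A) E (C (ε e)) ∈ RingHom.ker ε := by
          rw [RingHom.mem_ker, map_sub, eval_algebraMap ε hX, MvPolynomial.constantCoeff_C, sub_self]
        have h4 : e - algebraMap _ E p = (e - algebraMap (MvPolynomial (Fin n) A) E (C (ε e))) -
            algebraMap (MvPolynomial (Fin n) A) E (p - C (ε e)) := by
          rw [map_sub]; ring
        rw [h4, map_sub]
        exact sub_mem (hI (Ideal.mem_map_of_mem _ h3)) (Ideal.mem_map_of_mem _ (Ideal.mem_map_of_mem _ h1))))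
    have h5 := AlgHom.congr_fun h d
    rw [show g₂ d = ψ (trunc A (k + 1) (ι d)) from rfl, hd, map_zero, map_zero] at h5
    rwa [show g₁ d = Ideal.Quotient.mk Q (algebraMap E L d) from
      IsScalarTower.algebraMap_apply E L (L ⧸ Q) d, Ideal.Quotient.eq_zero_iff_mem] at h5
  have h0 : algebraMap E L d = 0 := by
    have h1 : algebraMap E L d ∈ ⨅ i : ℕ, JL ^ i := Ideal.mem_iInf.mpr fun i =>
      Ideal.pow_le_pow_right (Nat.le_succ i) (hdk i)
    rwa [Ideal.iInf_pow_eq_bot_of_isLocalRing JL hJ, Ideal.mem_bot] at h1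
  obtain ⟨⟨w, hw⟩, hw'⟩ := (IsLocalization.map_eq_zero_iff y.primeCompl L d).mp h0
  exact ⟨w, hw, hw'⟩

end Kernel

end Groth.Agent.RGFlat
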