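import Groth.Agent.DescSh.SmoothFactor
import Groth.Agent.DiagRig.WeilLocus.Basic
import Groth.Agent.S1223

/-!
Étale-local factorisation of a smooth algebra through a smooth algebra with geometrically integral fibres,
and universal purity (hence projectivity) of the latter.
-/

set_option autoImplicit false
set_option linter.style.haveILetI false

universe u

open AlgebraicGeometry CategoryTheory Limits TopologicalSpace TensorProduct

namespace Groth.Agent.RGFlat.SmoothNhd

/-- A morphism with a smooth composite with an étale morphism is smooth. -/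
theorem smooth_of_comp_etale {X Y Z : Scheme.{u}} (a : X ⟶ Y) (v : Y ⟶ Z) [Etale v] [Smooth (a ≫ v)] : Smooth a := by
  let s : X ⟶ pullback (a ≫ v) v := pullback.lift (𝟙 X) a (Category.id_comp _)
  haveI : Etale (pullback.fst (a ≫ v) v) := MorphismProperty.pullback_fst _ _ ‹Etale v›
  haveI : Etale (s ≫ pullback.fst (a ≫ v) v) := by
    rw [pullback.lift_fst]
    infer_instance
  haveI : Etale s := MorphismProperty.of_postcomp @Etale s (pullback.fst (a ≫ v) v) ‹_› ‹_›
  haveI : Smooth (pullback.snd (a ≫ v) v) := MorphismProperty.pullback_snd _ _ ‹Smooth (a ≫ v)›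
  rw [← pullback.lift_snd (f := a ≫ v) (g := v) (𝟙 X) a (Category.id_comp _)]
  infer_instance

/-- An algebra whose base changes to fields are domains has geometrically integral fibres. -/
theorem geomIntegralFibres_of_isDomain {A D : Type u} [CommRing A] [CommRing D] [Algebra A D]
    (h : ∀ (K : Type u) [Field K] [Algebra A K], IsDomain (K ⊗[A] D)) : FlatCA.GeomIntegralFibres A D := by
  refine ⟨geometrically_iff_of_commRing.mpr fun K _ _ Y fst snd hY => ?_⟩
  haveI := h K
  haveI : IsDomain (D ⊗[A] K) := (Algebra.TensorProduct.comm A D K).toRingEquiv.toMulEquiv.isDomain _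
  haveI : IsIntegral (Spec (CommRingCat.of (D ⊗[A] K))) := (affine_isIntegral_iff (CommRingCat.of (D ⊗[A] K))).mpr ‹_›
  haveI : IsIntegral (pullback (Spec.map (CommRingCat.ofHom (algebraMap A D))) (Spec.map (CommRingCat.ofHom (algebraMap A K)))) :=
    IsIntegral.of_isIso (pullbackSpecIso A D K).inv
  exact IsIntegral.of_isIso hY.isoPullback.inv

/-- Around every prime of a smooth algebra there is, étale locally on base and source, a smooth algebra all
whose base changes to fields are domains. -/
theorem exists_geomIntegral_nhd {A P : Type u} [CommRing A] [CommRing P] [Algebra A P] [Algebra.Smooth A P]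
    (y : Ideal P) [y.IsPrime] :
    ∃ (A' D : Type u) (_ : CommRing A') (_ : Algebra A A') (_ : CommRing D) (_ : Algebra P D) (_ : Algebra A' D)
      (_ : Algebra A D) (_ : IsScalarTower A P D) (_ : IsScalarTower A A' D),
      Algebra.Etale A A' ∧ Algebra.Etale P D ∧ Algebra.Smooth A' D ∧
      (∀ (K : Type u) [Field K] [Algebra A' K], IsDomain (K ⊗[A'] D)) ∧
      ∃ yD : Ideal D, yD.IsPrime ∧ yD.comap (algebraMap P D) = y := by
  let f : Spec (CommRingCat.of P) ⟶ Spec (CommRingCat.of A) := Spec.map (CommRingCat.ofHom (algebraMap A P))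
  haveI : Smooth f := (HasRingHomProperty.Spec_iff (P := @Smooth)).mpr
    (RingHom.smooth_algebraMap.mpr inferInstance)
  obtain ⟨N₁, j, z₁, V, a, hj, ha, hgc, -⟩ :=
    DescSh.SmoothFactor.hasFactor f (Scheme.Etale.mk (𝟙 (Spec (CommRingCat.of P)))) ⟨y, inferInstance⟩
  haveI : Etale N₁.hom := N₁.prop
  haveI : Etale V.hom := V.prop
  haveI : Smooth (a ≫ V.hom) := by rw [ha]; infer_instance
  haveI : Smooth a := smooth_of_comp_etale a V.hom
  have hz : N₁.hom z₁ = (⟨y, inferInstance⟩ : PrimeSpectrum P) := by
    have hw : j.left ≫ (Scheme.Etale.mk (𝟙 (Spec (CommRingCat.of P)))).hom = N₁.hom := CategoryTheory.MorphismProperty.Over.w j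
    rw [← hw, Scheme.Hom.comp_apply, hj]
    rfl
  obtain ⟨RA, oA, hoA, hzA, -⟩ :=
    Scheme.exists_affine_mem_range_and_range_subset (x := a z₁) (U := (⊤ : V.left.Opens)) trivial
  obtain ⟨RD, oD, hoD, ⟨zD, hzD⟩, hsub⟩ := Scheme.exists_affine_mem_range_and_range_subset (x := z₁)
    (U := a ⁻¹ᵁ oA.opensRange) hzA
  have hrange : Set.range (oD ≫ a) ⊆ Set.range oA := by
    rintro _ ⟨w, rfl⟩
    exact hsub ⟨w, rfl⟩
  let b : Spec RD ⟶ Spec RA := IsOpenImmersion.lift oA (oD ≫ a) hrange
  have hb : b ≫ oA = oD ≫ a := IsOpenImmersion.lift_fac _ _ _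
  haveI : Smooth (b ≫ oA) := by rw [hb]; infer_instance
  haveI : Smooth b := smooth_of_comp_etale b oA
  obtain ⟨_, ⟨_, ⟨r, rfl⟩, rfl⟩, hr, hrsub⟩ :=
    PrimeSpectrum.isBasis_basic_opens.exists_subset_of_mem_open (a := b zD) (Set.mem_range_self zD) b.isOpenMap.isOpen_range
  let φ : RA ⟶ RD := Spec.preimage b
  have hφ : Spec.map φ = b := Spec.map_preimage b
  let A' : Type u := Localization.Away r
  let D : Type u := Localization.Away (φ.hom r)
  let φ' : A' →+* D := Localization.awayMap φ.hom r
  let jA : Spec (CommRingCat.of A') ⟶ Spec RA := Spec.map (CommRingCat.ofHom (algebraMap RA A'))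
  let jD : Spec (CommRingCat.of D) ⟶ Spec RD := Spec.map (CommRingCat.ofHom (algebraMap RD D))
  haveI : IsOpenImmersion jA := IsOpenImmersion.of_isLocalization r
  haveI : IsOpenImmersion jD := IsOpenImmersion.of_isLocalization (φ.hom r)
  let b' : Spec (CommRingCat.of D) ⟶ Spec (CommRingCat.of A') := Spec.map (CommRingCat.ofHom φ')
  have hφ' : φ'.comp (algebraMap RA A') = (algebraMap RD D).comp φ.hom :=
    IsLocalization.map_comp _
  have hb' : b' ≫ jA = jD ≫ b := by
    rw [← hφ, ← Spec.map_comp, ← Spec.map_comp, ← CommRingCat.ofHom_comp, hφ']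
    rfl
  have hb'' : b' ≫ jA ≫ oA = (jD ≫ oD) ≫ a := by rw [← Category.assoc, hb', Category.assoc, hb, Category.assoc]
  have hsurj : Function.Surjective b' := by
    intro t
    have htr : jA t ∈ (PrimeSpectrum.basicOpen r : Set (PrimeSpectrum RA)) := by
      rw [← PrimeSpectrum.localization_away_comap_range A' r]
      exact ⟨t, rfl⟩
    obtain ⟨d, hd⟩ := hrsub htr
    have hd' : d ∈ Set.range jD := by
      have : (φ.hom r) ∉ d.asIdeal := by
        rw [← hφ] at hd
        exact fun h => htr (hd ▸ h)
      exact (PrimeSpectrum.localization_away_comap_range D (φ.hom r)).ge this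
    obtain ⟨d', rfl⟩ := hd'
    refine ⟨d', jA.isOpenEmbedding.injective ?_⟩
    rw [← Scheme.Hom.comp_apply, hb', Scheme.Hom.comp_apply, hd]
  haveI : Smooth b' := by
    haveI : Smooth (b' ≫ jA) := by rw [hb']; infer_instance
    exact smooth_of_comp_etale b' jA
  obtain ⟨zD', hzD'⟩ : zD ∈ Set.range jD := by
    refine (PrimeSpectrum.localization_away_comap_range D (φ.hom r)).ge ?_
    show φ.hom r ∉ zD.asIdeal
    rw [← hφ] at hr
    exact hr
  let gA := Spec.preimage (jA ≫ oA ≫ V.hom)
  let gP := Spec.preimage (jD ≫ oD ≫ N₁.hom)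
  letI : Algebra A A' := gA.hom.toAlgebra
  letI : Algebra P D := gP.hom.toAlgebra
  letI : Algebra A' D := φ'.toAlgebra
  letI : Algebra A D := (gP.hom.comp (algebraMap A P)).toAlgebra
  haveI : IsScalarTower A P D := IsScalarTower.of_algebraMap_eq fun _ => rfl
  haveI : IsScalarTower A A' D := IsScalarTower.of_algebraMap_eq' (by
    have : gA ≫ CommRingCat.ofHom φ' = CommRingCat.ofHom (algebraMap A P) ≫ gP := by
      apply Spec.map_injective
      rw [Spec.map_comp, Spec.map_comp, Spec.map_preimage, Spec.map_preimage]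
      show b' ≫ jA ≫ oA ≫ V.hom = (jD ≫ oD ≫ N₁.hom) ≫ f
      rw [← Category.assoc jA oA, ← Category.assoc b', hb'', Category.assoc, ha]
      simp only [Category.assoc]
    exact (congrArg CommRingCat.Hom.hom this).symm)
  refine ⟨A', D, inferInstance, inferInstance, inferInstance, inferInstance, inferInstance, inferInstance,
    inferInstance, inferInstance, ?_, ?_, ?_, ?_, ?_⟩
  · have h : Etale (Spec.map gA) := by rw [Spec.map_preimage]; infer_instance
    exact RingHom.etale_algebraMap.mp ((HasRingHomProperty.Spec_iff (P := @Etale)).mp h)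
  · have h : Etale (Spec.map gP) := by rw [Spec.map_preimage]; infer_instance
    exact RingHom.etale_algebraMap.mp ((HasRingHomProperty.Spec_iff (P := @Etale)).mp h)
  · have h : Smooth b' := inferInstance
    exact RingHom.smooth_algebraMap.mp ((HasRingHomProperty.Spec_iff (P := @Smooth)).mp h)
  · intro K _ _
    let q : Spec (CommRingCat.of K) ⟶ Spec (CommRingCat.of A') := Spec.map (CommRingCat.ofHom (algebraMap A' K))
    let qV : Spec (CommRingCat.of K) ⟶ V.left := q ≫ jA ≫ oA
    haveI : IrreducibleSpace ↥(pullback a qV) := DiagRig.WeilLocus.irreducibleSpace_geom a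
      (fun _ => GeometricallyConnected.geometrically_connectedSpace _ _ _ (.of_hasPullback _ _)) K qV
    haveI : IsReduced (pullback a qV) := StrictSSLib.isReduced_of_smooth_field (pullback.snd a qV)
    let c : pullback b' q ⟶ pullback a qV := pullback.map b' q a qV (jD ≫ oD) (𝟙 _) (jA ≫ oA) hb''
      (Category.id_comp qV).symm
    haveI : IsOpenImmersion c := inferInstance
    haveI : IsReduced (pullback b' q) := isReduced_of_isOpenImmersion c
    haveI : Nonempty ↥(pullback b' q) := by
      obtain ⟨d, hd⟩ := hsurj (q (IsLocalRing.closedPoint K))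
      obtain ⟨w, -⟩ := Scheme.Pullback.exists_preimage_pullback (f := b') (g := q) d (IsLocalRing.closedPoint K : ↥(Spec (CommRingCat.of K))) hd
      exact ⟨w⟩
    haveI : IrreducibleSpace ↥(pullback b' q) :=
      { toPreirreducibleSpace := c.isOpenEmbedding.preirreducibleSpace
        toNonempty := inferInstance }
    haveI : IsIntegral (pullback b' q) := isIntegral_of_irreducibleSpace_of_isReduced _
    haveI hI : IsIntegral (Spec (CommRingCat.of (D ⊗[A'] K))) := IsIntegral.of_isIso (pullbackSpecIso A' D K).hom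
    haveI : IsDomain (D ⊗[A'] K) := (affine_isIntegral_iff (CommRingCat.of (D ⊗[A'] K))).mp hI
    exact (Algebra.TensorProduct.comm A' K D).toRingEquiv.toMulEquiv.isDomain _
  · refine ⟨zD'.asIdeal, zD'.isPrime, ?_⟩
    have h1 : (Spec.map gP) zD' = (⟨y, inferInstance⟩ : PrimeSpectrum P) := by
      rw [Spec.map_preimage, Scheme.Hom.comp_apply, Scheme.Hom.comp_apply, hzD', hzD, hz]
    exact congrArg PrimeSpectrum.asIdeal h1

end Groth.Agent.RGFlat.SmoothNhd
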