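import Groth.Agent.RGFlat.SpreadCover
import Groth.Agent.RGFlat.SmoothNhd
import Groth.Agent.S1219
import Groth.Agent.S6269
import Groth.Agent.FlatMor.FlatAtBC

/-!
Auxiliary results for the spreading of projectivity.
-/

set_option autoImplicit false
set_option linter.style.haveILetI false

universe u

open TensorProduct

attribute [local instance] Algebra.TensorProduct.rightAlgebra

namespace Groth.Agent.RGFlat.Spreading

variable {A B : Type u} [CommRing A] [CommRing B] [Algebra A B]

/-- Primes over the same prime glue to a prime of the tensor product. -/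
theorem exists_prime_tensor (A' : Type u) [CommRing A'] [Algebra A A'] (q : Ideal B) [q.IsPrime] (p' : Ideal A')
    [p'.IsPrime] (h : q.comap (algebraMap A B) = p'.comap (algebraMap A A')) :
    ∃ Q : Ideal (A' ⊗[A] B), Q.IsPrime ∧ Q.comap (algebraMap B (A' ⊗[A] B)) = q ∧
      Q.comap (algebraMap A' (A' ⊗[A] B)) = p' := by
  haveI := isScalarTower_tensor (A := A) (B := B) A'
  haveI : Algebra.IsPushout A A' B (A' ⊗[A] B) := inferInstance
  haveI : Algebra.IsPushout A B A' (A' ⊗[A] B) := Algebra.IsPushout.symm inferInstance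
  exact FlatMor.FlatAtBC.exists_prime_of_pushout (R := A) (S := B) (R' := A') (S' := A' ⊗[A] B)
    (q.comap (algebraMap A B)) q p' rfl h.symm

/-- A domain stays a domain after a localization which keeps it nonzero on the fibre. -/
theorem isDomain_tensor_loc {X Y : Type u} [CommRing X] [CommRing Y] [Algebra A X] [Algebra X Y] [Algebra A Y]
    [IsScalarTower A X Y] (M : Submonoid X) [IsLocalization M Y] (K : Type u) [Field K] [Algebra A K]
    [IsDomain (K ⊗[A] X)] (d : Ideal Y) [d.IsPrime]
    (hd : d.comap (algebraMap A Y) = RingHom.ker (algebraMap A K)) : IsDomain (K ⊗[A] Y) := by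
  classical
  let incl : K ⊗[A] X →ₐ[K] K ⊗[A] Y := Algebra.TensorProduct.map (AlgHom.id K K) (IsScalarTower.toAlgHom A X Y)
  letI : Algebra (K ⊗[A] X) (K ⊗[A] Y) := incl.toRingHom.toAlgebra
  haveI : IsScalarTower K (K ⊗[A] X) (K ⊗[A] Y) := IsScalarTower.of_algebraMap_eq' incl.comp_algebraMap.symm
  haveI hloc : IsLocalization (M.map (Algebra.TensorProduct.includeRight (R := A) (A := K) : X →ₐ[A] K ⊗[A] X))
      (K ⊗[A] Y) := IsLocalization.tensorProduct_tensorProduct_right A K M Y (by
    ext x
    show incl (1 ⊗ₜ x) = 1 ⊗ₜ algebraMap X Y x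
    simp [incl])
  haveI : (RingHom.ker (algebraMap A K)).IsPrime := RingHom.ker_isPrime _
  obtain ⟨Q, hQ, -, -⟩ := exists_prime_tensor (A := A) (B := Y) K d (⊥ : Ideal K) hd
  haveI : Nontrivial (K ⊗[A] Y) := by
    by_contra hne
    haveI := not_nontrivial_iff_subsingleton.mp hne
    exact hQ.ne_top (Subsingleton.elim _ _)
  refine IsLocalization.isDomain_of_le_nonZeroDivisors (S := K ⊗[A] Y) (R := K ⊗[A] X)
    (M := M.map (Algebra.TensorProduct.includeRight (R := A) (A := K) : X →ₐ[A] K ⊗[A] X)) fun x hx =>
      mem_nonZeroDivisors_of_ne_zero fun h0 => ?_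
  subst h0
  exact not_subsingleton (K ⊗[A] Y) (IsLocalization.subsingleton hx)

/-- The fibre dimension of an algebra quasi-finite over affine `m`-space is at most `m`. -/
theorem ringKrullDim_fiber_le {m : ℕ} {Y : Type u} [CommRing Y] [Algebra A Y] [Algebra (MvPolynomial (Fin m) A) Y]
    [IsScalarTower A (MvPolynomial (Fin m) A) Y] [Algebra.QuasiFinite (MvPolynomial (Fin m) A) Y]
    (p : Ideal A) [p.IsPrime] : ringKrullDim (p.Fiber Y) ≤ m := by
  let P := MvPolynomial (Fin m) A
  let φ : p.Fiber P →+* p.Fiber Y :=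
    (Algebra.TensorProduct.map (AlgHom.id p.ResidueField p.ResidueField) (IsScalarTower.toAlgHom A P Y)).toRingHom
  have hdim : ringKrullDim (p.Fiber P) = m := by
    rw [ringKrullDim_eq_of_ringEquiv (MvPolynomial.algebraTensorAlgEquiv A p.ResidueField).toRingEquiv,
      MvPolynomial.ringKrullDim_of_isNoetherianRing, ringKrullDim_eq_zero_of_field, zero_add, Nat.card_eq_fintype_card,
      Fintype.card_fin]
  rw [← hdim]
  refine Order.krullDim_le_of_strictMono (PrimeSpectrum.comap φ) fun x y hxy => ?_
  refine lt_of_le_of_ne (Ideal.comap_mono (PrimeSpectrum.asIdeal_le_asIdeal x y |>.mpr hxy.le)) fun heq => ?_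
  let ιY : Y →+* p.Fiber Y := (Algebra.TensorProduct.includeRight : Y →ₐ[A] p.Fiber Y).toRingHom
  let ιP : P →+* p.Fiber P := (Algebra.TensorProduct.includeRight : P →ₐ[A] p.Fiber P).toRingHom
  have hφι : φ.comp ιP = ιY.comp (algebraMap P Y) := by
    ext c <;> simp [φ, ιP, ιY]
  haveI : (x.asIdeal.comap ιY).LiesOver p := comap_fibre_prime p x
  haveI : (y.asIdeal.comap ιY).LiesOver p := comap_fibre_prime p y
  have hY : x.asIdeal.comap ιY = y.asIdeal.comap ιY := by
    refine Algebra.QuasiFinite.eq_of_le_of_under_eq (R := P) _ _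
      (Ideal.comap_mono (PrimeSpectrum.asIdeal_le_asIdeal x y |>.mpr hxy.le)) ?_
    rw [Ideal.under_def, Ideal.under_def, Ideal.comap_comap, Ideal.comap_comap, ← hφι, ← Ideal.comap_comap,
      ← Ideal.comap_comap]
    exact congrArg (fun z : PrimeSpectrum (p.Fiber P) => z.asIdeal.comap ιP) heq
  refine hxy.ne ((PrimeSpectrum.primesOverOrderIsoFiber A Y p).symm.injective (Subtype.ext ?_))
  exact hY

/-- A finitely presented flat algebra with geometrically integral fibres is projective. -/
theorem projective_of_isDomain {D : Type u} [CommRing D] [Algebra A D] [Algebra.FinitePresentation A D]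
    [Module.Flat A D] (h : ∀ (K : Type u) [Field K] [Algebra A K], IsDomain (K ⊗[A] D)) : Module.Projective A D := by
  refine (S1219.result (B := D) D).mpr fun p _ => ?_
  intro A' B' N' _ _ _ _ _ _ _ _ _ _ _ _ _ _ f t' t _ _ P _ _
  exact S1223.result (SmoothNhd.geomIntegralFibres_of_isDomain h) p A' B' N' f t' t P

/-- Generic comparison with a free module along an irreducible fibre. -/
theorem exists_generic_basis {D : Type u} [CommRing D] (G : Type u) [AddCommGroup G] [Module D G] [Module.Finite D G]
    (ξ : Ideal D) [ξ.IsPrime] :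
    ∃ (r : ℕ) (α : (Fin r → D) →ₗ[D] G), Function.Bijective (α.baseChange ξ.ResidueField) := by
  classical
  let L := ξ.ResidueField
  obtain ⟨s, hs⟩ := Module.Finite.fg_top (R := D) (M := G)
  let T : Set (L ⊗[D] G) := (fun v => (1 : L) ⊗ₜ[D] v) '' (s : Set G)
  have hT : Submodule.span L T = ⊤ := by
    rw [eq_top_iff]
    rintro x -
    induction x with
    | zero => exact zero_mem _
    | tmul l v =>
      rw [← mul_one l, ← smul_eq_mul, ← TensorProduct.smul_tmul']
      refine Submodule.smul_mem _ _ ?_
      have hv : v ∈ Submodule.span D (s : Set G) := hs ▸ Submodule.mem_top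
      induction hv using Submodule.span_induction with
      | mem w hw => exact Submodule.subset_span ⟨w, hw, rfl⟩
      | zero => rw [TensorProduct.tmul_zero]; exact zero_mem _
      | add a b _ _ ha hb => rw [TensorProduct.tmul_add]; exact add_mem ha hb
      | smul c a _ ha =>
        rw [TensorProduct.tmul_smul, ← algebraMap_smul L c]
        exact Submodule.smul_mem _ _ ha
    | add a b ha hb => exact add_mem ha hb
  obtain ⟨b, hbT, hbspan, hbli⟩ := exists_linearIndependent L T
  haveI : Fintype b := ((s.finite_toSet.image _).subset hbT).fintype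
  let r := Fintype.card b
  let e : Fin r ≃ b := (Fintype.equivFin b).symm
  choose v hv hv' using fun i : Fin r => hbT (e i).2
  let α : (Fin r → D) →ₗ[D] G := Fintype.linearCombination D v
  refine ⟨r, α, ?_⟩
  let bs : Module.Basis (Fin r) L (L ⊗[D] G) :=
    Module.Basis.mk (hbli.comp e e.injective) (by
      rw [Set.range_comp, Equiv.range_eq_univ, Set.image_univ, Subtype.range_coe, hbspan, hT])
  have hmap : ∀ i, α.baseChange L (Algebra.TensorProduct.basis L (Pi.basisFun D (Fin r)) i) = bs i := fun i => by
    simp only [Algebra.TensorProduct.basis_apply, LinearMap.baseChange_tmul, bs, Module.Basis.mk_apply,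
      Pi.basisFun_apply, α, Fintype.linearCombination_apply_single, one_smul, Function.comp_apply]
    exact hv' i
  have : α.baseChange L = ((Algebra.TensorProduct.basis L (Pi.basisFun D (Fin r))).equiv bs (Equiv.refl _)).toLinearMap :=
    (Algebra.TensorProduct.basis L (Pi.basisFun D (Fin r))).ext fun i => by
      rw [hmap i, LinearEquiv.coe_coe, Module.Basis.equiv_apply, Equiv.refl_apply]
  rw [this]
  exact LinearEquiv.bijective _

end Groth.Agent.RGFlat.Spreading
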