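import Groth.Agent.RGFlat.SpreadSplit
import Groth.Agent.RGFlat.InjNhd
import Groth.Agent.RGFlat.PureProjective
import Groth.Agent.Content.UnivInj
import Groth.Agent.RGFlat.UnivInj
import Groth.Agent.S0585

/-!
Spreading of projectivity from a local ring, given projective étale covers of the fibre.
-/

set_option autoImplicit false
set_option linter.style.haveILetI false

universe u

open TensorProduct

attribute [local instance] Algebra.TensorProduct.rightAlgebra

namespace Groth.Agent.RGFlat.Spreading

/-- Étale-locally at `q`, on base and source, the module is projective over the base. -/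
def LocalCover (A : Type u) {B : Type u} [CommRing A] [CommRing B] [Algebra A B] (N : Type u) [AddCommGroup N]
    [Module B N] (q : Ideal B) : Prop :=
  ∃ (A' C : Type u) (_ : CommRing A') (_ : Algebra A A') (_ : CommRing C) (_ : Algebra B C) (_ : Algebra A' C)
    (_ : Algebra A C) (_ : IsScalarTower A B C) (_ : IsScalarTower A A' C),
    Algebra.Etale A A' ∧ Algebra.Etale B C ∧ Module.Projective A' (C ⊗[B] N) ∧
      ∃ q' : Ideal C, q'.IsPrime ∧ q'.comap (algebraMap B C) = q

variable {A B : Type u} [CommRing A] [CommRing B] [Algebra A B]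

theorem isScalarTower_tensor (A' : Type u) [CommRing A'] [Algebra A A'] : IsScalarTower A B (A' ⊗[A] B) :=
  IsScalarTower.of_algebraMap_eq fun a => by
    show algebraMap A A' a ⊗ₜ[A] (1 : B) = (1 : A') ⊗ₜ[A] algebraMap A B a
    rw [Algebra.algebraMap_eq_smul_one, Algebra.algebraMap_eq_smul_one, TensorProduct.smul_tmul]

/-- A flat module with a projective flat extension covering the relative assassins is projective. -/
theorem projective_of_covering {R S S' : Type u} [CommRing R] [CommRing S] [CommRing S'] [Algebra R S] [Algebra S S']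
    [Algebra R S'] [IsScalarTower R S S'] [Algebra.FiniteType R S] [Module.Flat S S']
    (N : Type u) [AddCommGroup N] [Module S N] [Module R N] [IsScalarTower R S N] [Module.Finite S N] [Module.Flat R N]
    [Module.Projective R (S' ⊗[S] N)]
    (h : ∀ (p : Ideal R) (q : Ideal S) [p.IsPrime] [q.IsPrime] [q.LiesOver p],
      FlatCA.fiberIdeal p q ∈ associatedPrimes (p.Fiber S) (FlatCA.fiberMod p S N) →
      ∃ q' : Ideal S', q'.IsPrime ∧ q'.comap (algebraMap S S') = q) : Module.Projective R N :=
  ProjDesc.projective_of_countable R N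
    (MLMod.isMittagLeffler_of_universallyInjective ((TensorProduct.mk S S' N 1).restrictScalars R)
      (fun X _ _ => (LinearMap.lTensor_inj_iff_rTensor_inj _ _).mp (RGFlat.univInj_of_covering h X))
      (ProjDesc.isMittagLeffler_of_projective R _))
    (HP.countablyGenerated_of_finite (C := S))

/-- The piece of the cover along one rational point. -/
theorem exists_piece (N : Type u) [AddCommGroup N] [Module B N]
    (A₁ C₁ : Type u) [CommRing A₁] [Algebra A A₁] [CommRing C₁] [Algebra B C₁] [Algebra A₁ C₁] [Algebra A C₁]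
    [IsScalarTower A B C₁] [IsScalarTower A A₁ C₁] [Algebra.Etale A A₁] [Algebra.Etale B C₁]
    [Module.Projective A₁ (C₁ ⊗[B] N)] (A' : Type u) [CommRing A'] [Algebra A A'] [Algebra.Etale A A'] (ρ : A₁ →ₐ[A] A') :
    ∃ (C : Type u) (_ : CommRing C) (_ : Algebra (A' ⊗[A] B) C) (_ : Algebra A' C) (_ : IsScalarTower A' (A' ⊗[A] B) C),
      Algebra.Etale (A' ⊗[A] B) C ∧ Module.Projective A' (C ⊗[A' ⊗[A] B] ((A' ⊗[A] B) ⊗[B] N)) ∧
      ∀ (Ω : Type u) [CommRing Ω] [Algebra A Ω] (f : A' →ₐ[A] Ω) (g : C₁ →ₐ[A] Ω),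
        (∀ a, f (ρ a) = g (algebraMap A₁ C₁ a)) →
        ∃ h : C →+* Ω, ∀ a b, h (algebraMap (A' ⊗[A] B) C (a ⊗ₜ b)) = f a * g (algebraMap B C₁ b) := by
  haveI := isScalarTower_tensor (A := A) (B := B) A'
  letI : Algebra A₁ A' := ρ.toRingHom.toAlgebra
  haveI : IsScalarTower A A₁ A' := IsScalarTower.of_algebraMap_eq fun a => (ρ.commutes a).symm
  haveI : Algebra.Etale A₁ A' := Algebra.Etale.of_restrictScalars A A₁ A'
  let C := A' ⊗[A₁] C₁
  haveI : Algebra.IsPushout A₁ A' C₁ C := inferInstance
  haveI : Algebra.Etale C₁ C := Algebra.Etale.of_equiv (Algebra.IsPushout.equiv A₁ C₁ A' C)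
  letI : Algebra B C := ((algebraMap C₁ C).comp (algebraMap B C₁)).toAlgebra
  haveI : IsScalarTower B C₁ C := IsScalarTower.of_algebraMap_eq fun _ => rfl
  haveI : Algebra.Etale B C := Algebra.Etale.comp B C₁ C
  let incB : B →ₐ[A] C :=
    { toRingHom := algebraMap B C
      commutes' := fun a => by
        show algebraMap C₁ C (algebraMap B C₁ (algebraMap A B a)) = algebraMap A C a
        rw [← IsScalarTower.algebraMap_apply A B C₁, IsScalarTower.algebraMap_apply A A₁ C₁,
          ← IsScalarTower.algebraMap_apply A₁ C₁ C, ← IsScalarTower.algebraMap_apply A A₁ C] }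
  let tot : A' ⊗[A] B →ₐ[A] C :=
    Algebra.TensorProduct.lift (IsScalarTower.toAlgHom A A' C) incB fun _ _ => .all _ _
  letI : Algebra (A' ⊗[A] B) C := tot.toRingHom.toAlgebra
  haveI : IsScalarTower A' (A' ⊗[A] B) C := IsScalarTower.of_algebraMap_eq fun a => by
    show _ = tot (a ⊗ₜ 1)
    simp [tot]
  haveI : IsScalarTower B (A' ⊗[A] B) C := IsScalarTower.of_algebraMap_eq fun b => by
    show algebraMap B C b = tot (1 ⊗ₜ b)
    simp only [tot, Algebra.TensorProduct.lift_tmul, map_one, one_mul]
    rfl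
  haveI : Algebra.IsPushout A A' B (A' ⊗[A] B) := inferInstance
  haveI : Algebra.Etale B (A' ⊗[A] B) := Algebra.Etale.of_equiv (Algebra.IsPushout.equiv A B A' (A' ⊗[A] B))
  refine ⟨C, inferInstance, inferInstance, inferInstance, inferInstance, Algebra.Etale.of_restrictScalars B (A' ⊗[A] B) C, ?_, ?_⟩
  · haveI : Module.Projective A' (A' ⊗[A₁] (C₁ ⊗[B] N)) := inferInstance
    let e0 : C ⊗[A' ⊗[A] B] ((A' ⊗[A] B) ⊗[B] N) ≃ₗ[C] C ⊗[B] N :=
      AlgebraTensorModule.cancelBaseChange B (A' ⊗[A] B) C C N
    let e1 : C ⊗[C₁] (C₁ ⊗[B] N) ≃ₗ[C] C ⊗[B] N := AlgebraTensorModule.cancelBaseChange B C₁ C C N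
    let e2 : C ⊗[C₁] (C₁ ⊗[B] N) ≃ₗ[A'] A' ⊗[A₁] (C₁ ⊗[B] N) :=
      Algebra.IsPushout.cancelBaseChange A₁ A' C₁ C (C₁ ⊗[B] N)
    exact Module.Projective.of_equiv ((e2.symm.trans (e1.restrictScalars A')).trans (e0.symm.restrictScalars A'))
  · intro Ω _ _ f g hfg
    letI : Algebra A₁ Ω := (f.comp ρ).toRingHom.toAlgebra
    let f' : A' →ₐ[A₁] Ω := { toRingHom := f.toRingHom, commutes' := fun a => rfl }
    let g' : C₁ →ₐ[A₁] Ω := { toRingHom := g.toRingHom, commutes' := fun a => (hfg a).symm }
    refine ⟨(Algebra.TensorProduct.lift f' g' fun _ _ => .all _ _).toRingHom, fun a b => ?_⟩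
    show Algebra.TensorProduct.lift f' g' _ (tot (a ⊗ₜ b)) = _
    simp only [tot, Algebra.TensorProduct.lift_tmul, map_mul]
    show f' a * g' 1 * (f' 1 * g' (algebraMap B C₁ b)) = _
    rw [map_one, map_one, mul_one, one_mul]
    rfl

/-- Primes of the fibre ring lie over the prime. -/
theorem comap_fibre_prime (p : Ideal A) [p.IsPrime] (x : PrimeSpectrum (p.Fiber B)) :
    (x.asIdeal.comap (Algebra.TensorProduct.includeRight : B →ₐ[A] p.Fiber B).toRingHom).LiesOver p := ⟨by
  ext a
  rw [Ideal.under_def, Ideal.mem_comap, Ideal.mem_comap]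
  show a ∈ p ↔ (Algebra.TensorProduct.includeRight : B →ₐ[A] p.Fiber B) (algebraMap A B a) ∈ x.asIdeal
  rw [AlgHom.commutes, IsScalarTower.algebraMap_apply A p.ResidueField (p.Fiber B),
    ← Ideal.algebraMap_residueField_eq_zero]
  constructor
  · intro h
    rw [h, map_zero]
    exact zero_mem _
  · intro h
    by_contra h0
    exact x.isPrime.ne_top (Ideal.eq_top_of_isUnit_mem _ h ((IsUnit.mk0 _ h0).map _))⟩

/-- Elements generating the unit ideal of the fibre act jointly injectively on all generisations of a point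
where the module is projective. -/
theorem joint_injective (N : Type u) [AddCommGroup N] [Module B N] [Module A N] [IsScalarTower A B N]
    (p : Ideal A) [p.IsPrime] [Module.Projective (Localization.AtPrime p) (Localization.AtPrime p ⊗[A] N)]
    {k : ℕ} (g : Fin k → B)
    (hunit : Ideal.span (Set.range fun i => (Algebra.TensorProduct.includeRight : B →ₐ[A] p.Fiber B).toRingHom (g i)) = ⊤) :
    ∀ (t : Ideal A) [t.IsPrime], t ≤ p → ∀ w : t.ResidueField ⊗[A] N,
      (∀ i, ((LinearMap.lsmul B N (g i)).restrictScalars A).lTensor t.ResidueField w = 0) → w = 0 := by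
  classical
  let μ : Fin k → (N →ₗ[A] N) := fun i => (LinearMap.lsmul B N (g i)).restrictScalars A
  let inR : B →+* p.Fiber B := (Algebra.TensorProduct.includeRight : B →ₐ[A] p.Fiber B).toRingHom
  let Ap := Localization.AtPrime p
  let NL := Ap ⊗[A] N
  let U : N →ₗ[A] (Fin k → N) := LinearMap.pi μ
  let UL : NL →ₗ[Ap] (Fin k → NL) := LinearMap.pi fun i => (μ i).baseChange Ap
  haveI : Module.Projective Ap (Fin k → NL) :=
    Module.Projective.of_equiv (DFinsupp.linearEquivFunOnFintype (R := Ap) (M := fun _ : Fin k => NL))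
  have hres : ∀ (L : Type u) [CommRing L] [Algebra A L] [Algebra Ap L] [IsScalarTower A Ap L] (w : L ⊗[A] N),
      (∀ i, (μ i).lTensor L w = 0) ↔ UL.lTensor L ((AlgebraTensorModule.cancelBaseChange A Ap L L N).symm w) = 0 := by
    intro L _ _ _ _ w
    let c := (AlgebraTensorModule.cancelBaseChange A Ap L L N).symm
    have hc : ∀ i (w : L ⊗[A] N), ((μ i).baseChange Ap).lTensor L (c w) = c ((μ i).lTensor L w) := fun i w => by
      induction w with
      | zero => simp
      | tmul l n => simp [c]
      | add u v hu hv => simp only [map_add, hu, hv]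
    have hproj : ∀ i, (LinearMap.proj i : (Fin k → NL) →ₗ[Ap] NL).lTensor L (UL.lTensor L (c w)) =
        c ((μ i).lTensor L w) := fun i => by
      rw [← LinearMap.lTensor_comp_apply, LinearMap.proj_pi, hc]
    constructor
    · intro h
      apply (TensorProduct.piRight Ap Ap L (fun _ : Fin k => NL)).injective
      funext i
      rw [map_zero, Pi.zero_apply]
      have := hproj i
      rw [h i, map_zero] at this
      rw [← this]
      induction UL.lTensor L (c w) with
      | zero => simp
      | tmul l n => simp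
      | add u v hu hv => simp only [map_add, Pi.add_apply, hu, hv]
    · intro h i
      apply c.injective
      rw [← hproj i, h, map_zero, map_zero]
  intro t _ htp w hw
  have htu : ∀ a : p.primeCompl, IsUnit (algebraMap A t.ResidueField a) := fun a =>
    isUnit_iff_ne_zero.mpr fun h => a.2 (htp (Ideal.algebraMap_residueField_eq_zero.mp h))
  letI : Algebra Ap t.ResidueField := (IsLocalization.lift (M := p.primeCompl) htu).toAlgebra
  haveI : IsScalarTower A Ap t.ResidueField :=
    IsScalarTower.of_algebraMap_eq fun a => (IsLocalization.lift_eq _ a).symm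
  have hUL : ∀ (Q : Type u) [AddCommGroup Q] [Module Ap Q], Function.Injective (UL.lTensor Q) := by
    intro Q _ _
    rw [LinearMap.lTensor_inj_iff_rTensor_inj]
    refine Content.univInj_of_projective UL (fun m hm => ?_) Q
    obtain rfl := IsLocalRing.eq_maximalIdeal hm
    rw [injective_iff_map_eq_zero]
    intro z hz
    let c := AlgebraTensorModule.cancelBaseChange A Ap p.ResidueField p.ResidueField N
    suffices c z = 0 from c.injective (this.trans (map_zero _).symm)
    have hz0 : ∀ i, (μ i).lTensor p.ResidueField (c z) = 0 := (hres p.ResidueField (c z)).mpr (by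
      show UL.lTensor p.ResidueField (c.symm (c z)) = 0
      rw [c.symm_apply_apply]
      exact hz)
    haveI : IsScalarTower A B (p.Fiber B) := isScalarTower_tensor (A := A) (B := B) p.ResidueField
    let eF : (p.Fiber B) ⊗[B] N ≃ₗ[p.ResidueField] p.ResidueField ⊗[A] N :=
      Algebra.IsPushout.cancelBaseChange A p.ResidueField B (p.Fiber B) N
    have heF : ∀ (i : Fin k) (y : p.ResidueField ⊗[A] N),
        eF.symm ((μ i).lTensor p.ResidueField y) = inR (g i) • eF.symm y := fun i y => by
      induction y with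
      | zero => simp
      | tmul l n =>
        simp only [LinearMap.lTensor_tmul, eF, Algebra.IsPushout.cancelBaseChange_symm_tmul, μ,
          LinearMap.restrictScalars_apply, LinearMap.lsmul_apply, TensorProduct.tmul_smul,
          TensorProduct.smul_tmul']
        rw [← algebraMap_smul (p.Fiber B) (g i)]
        rfl
      | add u v hu hv => simp only [map_add, hu, hv, smul_add]
    apply eF.symm.injective
    rw [map_zero]
    obtain ⟨co, hco⟩ := (Submodule.mem_span_range_iff_exists_fun (p.Fiber B)).mp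
      (hunit.ge (Submodule.mem_top : (1 : p.Fiber B) ∈ ⊤))
    rw [← one_smul (p.Fiber B) (eF.symm (c z)), ← hco, Finset.sum_smul]
    refine Finset.sum_eq_zero fun i _ => ?_
    rw [smul_assoc, ← heF, hz0 i, map_zero, smul_zero]
  have := hUL t.ResidueField (((hres t.ResidueField w).mp hw).trans (map_zero _).symm)
  exact (AlgebraTensorModule.cancelBaseChange A Ap t.ResidueField t.ResidueField N).symm.injective
    (this.trans (map_zero _).symm)

/-- Fibrewise joint injectivity covers the relative assassins after base change. -/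
theorem exists_notMem_of_assoc [Algebra.FiniteType A B] (N : Type u) [AddCommGroup N] [Module B N] [Module A N]
    [IsScalarTower A B N] {k : ℕ} (g : Fin k → B) (Aa : Type u) [CommRing Aa] [Algebra A Aa]
    (t : Ideal Aa) [t.IsPrime]
    (hjinj : ∀ z : (t.comap (algebraMap A Aa)).ResidueField ⊗[A] N,
      (∀ i, ((LinearMap.lsmul B N (g i)).restrictScalars A).lTensor (t.comap (algebraMap A Aa)).ResidueField z = 0) → z = 0)
    (Q : Ideal (Aa ⊗[A] B)) [Q.IsPrime]
    (hass : FlatCA.fiberIdeal t Q ∈ associatedPrimes (t.Fiber (Aa ⊗[A] B))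
      (FlatCA.fiberMod t (Aa ⊗[A] B) ((Aa ⊗[A] B) ⊗[B] N))) :
    ∃ i, g i ∉ Q.comap (algebraMap B (Aa ⊗[A] B)) := by
  classical
  haveI := isScalarTower_tensor (A := A) (B := B) Aa
  haveI : Algebra.IsPushout A Aa B (Aa ⊗[A] B) := inferInstance
  let Ba := Aa ⊗[A] B
  let Na := Ba ⊗[B] N
  let eNa : Na ≃ₗ[Aa] Aa ⊗[A] N := Algebra.IsPushout.cancelBaseChange A Aa B Ba N
  let μ : Fin k → (N →ₗ[A] N) := fun i => (LinearMap.lsmul B N (g i)).restrictScalars A
  let t₀ : Ideal A := t.comap (algebraMap A Aa)
  by_contra hall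
  push Not at hall
  haveI := RGFlat.isNoetherianRing_fiber (S := Ba) t
  obtain ⟨hP, w, hw⟩ := isAssociatedPrime_iff.mp hass
  have hkill : ∀ b ∈ Q, (algebraMap Ba (t.Fiber Ba) b) • w = 0 := fun b hb => by
    have h1 : (Algebra.TensorProduct.includeRight : Ba →ₐ[Aa] t.Fiber Ba).toRingHom b ∈ FlatCA.fiberIdeal t Q :=
      Ideal.mem_map_of_mem _ hb
    rw [hw, Submodule.mem_colon_singleton, Submodule.mem_bot] at h1
    exact h1
  have hw0 : w ≠ 0 := fun h0 => hP.ne_top (by
    rw [hw, h0, Ideal.eq_top_iff_one, Submodule.mem_colon_singleton, smul_zero]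
    exact zero_mem _)
  letI : Algebra t₀.ResidueField t.ResidueField :=
    (Ideal.ResidueField.map t₀ t (algebraMap A Aa) rfl).toAlgebra
  haveI : IsScalarTower A t₀.ResidueField t.ResidueField := IsScalarTower.of_algebraMap_eq fun x => by
    rw [RingHom.algebraMap_toAlgebra, Ideal.ResidueField.map_algebraMap, ← IsScalarTower.algebraMap_apply]
  haveI : IsScalarTower Aa Ba (t.Fiber Ba) := isScalarTower_tensor (A := Aa) (B := Ba) t.ResidueField
  let c : (t.Fiber Ba) ⊗[Ba] Na ≃ₗ[t.ResidueField] t.ResidueField ⊗[A] N :=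
    ((Algebra.IsPushout.cancelBaseChange Aa t.ResidueField Ba (t.Fiber Ba) Na).trans
      (AlgebraTensorModule.congr (LinearEquiv.refl _ _) eNa)).trans
      (AlgebraTensorModule.cancelBaseChange A Aa t.ResidueField t.ResidueField N)
  have hc : ∀ (j : Fin k) (y : t.ResidueField ⊗[A] N), c.symm ((μ j).lTensor t.ResidueField y) =
      algebraMap Ba (t.Fiber Ba) (algebraMap B Ba (g j)) • c.symm y := fun j y => by
    induction y with
    | zero => simp
    | tmul l n =>
      have hE : ∀ m : N, eNa.symm ((1 : Aa) ⊗ₜ[A] m) = (1 : Ba) ⊗ₜ[B] m := fun m => by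
        rw [LinearEquiv.symm_apply_eq]
        exact (Algebra.IsPushout.cancelBaseChange_tmul A Aa B Ba N m).symm
      simp only [c, μ, LinearMap.lTensor_tmul, LinearMap.restrictScalars_apply, LinearMap.lsmul_apply,
        LinearEquiv.trans_symm, LinearEquiv.trans_apply, AlgebraTensorModule.cancelBaseChange_symm_tmul,
        AlgebraTensorModule.congr_symm_tmul, LinearEquiv.refl_symm, LinearEquiv.refl_apply, hE,
        Algebra.IsPushout.cancelBaseChange_symm_tmul]
      rw [TensorProduct.tmul_smul (g j), ← algebraMap_smul Ba (g j), TensorProduct.tmul_smul,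
        ← algebraMap_smul (t.Fiber Ba) (algebraMap B Ba (g j))]
    | add u v hu hv => simp only [map_add, hu, hv, smul_add]
  -- push to the fibre at `t₀`
  let c₀ := AlgebraTensorModule.cancelBaseChange A t₀.ResidueField t.ResidueField t.ResidueField N
  have hinj₀ : Function.Injective (LinearMap.pi (fun j => (μ j).lTensor t₀.ResidueField) :
      t₀.ResidueField ⊗[A] N →ₗ[A] (Fin k → t₀.ResidueField ⊗[A] N)) := by
    rw [injective_iff_map_eq_zero]
    exact fun z hz => hjinj z fun j => congrFun hz j
  let W : t₀.ResidueField ⊗[A] N →ₗ[t₀.ResidueField] (Fin k → t₀.ResidueField ⊗[A] N) :=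
    LinearMap.pi fun j => (μ j).baseChange t₀.ResidueField
  have hW : Function.Injective W := hinj₀
  have hWt := Module.Flat.lTensor_preserves_injective_linearMap (M := t.ResidueField) W hW
  apply hw0
  refine c.injective (Eq.trans ?_ (map_zero c).symm)
  apply c₀.symm.injective
  rw [map_zero]
  apply hWt
  rw [map_zero]
  apply (TensorProduct.piRight t₀.ResidueField t₀.ResidueField t.ResidueField
    (fun _ : Fin k => t₀.ResidueField ⊗[A] N)).injective
  funext j
  rw [map_zero, Pi.zero_apply]
  have h0 : (μ j).lTensor t.ResidueField (c w) = 0 := c.symm.injective (by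
    rw [hc, c.symm_apply_apply, map_zero]
    exact hkill _ (hall j))
  have hnat : ∀ y : t.ResidueField ⊗[A] N,
      TensorProduct.piRight t₀.ResidueField t₀.ResidueField t.ResidueField
        (fun _ : Fin k => t₀.ResidueField ⊗[A] N) (W.lTensor t.ResidueField (c₀.symm y)) j =
      c₀.symm ((μ j).lTensor t.ResidueField y) := fun y => by
    induction y with
    | zero => simp
    | tmul l n => simp [c₀, W]
    | add u v hu hv => simp only [map_add, Pi.add_apply, hu, hv]
  rw [hnat, h0, map_zero]

/-- A finitely presented flat module, projective at `p`, with a projective étale cover of the fibre, is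
projective over a neighbourhood. -/
theorem spread_of_single_cover [Algebra.FinitePresentation A B] (N : Type u) [AddCommGroup N] [Module B N]
    [Module A N] [IsScalarTower A B N] [Module.FinitePresentation B N] [Module.Flat A N] (p : Ideal A) [p.IsPrime]
    [Module.Projective (Localization.AtPrime p) (Localization.AtPrime p ⊗[A] N)]
    (C : Type u) [CommRing C] [Algebra B C] [Algebra A C] [IsScalarTower A B C] [Algebra.Etale B C]
    [Module.Projective A (C ⊗[B] N)]
    (hcov : ∀ (Q : Ideal B) [Q.IsPrime], Q.LiesOver p →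
      (⟨Q, inferInstance⟩ : PrimeSpectrum B) ∈ Set.range (PrimeSpectrum.comap (algebraMap B C))) :
    ∃ a ∉ p, Module.Projective (Localization.Away a) (Localization.Away a ⊗[A] N) := by
  classical
  let O : Set (PrimeSpectrum B) := Set.range (PrimeSpectrum.comap (algebraMap B C))
  have hO : IsOpen O := (PrimeSpectrum.isOpenMap_comap_of_hasGoingDown_of_finitePresentation).isOpen_range
  let inR : B →+* p.Fiber B := (Algebra.TensorProduct.includeRight : B →ₐ[A] p.Fiber B).toRingHom
  obtain ⟨G, hG⟩ : ∃ G : Finset {b : B // (PrimeSpectrum.basicOpen b : Set (PrimeSpectrum B)) ⊆ O},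
      (Set.univ : Set (PrimeSpectrum (p.Fiber B))) ⊆
        ⋃ b ∈ G, (PrimeSpectrum.comap inR ⁻¹' (PrimeSpectrum.basicOpen b.1 : Set (PrimeSpectrum B))) := by
    refine isCompact_univ.elim_finite_subcover _
      (fun b => (PrimeSpectrum.basicOpen b.1).isOpen.preimage (PrimeSpectrum.continuous_comap inR)) fun x _ => ?_
    have hxO : PrimeSpectrum.comap inR x ∈ O := hcov _ (comap_fibre_prime p x)
    obtain ⟨_, ⟨_, ⟨b, rfl⟩, rfl⟩, hxb, hbO⟩ :=
      PrimeSpectrum.isBasis_basic_opens.exists_subset_of_mem_open hxO hO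
    exact Set.mem_iUnion.mpr ⟨⟨b, hbO⟩, hxb⟩
  let k := G.card
  let g : Fin k → B := fun i => (G.equivFin.symm i).1.1
  have hunit : Ideal.span (Set.range fun i => inR (g i)) = ⊤ := by
    by_contra hne
    obtain ⟨M, hM, hle⟩ := Ideal.exists_le_maximal _ hne
    obtain ⟨b, hb, hxb⟩ := Set.mem_iUnion₂.mp (hG (Set.mem_univ ⟨M, hM.isPrime⟩))
    have : inR (g (G.equivFin ⟨b, hb⟩)) ∈ M := hle (Ideal.subset_span ⟨_, rfl⟩)
    simp only [g, Equiv.symm_apply_apply] at this
    exact hxb this
  obtain ⟨a, ha, hjinj⟩ := InjNhd.exists_nhd g p (joint_injective N p g hunit)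
  refine ⟨a, ha, ?_⟩
  let Aa := Localization.Away a
  let Ba := Aa ⊗[A] B
  haveI := isScalarTower_tensor (A := A) (B := B) Aa
  haveI : Algebra.IsPushout A Aa B Ba := inferInstance
  let Na := Ba ⊗[B] N
  let eNa : Na ≃ₗ[Aa] Aa ⊗[A] N := Algebra.IsPushout.cancelBaseChange A Aa B Ba N
  haveI : Module.Flat Aa Na := Module.Flat.of_linearEquiv eNa
  let Ca := Aa ⊗[A] C
  haveI := isScalarTower_tensor (A := A) (B := C) Aa
  letI : Algebra Ba Ca := (Algebra.TensorProduct.map (AlgHom.id Aa Aa) (IsScalarTower.toAlgHom A B C)).toRingHom.toAlgebra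
  haveI : IsScalarTower Aa Ba Ca := IsScalarTower.of_algebraMap_eq (R := Aa) (S := Ba) (A := Ca) fun x => by
    show x ⊗ₜ[A] (1 : C) = Algebra.TensorProduct.map _ _ (x ⊗ₜ[A] (1 : B))
    simp
  letI : Algebra B Ca := ((algebraMap C Ca).comp (algebraMap B C)).toAlgebra
  haveI : IsScalarTower B C Ca := IsScalarTower.of_algebraMap_eq fun _ => rfl
  haveI : IsScalarTower B Ba Ca := IsScalarTower.of_algebraMap_eq fun b => by
    show (1 : Aa) ⊗ₜ[A] algebraMap B C b = Algebra.TensorProduct.map _ _ ((1 : Aa) ⊗ₜ[A] b)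
    simp
  haveI : Algebra.Etale B Ba := by
    haveI : Algebra.Etale A Aa := Algebra.Etale.of_isLocalizationAway a
    exact Algebra.Etale.of_equiv (Algebra.IsPushout.equiv A B Aa Ba)
  haveI : Algebra.Etale B Ca := by
    haveI : Algebra.Etale A Aa := Algebra.Etale.of_isLocalizationAway a
    haveI : Algebra.Etale C Ca := Algebra.Etale.of_equiv (Algebra.IsPushout.equiv A C Aa Ca)
    exact Algebra.Etale.comp B C Ca
  haveI : Algebra.Etale Ba Ca := Algebra.Etale.of_restrictScalars B Ba Ca
  haveI : Module.Projective Aa (Ca ⊗[Ba] Na) := by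
    let e1 : Ca ⊗[Ba] Na ≃ₗ[Ca] Ca ⊗[B] N := AlgebraTensorModule.cancelBaseChange B Ba Ca Ca N
    let e2 : Ca ⊗[C] (C ⊗[B] N) ≃ₗ[Ca] Ca ⊗[B] N := AlgebraTensorModule.cancelBaseChange B C Ca Ca N
    let e3 : Ca ⊗[C] (C ⊗[B] N) ≃ₗ[Aa] Aa ⊗[A] (C ⊗[B] N) :=
      Algebra.IsPushout.cancelBaseChange A Aa C Ca (C ⊗[B] N)
    exact Module.Projective.of_equiv ((e3.symm.trans (e2.restrictScalars Aa)).trans (e1.symm.restrictScalars Aa))
  haveI : Module.Projective Aa Na := projective_of_covering (R := Aa) (S := Ba) (S' := Ca) Na fun t Q _ _ _ hass => by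
    let Q₀ : Ideal B := Q.comap (algebraMap B Ba)
    let t₀ : Ideal A := t.comap (algebraMap A Aa)
    haveI : Q₀.LiesOver t₀ := ⟨by
      rw [Ideal.under_def, Ideal.comap_comap, ← IsScalarTower.algebraMap_eq, IsScalarTower.algebraMap_eq A Aa Ba,
        ← Ideal.comap_comap]
      exact congrArg (Ideal.comap _) (Q.over_def t)⟩
    have hat : a ∉ t₀ := fun h => Ideal.IsPrime.ne_top ‹_›
      (Ideal.eq_top_of_isUnit_mem t h (IsLocalization.Away.algebraMap_isUnit a))
    obtain ⟨i, hi⟩ := exists_notMem_of_assoc N g Aa t (fun z hz => hjinj t₀ hat z hz) Q hass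
    obtain ⟨z, hz⟩ := (G.equivFin.symm i).1.2 (show (⟨Q₀, inferInstance⟩ : PrimeSpectrum B) ∈ PrimeSpectrum.basicOpen (g i) from hi)
    have hz' : z.asIdeal.comap (algebraMap B C) = Q₀ := congrArg PrimeSpectrum.asIdeal hz
    have hd : Disjoint (Submonoid.powers (algebraMap A C a) : Set C) z.asIdeal :=
      (Ideal.disjoint_powers_iff_notMem _ z.isPrime.isRadical).mpr fun h => hat (by
        rw [← Ideal.mem_comap, IsScalarTower.algebraMap_eq A B C, ← Ideal.comap_comap, hz'] at h
        exact (Q₀.over_def t₀).ge h)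
    haveI : IsLocalization.Away (algebraMap A C a) Ca := by
      have h : IsLocalization (Algebra.algebraMapSubmonoid C (Submonoid.powers a)) Ca := inferInstance
      rw [Algebra.algebraMapSubmonoid_powers] at h
      exact h
    refine ⟨z.asIdeal.map (algebraMap C Ca), IsLocalization.isPrime_of_isPrime_disjoint _ _ _ z.isPrime hd, ?_⟩
    haveI : IsLocalization.Away (algebraMap A B a) Ba := by
      have h : IsLocalization (Algebra.algebraMapSubmonoid B (Submonoid.powers a)) Ba := inferInstance
      rw [Algebra.algebraMapSubmonoid_powers] at h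
      exact h
    haveI := IsLocalization.isPrime_of_isPrime_disjoint _ Ca _ z.isPrime hd
    refine congrArg PrimeSpectrum.asIdeal (PrimeSpectrum.localization_comap_injective Ba
      (Submonoid.powers (algebraMap A B a))
      (a₁ := ⟨(z.asIdeal.map (algebraMap C Ca)).comap (algebraMap Ba Ca), inferInstance⟩) (a₂ := ⟨Q, inferInstance⟩)
      (PrimeSpectrum.ext ?_))
    show ((z.asIdeal.map (algebraMap C Ca)).comap (algebraMap Ba Ca)).comap (algebraMap B Ba) = Q₀
    rw [Ideal.comap_comap, ← IsScalarTower.algebraMap_eq, IsScalarTower.algebraMap_eq B C Ca, ← Ideal.comap_comap,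
      ← Ideal.under_def (A := C), IsLocalization.under_map_of_isPrime_disjoint _ _ z.isPrime hd, hz']
  exact Module.Projective.of_equiv eNa

/-- Projectivity over a neighbourhood descends along an étale map. -/
theorem descend_nhd (N : Type u) [AddCommGroup N] [Module A N] (p : Ideal A) [p.IsPrime]
    (A' : Type u) [CommRing A'] [Algebra A A'] [Algebra.Etale A A'] (p' : Ideal A') [p'.IsPrime] [p'.LiesOver p]
    (a : A') (ha : a ∉ p') [Module.Projective (Localization.Away a) (Localization.Away a ⊗[A] N)] :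
    ∃ f ∉ p, Module.Projective (Localization.Away f) (Localization.Away f ⊗[A] N) := by
  classical
  let Aa := Localization.Away a
  -- descent
  have hopen : IsOpen (Set.range (PrimeSpectrum.comap (algebraMap A Aa))) := by
    haveI : Algebra.Etale A' Aa := Algebra.Etale.of_isLocalizationAway a
    haveI : Algebra.Etale A Aa := Algebra.Etale.comp A A' Aa
    exact (PrimeSpectrum.isOpenMap_comap_of_hasGoingDown_of_finitePresentation).isOpen_range
  have hpmem : (⟨p, inferInstance⟩ : PrimeSpectrum A) ∈ Set.range (PrimeSpectrum.comap (algebraMap A Aa)) := by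
    obtain ⟨P, hP⟩ := (PrimeSpectrum.localization_away_comap_range Aa a).ge (show (⟨p', inferInstance⟩ : PrimeSpectrum A') ∈ PrimeSpectrum.basicOpen a from ha)
    refine ⟨P, PrimeSpectrum.ext ?_⟩
    show P.asIdeal.comap (algebraMap A Aa) = p
    rw [IsScalarTower.algebraMap_eq A A' Aa, ← Ideal.comap_comap]
    exact (congrArg (Ideal.comap _) (congrArg PrimeSpectrum.asIdeal hP)).trans (p'.over_def p).symm
  obtain ⟨_, ⟨_, ⟨f, rfl⟩, rfl⟩, hf, hfsub⟩ := PrimeSpectrum.isBasis_basic_opens.exists_subset_of_mem_open hpmem hopen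
  refine ⟨f, hf, ?_⟩
  let Af := Localization.Away f
  let S := Af ⊗[A] Aa
  haveI := isScalarTower_tensor (A := A) (B := Aa) Af
  haveI : Module.FaithfullyFlat Af S := by
    haveI : Algebra.Etale A' Aa := Algebra.Etale.of_isLocalizationAway a
    haveI : Algebra.Etale A Aa := Algebra.Etale.comp A A' Aa
    refine Module.FaithfullyFlat.of_comap_surjective fun t => ?_
    have htf : t.asIdeal.comap (algebraMap A Af) ∈ {I : Ideal A | f ∉ I} := fun h =>
      t.isPrime.ne_top (Ideal.eq_top_of_isUnit_mem _ h (IsLocalization.Away.algebraMap_isUnit f))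
    obtain ⟨T, hT⟩ := hfsub (show (⟨t.asIdeal.comap (algebraMap A Af), inferInstance⟩ : PrimeSpectrum A) ∈ PrimeSpectrum.basicOpen f from htf)
    haveI : IsLocalization.Away (algebraMap A Aa f) S := by
      have h : IsLocalization (Algebra.algebraMapSubmonoid Aa (Submonoid.powers f)) S := inferInstance
      rw [Algebra.algebraMapSubmonoid_powers] at h
      exact h
    have hd : Disjoint (Submonoid.powers (algebraMap A Aa f) : Set Aa) T.asIdeal :=
      (Ideal.disjoint_powers_iff_notMem _ T.isPrime.isRadical).mpr fun h =>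
        htf ((congrArg PrimeSpectrum.asIdeal hT).le h)
    refine ⟨⟨T.asIdeal.map (algebraMap Aa S), IsLocalization.isPrime_of_isPrime_disjoint _ _ _ T.isPrime hd⟩,
      PrimeSpectrum.localization_comap_injective Af (Submonoid.powers f) (PrimeSpectrum.ext ?_)⟩
    show ((T.asIdeal.map (algebraMap Aa S)).comap (algebraMap Af S)).comap (algebraMap A Af) = t.asIdeal.comap _
    rw [Ideal.comap_comap, ← IsScalarTower.algebraMap_eq, IsScalarTower.algebraMap_eq A Aa S, ← Ideal.comap_comap,
      ← Ideal.under_def (A := Aa), IsLocalization.under_map_of_isPrime_disjoint _ _ T.isPrime hd]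
    exact congrArg PrimeSpectrum.asIdeal hT
  haveI : Module.Projective S (S ⊗[Af] (Af ⊗[A] N)) := by
    exact Module.Projective.of_equiv ((AlgebraTensorModule.cancelBaseChange A Aa S S N).trans
      (AlgebraTensorModule.cancelBaseChange A Af S S N).symm)
  exact S0585.result Af S (Af ⊗[A] N)


/-- If the fibre at `p` is covered by étale-local projective pieces and the module is projective at `p`, it is
projective over a neighbourhood of `p`. -/
theorem spread_of_cover [Algebra.FinitePresentation A B] (N : Type u) [AddCommGroup N] [Module B N] [Module A N]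
    [IsScalarTower A B N] [Module.FinitePresentation B N] [Module.Flat A N] (p : Ideal A) [p.IsPrime]
    [Module.Projective (Localization.AtPrime p) (Localization.AtPrime p ⊗[A] N)]
    (hcov : ∀ (q : Ideal B) [q.IsPrime], q.LiesOver p → LocalCover A N q) :
    ∃ f ∉ p, Module.Projective (Localization.Away f) (Localization.Away f ⊗[A] N) := by
  classical
  let F := p.Fiber B
  let inR : B →+* F := (Algebra.TensorProduct.includeRight : B →ₐ[A] F).toRingHom
  -- finitely many covers of the fibre
  choose A₁ C₁ rA aA rC aBC aA₁C aAC t₁ t₂ hA₁ hC₁ hpr q₁ hq₁ hq₁B using fun x : PrimeSpectrum F =>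
    hcov (x.asIdeal.comap inR) (comap_fibre_prime p x)
  have hOpen : ∀ x, IsOpen (PrimeSpectrum.comap inR ⁻¹' Set.range (PrimeSpectrum.comap (algebraMap B (C₁ x)))) :=
    fun x => by
      haveI := hC₁ x
      exact (PrimeSpectrum.isOpenMap_comap_of_hasGoingDown_of_finitePresentation).isOpen_range.preimage
        (PrimeSpectrum.continuous_comap inR)
  obtain ⟨s, hs⟩ := isCompact_univ.elim_finite_subcover _ hOpen fun x _ =>
    Set.mem_iUnion.mpr ⟨x, ⟨q₁ x, hq₁ x⟩, PrimeSpectrum.ext (hq₁B x)⟩
  let ι : Type u := {x // x ∈ s}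
  haveI : ∀ i : ι, Algebra.Etale A (A₁ i.1) := fun i => hA₁ i.1
  obtain ⟨A', _, _, ψ, _, hsplit⟩ := exists_splitting p (fun i : ι => A₁ i.1)
  choose ρ hρ using hsplit
  haveI := isScalarTower_tensor (A := A) (B := B) A'
  haveI : ∀ i : ι, Finite (A₁ i.1 →ₐ[A] AlgebraicClosure p.ResidueField) := fun i => finite_points p (A₁ i.1)
  let J : Type u := Σ i : ι, (A₁ i.1 →ₐ[A] AlgebraicClosure p.ResidueField)
  haveI : Finite J := inferInstance
  haveI : Fintype J := Fintype.ofFinite J
  have hpiece : ∀ j : J, _ := fun j => by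
    haveI := hC₁ j.1.1
    haveI := hpr j.1.1
    exact exists_piece (B := B) N (A₁ j.1.1) (C₁ j.1.1) A' (ρ j.1 j.2)
  choose Cj rCj aBCj aA'Cj tCj hetj hprj hmapj using hpiece
  let B' := A' ⊗[A] B
  let N' := B' ⊗[B] N
  let p' : Ideal A' := RingHom.ker ψ.toRingHom
  haveI : p'.IsPrime := RingHom.ker_isPrime _
  haveI : p'.LiesOver p := ⟨by
    ext a
    show a ∈ p ↔ ψ (algebraMap A A' a) = 0
    rw [AlgHom.commutes, IsScalarTower.algebraMap_apply A p.ResidueField (AlgebraicClosure p.ResidueField),
      map_eq_zero, Ideal.algebraMap_residueField_eq_zero]⟩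
  let C := Π j, Cj j
  haveI : Algebra.Etale B' C := by
    haveI := hetj
    exact inferInstance
  -- every point over `p'` is covered
  have hcov' : ∀ (Q : Ideal B') [Q.IsPrime], Q.LiesOver p' →
      (⟨Q, inferInstance⟩ : PrimeSpectrum B') ∈ Set.range (PrimeSpectrum.comap (algebraMap B' C)) := by
    intro Q _ hQ
    let q : Ideal B := Q.comap (algebraMap B B')
    haveI hQp : Q.LiesOver p := Ideal.LiesOver.trans Q p' p
    haveI : q.LiesOver p := ⟨by
      rw [Ideal.under_def, Ideal.comap_comap, ← IsScalarTower.algebraMap_eq]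
      exact hQp.over⟩
    let x : PrimeSpectrum F := PrimeSpectrum.primesOverOrderIsoFiber A B p ⟨q, inferInstance, inferInstance⟩
    have hx : x.asIdeal.comap inR = q :=
      congrArg Subtype.val ((PrimeSpectrum.primesOverOrderIsoFiber A B p).symm_apply_apply ⟨q, inferInstance, inferInstance⟩)
    obtain ⟨i, his, hi⟩ := Set.mem_iUnion₂.mp (hs (Set.mem_univ x))
    obtain ⟨⟨z, hz⟩, hzx⟩ := hi
    have hzq : z.comap (algebraMap B (C₁ i)) = q := (congrArg PrimeSpectrum.asIdeal hzx).trans hx
    haveI : z.LiesOver q := ⟨hzq.symm⟩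
    haveI : Q.LiesOver q := ⟨rfl⟩
    letI := Localization.AtPrime.algebraOfLiesOver q z
    letI := Localization.AtPrime.algebraOfLiesOver q Q
    obtain ⟨m, hm⟩ := Ideal.exists_maximal (z.ResidueField ⊗[q.ResidueField] Q.ResidueField)
    let Ω := (z.ResidueField ⊗[q.ResidueField] Q.ResidueField) ⧸ m
    letI : Field Ω := Ideal.Quotient.field m
    let l₁ : z.ResidueField →+* Ω := (Ideal.Quotient.mk m).comp Algebra.TensorProduct.includeLeftRingHom
    let l₂ : Q.ResidueField →+* Ω := (Ideal.Quotient.mk m).comp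
      (Algebra.TensorProduct.includeRight : Q.ResidueField →ₐ[q.ResidueField] _).toRingHom
    have hl : ∀ b : B, l₁ (algebraMap (C₁ i) z.ResidueField (algebraMap B (C₁ i) b)) =
        l₂ (algebraMap B' Q.ResidueField (algebraMap B B' b)) := fun b => by
      rw [← IsScalarTower.algebraMap_apply B (C₁ i) z.ResidueField, ← IsScalarTower.algebraMap_apply B B' Q.ResidueField,
        IsScalarTower.algebraMap_apply B q.ResidueField z.ResidueField,
        IsScalarTower.algebraMap_apply B q.ResidueField Q.ResidueField]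
      exact congrArg (Ideal.Quotient.mk m)
        ((Algebra.TensorProduct.includeLeft : z.ResidueField →ₐ[q.ResidueField] z.ResidueField ⊗[q.ResidueField] Q.ResidueField).commutes
          (algebraMap B q.ResidueField b) |>.trans
        ((Algebra.TensorProduct.includeRight : Q.ResidueField →ₐ[q.ResidueField] z.ResidueField ⊗[q.ResidueField] Q.ResidueField).commutes
          (algebraMap B q.ResidueField b)).symm)
    let γ : B' →+* Ω := l₂.comp (algebraMap B' Q.ResidueField)
    letI : Algebra A Ω := (γ.comp (algebraMap A B')).toAlgebra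
    let f : A' →ₐ[A] Ω :=
      { toRingHom := γ.comp (algebraMap A' B')
        commutes' := fun a => congrArg γ (IsScalarTower.algebraMap_apply A A' B' a).symm }
    let g : C₁ i →ₐ[A] Ω :=
      { toRingHom := l₁.comp (algebraMap (C₁ i) z.ResidueField)
        commutes' := fun a => by
          show l₁ (algebraMap (C₁ i) z.ResidueField (algebraMap A (C₁ i) a)) = γ (algebraMap A B' a)
          rw [IsScalarTower.algebraMap_apply A B (C₁ i), hl, IsScalarTower.algebraMap_apply A B B']
          rfl }
    have hγ : ∀ b : B', γ b = 0 ↔ b ∈ Q := fun b => by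
      show l₂ (algebraMap B' Q.ResidueField b) = 0 ↔ _
      rw [map_eq_zero, Ideal.algebraMap_residueField_eq_zero]
    have hker : RingHom.ker f.toRingHom = RingHom.ker ψ.toRingHom := by
      ext a
      show γ (algebraMap A' B' a) = 0 ↔ a ∈ p'
      rw [hγ, hQ.over]
      rfl
    obtain ⟨φ, hφ⟩ := exists_section p A' (A₁ i) Ω ψ f (g.comp (IsScalarTower.toAlgHom A (A₁ i) (C₁ i))) hker
      (ρ ⟨i, his⟩) (hρ ⟨i, his⟩)
    obtain ⟨h, hh⟩ := hmapj ⟨⟨i, his⟩, φ⟩ Ω f g fun a => AlgHom.congr_fun hφ a
    refine ⟨⟨RingHom.ker (h.comp (Pi.evalRingHom _ (⟨⟨i, his⟩, φ⟩ : J))), RingHom.ker_isPrime _⟩, PrimeSpectrum.ext ?_⟩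
    show (RingHom.ker (h.comp (Pi.evalRingHom _ _))).comap (algebraMap B' C) = Q
    have hcomp : (h.comp (Pi.evalRingHom _ (⟨⟨i, his⟩, φ⟩ : J))).comp (algebraMap B' C) = γ := by
      apply RingHom.ext
      intro (w : A' ⊗[A] B)
      induction w with
      | zero => rw [map_zero, map_zero]
      | tmul a b =>
        show h (algebraMap B' (Cj _) (a ⊗ₜ b)) = γ (a ⊗ₜ b)
        rw [hh]
        show γ (algebraMap A' B' a) * l₁ (algebraMap (C₁ i) z.ResidueField (algebraMap B (C₁ i) b)) = _
        rw [hl]
        show γ (algebraMap A' B' a) * γ (algebraMap B B' b) = _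
        rw [← map_mul]
        congr 1
        show (a ⊗ₜ[A] (1 : B)) * ((1 : A') ⊗ₜ[A] b) = a ⊗ₜ b
        rw [Algebra.TensorProduct.tmul_mul_tmul, mul_one, one_mul]
      | add u v hu hv => rw [map_add, map_add, hu, hv]
    rw [RingHom.comap_ker, hcomp]
    ext b
    exact hγ b
  haveI : Algebra.IsPushout A A' B B' := inferInstance
  let eN : N' ≃ₗ[A'] A' ⊗[A] N := Algebra.IsPushout.cancelBaseChange A A' B B' N
  haveI : Module.Flat A' N' := Module.Flat.of_linearEquiv eN
  let Ap := Localization.AtPrime p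
  let Ap' := Localization.AtPrime p'
  letI := Localization.AtPrime.algebraOfLiesOver p p'
  haveI : Module.Projective Ap' (Ap' ⊗[A'] N') := by
    haveI : Module.Projective Ap' (Ap' ⊗[A] N) := Module.Projective.of_equiv
      (AlgebraTensorModule.cancelBaseChange A Ap Ap' Ap' N)
    exact Module.Projective.of_equiv ((AlgebraTensorModule.cancelBaseChange A A' Ap' Ap' N).symm.trans
      (AlgebraTensorModule.congr (LinearEquiv.refl Ap' Ap') eN.symm))
  haveI : Module.Projective A' (C ⊗[B'] N') := by
    haveI : ∀ j, Module.Projective A' (Cj j ⊗[B'] N') := hprj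
    haveI : Module.Projective A' (Π j, Cj j ⊗[B'] N') :=
      Module.Projective.of_equiv (DFinsupp.linearEquivFunOnFintype (R := A') (M := fun j => Cj j ⊗[B'] N'))
    exact Module.Projective.of_equiv (((TensorProduct.piLeft (R := B') (M := fun j => Cj j) (N := N')).restrictScalars A').symm)
  obtain ⟨a, ha, hproj⟩ := spread_of_single_cover (A := A') (B := B') N' p' C fun Q _ hQ => hcov' Q hQ
  haveI : Module.Projective (Localization.Away a) (Localization.Away a ⊗[A] N) :=
    Module.Projective.of_equiv ((AlgebraTensorModule.congr (LinearEquiv.refl (Localization.Away a) (Localization.Away a)) eN).trans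
      (AlgebraTensorModule.cancelBaseChange A A' (Localization.Away a) (Localization.Away a) N))
  exact descend_nhd N p A' p' a ha

end Groth.Agent.RGFlat.Spreading
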