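import Groth.Agent.RGFlat.SpreadCover

/-!
A single étale cover of a fibre by a projective piece, and projectivity where its image contains the relative
assassins.
-/

set_option autoImplicit false
set_option linter.style.haveILetI false

universe u

open TensorProduct

attribute [local instance] Algebra.TensorProduct.rightAlgebra

namespace Groth.Agent.RGFlat.Spreading

variable {A B : Type u} [CommRing A] [CommRing B] [Algebra A B]

/-- Étale locally on the base, one étale algebra with projective base change covers a fibre. -/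
theorem exists_single_cover [Algebra.FinitePresentation A B] (N : Type u) [AddCommGroup N] [Module B N] [Module A N]
    [IsScalarTower A B N] [Module.FinitePresentation B N] [Module.Flat A N] (p : Ideal A) [p.IsPrime]
    (hcov : ∀ (q : Ideal B) [q.IsPrime], q.LiesOver p → LocalCover A N q) :
    ∃ (A' : Type u) (_ : CommRing A') (_ : Algebra A A') (_ : Algebra.Etale A A') (p' : Ideal A') (_ : p'.IsPrime)
      (_ : p'.LiesOver p) (C : Type u) (_ : CommRing C) (_ : Algebra (A' ⊗[A] B) C) (_ : Algebra A' C)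
      (_ : IsScalarTower A' (A' ⊗[A] B) C),
      Algebra.Etale (A' ⊗[A] B) C ∧ Module.Projective A' (C ⊗[A' ⊗[A] B] ((A' ⊗[A] B) ⊗[B] N)) ∧
        ∀ (Q : Ideal (A' ⊗[A] B)) [Q.IsPrime], Q.LiesOver p' →
          (⟨Q, inferInstance⟩ : PrimeSpectrum (A' ⊗[A] B)) ∈
            Set.range (PrimeSpectrum.comap (algebraMap (A' ⊗[A] B) C)) := by
  classical
  let F := p.Fiber B
  let inR : B →+* F := (Algebra.TensorProduct.includeRight : B →ₐ[A] F).toRingHom
  -- finitely many covers of the fibre
  choose A₁ C₁ rA aA rC aBC aA₁C aAC t₁ t₂ hA₁ hC₁ hpr q₁ hq₁ hq₁B using fun x : PrimeSpectrum F =>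
    hcov (x.asIdeal.comap inR) (comap_fibre_prime p x)
  have hOpen : ∀ x, IsOpen (PrimeSpectrum.comap inR ⁻¹' Set.range (PrimeSpectrum.comap (algebraMap B (C₁ x)))) :=
    fun x => by
      haveI := hC₁ x
      exact (PrimeSpectrum.isOpenMap_comap_of_hasGoingDown_of_finitePresentation).isOpen_range.preimage
        (PrimeSpectrum.continuous_comap inR)
  obtain ⟨s, hs⟩ := isCompact_univ.elim_finite_subcover _ hOpen fun x _ =>
    Set.mem_iUnion.mpr ⟨x, ⟨q₁ x, hq₁ x⟩, PrimeSpectrum.ext (hq₁B x)⟩
  let ι : Type u := {x // x ∈ s}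
  haveI : ∀ i : ι, Algebra.Etale A (A₁ i.1) := fun i => hA₁ i.1
  obtain ⟨A', _, _, ψ, _, hsplit⟩ := exists_splitting p (fun i : ι => A₁ i.1)
  choose ρ hρ using hsplit
  haveI := isScalarTower_tensor (A := A) (B := B) A'
  haveI : ∀ i : ι, Finite (A₁ i.1 →ₐ[A] AlgebraicClosure p.ResidueField) := fun i => finite_points p (A₁ i.1)
  let J : Type u := Σ i : ι, (A₁ i.1 →ₐ[A] AlgebraicClosure p.ResidueField)
  haveI : Finite J := inferInstance
  haveI : Fintype J := Fintype.ofFinite J
  have hpiece : ∀ j : J, _ := fun j => by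
    haveI := hC₁ j.1.1
    haveI := hpr j.1.1
    exact exists_piece (B := B) N (A₁ j.1.1) (C₁ j.1.1) A' (ρ j.1 j.2)
  choose Cj rCj aBCj aA'Cj tCj hetj hprj hmapj using hpiece
  let B' := A' ⊗[A] B
  let N' := B' ⊗[B] N
  let p' : Ideal A' := RingHom.ker ψ.toRingHom
  haveI : p'.IsPrime := RingHom.ker_isPrime _
  haveI : p'.LiesOver p := ⟨by
    ext a
    show a ∈ p ↔ ψ (algebraMap A A' a) = 0
    rw [AlgHom.commutes, IsScalarTower.algebraMap_apply A p.ResidueField (AlgebraicClosure p.ResidueField),
      map_eq_zero, Ideal.algebraMap_residueField_eq_zero]⟩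
  let C := Π j, Cj j
  haveI : Algebra.Etale B' C := by
    haveI := hetj
    exact inferInstance
  -- every point over `p'` is covered
  have hcov' : ∀ (Q : Ideal B') [Q.IsPrime], Q.LiesOver p' →
      (⟨Q, inferInstance⟩ : PrimeSpectrum B') ∈ Set.range (PrimeSpectrum.comap (algebraMap B' C)) := by
    intro Q _ hQ
    let q : Ideal B := Q.comap (algebraMap B B')
    haveI hQp : Q.LiesOver p := Ideal.LiesOver.trans Q p' p
    haveI : q.LiesOver p := ⟨by
      rw [Ideal.under_def, Ideal.comap_comap, ← IsScalarTower.algebraMap_eq]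
      exact hQp.over⟩
    let x : PrimeSpectrum F := PrimeSpectrum.primesOverOrderIsoFiber A B p ⟨q, inferInstance, inferInstance⟩
    have hx : x.asIdeal.comap inR = q :=
      congrArg Subtype.val ((PrimeSpectrum.primesOverOrderIsoFiber A B p).symm_apply_apply ⟨q, inferInstance, inferInstance⟩)
    obtain ⟨i, his, hi⟩ := Set.mem_iUnion₂.mp (hs (Set.mem_univ x))
    obtain ⟨⟨z, hz⟩, hzx⟩ := hi
    have hzq : z.comap (algebraMap B (C₁ i)) = q := (congrArg PrimeSpectrum.asIdeal hzx).trans hx
    haveI : z.LiesOver q := ⟨hzq.symm⟩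
    haveI : Q.LiesOver q := ⟨rfl⟩
    letI := Localization.AtPrime.algebraOfLiesOver q z
    letI := Localization.AtPrime.algebraOfLiesOver q Q
    obtain ⟨m, hm⟩ := Ideal.exists_maximal (z.ResidueField ⊗[q.ResidueField] Q.ResidueField)
    let Ω := (z.ResidueField ⊗[q.ResidueField] Q.ResidueField) ⧸ m
    letI : Field Ω := Ideal.Quotient.field m
    let l₁ : z.ResidueField →+* Ω := (Ideal.Quotient.mk m).comp Algebra.TensorProduct.includeLeftRingHom
    let l₂ : Q.ResidueField →+* Ω := (Ideal.Quotient.mk m).comp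
      (Algebra.TensorProduct.includeRight : Q.ResidueField →ₐ[q.ResidueField] _).toRingHom
    have hl : ∀ b : B, l₁ (algebraMap (C₁ i) z.ResidueField (algebraMap B (C₁ i) b)) =
        l₂ (algebraMap B' Q.ResidueField (algebraMap B B' b)) := fun b => by
      rw [← IsScalarTower.algebraMap_apply B (C₁ i) z.ResidueField, ← IsScalarTower.algebraMap_apply B B' Q.ResidueField,
        IsScalarTower.algebraMap_apply B q.ResidueField z.ResidueField,
        IsScalarTower.algebraMap_apply B q.ResidueField Q.ResidueField]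
      exact congrArg (Ideal.Quotient.mk m)
        ((Algebra.TensorProduct.includeLeft : z.ResidueField →ₐ[q.ResidueField] z.ResidueField ⊗[q.ResidueField] Q.ResidueField).commutes
          (algebraMap B q.ResidueField b) |>.trans
        ((Algebra.TensorProduct.includeRight : Q.ResidueField →ₐ[q.ResidueField] z.ResidueField ⊗[q.ResidueField] Q.ResidueField).commutes
          (algebraMap B q.ResidueField b)).symm)
    let γ : B' →+* Ω := l₂.comp (algebraMap B' Q.ResidueField)
    letI : Algebra A Ω := (γ.comp (algebraMap A B')).toAlgebra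
    let f : A' →ₐ[A] Ω :=
      { toRingHom := γ.comp (algebraMap A' B')
        commutes' := fun a => congrArg γ (IsScalarTower.algebraMap_apply A A' B' a).symm }
    let g : C₁ i →ₐ[A] Ω :=
      { toRingHom := l₁.comp (algebraMap (C₁ i) z.ResidueField)
        commutes' := fun a => by
          show l₁ (algebraMap (C₁ i) z.ResidueField (algebraMap A (C₁ i) a)) = γ (algebraMap A B' a)
          rw [IsScalarTower.algebraMap_apply A B (C₁ i), hl, IsScalarTower.algebraMap_apply A B B']
          rfl }
    have hγ : ∀ b : B', γ b = 0 ↔ b ∈ Q := fun b => by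
      show l₂ (algebraMap B' Q.ResidueField b) = 0 ↔ _
      rw [map_eq_zero, Ideal.algebraMap_residueField_eq_zero]
    have hker : RingHom.ker f.toRingHom = RingHom.ker ψ.toRingHom := by
      ext a
      show γ (algebraMap A' B' a) = 0 ↔ a ∈ p'
      rw [hγ, hQ.over]
      rfl
    obtain ⟨φ, hφ⟩ := exists_section p A' (A₁ i) Ω ψ f (g.comp (IsScalarTower.toAlgHom A (A₁ i) (C₁ i))) hker
      (ρ ⟨i, his⟩) (hρ ⟨i, his⟩)
    obtain ⟨h, hh⟩ := hmapj ⟨⟨i, his⟩, φ⟩ Ω f g fun a => AlgHom.congr_fun hφ a
    refine ⟨⟨RingHom.ker (h.comp (Pi.evalRingHom _ (⟨⟨i, his⟩, φ⟩ : J))), RingHom.ker_isPrime _⟩, PrimeSpectrum.ext ?_⟩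
    show (RingHom.ker (h.comp (Pi.evalRingHom _ _))).comap (algebraMap B' C) = Q
    have hcomp : (h.comp (Pi.evalRingHom _ (⟨⟨i, his⟩, φ⟩ : J))).comp (algebraMap B' C) = γ := by
      apply RingHom.ext
      intro (w : A' ⊗[A] B)
      induction w with
      | zero => rw [map_zero, map_zero]
      | tmul a b =>
        show h (algebraMap B' (Cj _) (a ⊗ₜ b)) = γ (a ⊗ₜ b)
        rw [hh]
        show γ (algebraMap A' B' a) * l₁ (algebraMap (C₁ i) z.ResidueField (algebraMap B (C₁ i) b)) = _
        rw [hl]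
        show γ (algebraMap A' B' a) * γ (algebraMap B B' b) = _
        rw [← map_mul]
        congr 1
        show (a ⊗ₜ[A] (1 : B)) * ((1 : A') ⊗ₜ[A] b) = a ⊗ₜ b
        rw [Algebra.TensorProduct.tmul_mul_tmul, mul_one, one_mul]
      | add u v hu hv => rw [map_add, map_add, hu, hv]
    rw [RingHom.comap_ker, hcomp]
    ext b
    exact hγ b
  haveI : Algebra.IsPushout A A' B B' := inferInstance
  let eN : N' ≃ₗ[A'] A' ⊗[A] N := Algebra.IsPushout.cancelBaseChange A A' B B' N
  haveI : Module.Flat A' N' := Module.Flat.of_linearEquiv eN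
  haveI : Module.Projective A' (C ⊗[B'] N') := by
    haveI : ∀ j, Module.Projective A' (Cj j ⊗[B'] N') := hprj
    haveI : Module.Projective A' (Π j, Cj j ⊗[B'] N') :=
      Module.Projective.of_equiv (DFinsupp.linearEquivFunOnFintype (R := A') (M := fun j => Cj j ⊗[B'] N'))
    exact Module.Projective.of_equiv (((TensorProduct.piLeft (R := B') (M := fun j => Cj j) (N := N')).restrictScalars A').symm)
  refine ⟨A', inferInstance, inferInstance, inferInstance, p', inferInstance, inferInstance, C, inferInstance,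
    inferInstance, inferInstance, inferInstance, inferInstance, inferInstance, ?_⟩
  intro Q _ hQ
  exact hcov' Q hQ

/-- A projective étale piece whose image contains the relative assassins forces projectivity. -/
theorem projective_of_single_cover [Algebra.FinitePresentation A B] (N : Type u) [AddCommGroup N] [Module B N]
    [Module A N] [IsScalarTower A B N] [Module.FinitePresentation B N] [Module.Flat A N]
    (C : Type u) [CommRing C] [Algebra B C] [Algebra A C] [IsScalarTower A B C] [Algebra.Etale B C]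
    [Module.Projective A (C ⊗[B] N)] {k : ℕ} (g : Fin k → B)
    (hg : ∀ i, (PrimeSpectrum.basicOpen (g i) : Set (PrimeSpectrum B)) ⊆
      Set.range (PrimeSpectrum.comap (algebraMap B C)))
    (a : A) (hjinj : ∀ (t : Ideal A) [t.IsPrime], a ∉ t →
      InjNhd.JInj t.ResidueField fun i => (LinearMap.lsmul B N (g i)).restrictScalars A) :
    Module.Projective (Localization.Away a) (Localization.Away a ⊗[A] N) := by
  classical
  let Aa := Localization.Away a
  let Ba := Aa ⊗[A] B
  haveI := isScalarTower_tensor (A := A) (B := B) Aa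
  haveI : Algebra.IsPushout A Aa B Ba := inferInstance
  let Na := Ba ⊗[B] N
  let eNa : Na ≃ₗ[Aa] Aa ⊗[A] N := Algebra.IsPushout.cancelBaseChange A Aa B Ba N
  haveI : Module.Flat Aa Na := Module.Flat.of_linearEquiv eNa
  let Ca := Aa ⊗[A] C
  haveI := isScalarTower_tensor (A := A) (B := C) Aa
  letI : Algebra Ba Ca := (Algebra.TensorProduct.map (AlgHom.id Aa Aa) (IsScalarTower.toAlgHom A B C)).toRingHom.toAlgebra
  haveI : IsScalarTower Aa Ba Ca := IsScalarTower.of_algebraMap_eq (R := Aa) (S := Ba) (A := Ca) fun x => by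
    show x ⊗ₜ[A] (1 : C) = Algebra.TensorProduct.map _ _ (x ⊗ₜ[A] (1 : B))
    simp
  letI : Algebra B Ca := ((algebraMap C Ca).comp (algebraMap B C)).toAlgebra
  haveI : IsScalarTower B C Ca := IsScalarTower.of_algebraMap_eq fun _ => rfl
  haveI : IsScalarTower B Ba Ca := IsScalarTower.of_algebraMap_eq fun b => by
    show (1 : Aa) ⊗ₜ[A] algebraMap B C b = Algebra.TensorProduct.map _ _ ((1 : Aa) ⊗ₜ[A] b)
    simp
  haveI : Algebra.Etale B Ba := by
    haveI : Algebra.Etale A Aa := Algebra.Etale.of_isLocalizationAway a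
    exact Algebra.Etale.of_equiv (Algebra.IsPushout.equiv A B Aa Ba)
  haveI : Algebra.Etale B Ca := by
    haveI : Algebra.Etale A Aa := Algebra.Etale.of_isLocalizationAway a
    haveI : Algebra.Etale C Ca := Algebra.Etale.of_equiv (Algebra.IsPushout.equiv A C Aa Ca)
    exact Algebra.Etale.comp B C Ca
  haveI : Algebra.Etale Ba Ca := Algebra.Etale.of_restrictScalars B Ba Ca
  haveI : Module.Projective Aa (Ca ⊗[Ba] Na) := by
    let e1 : Ca ⊗[Ba] Na ≃ₗ[Ca] Ca ⊗[B] N := AlgebraTensorModule.cancelBaseChange B Ba Ca Ca N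
    let e2 : Ca ⊗[C] (C ⊗[B] N) ≃ₗ[Ca] Ca ⊗[B] N := AlgebraTensorModule.cancelBaseChange B C Ca Ca N
    let e3 : Ca ⊗[C] (C ⊗[B] N) ≃ₗ[Aa] Aa ⊗[A] (C ⊗[B] N) :=
      Algebra.IsPushout.cancelBaseChange A Aa C Ca (C ⊗[B] N)
    exact Module.Projective.of_equiv ((e3.symm.trans (e2.restrictScalars Aa)).trans (e1.symm.restrictScalars Aa))
  haveI : Module.Projective Aa Na := projective_of_covering (R := Aa) (S := Ba) (S' := Ca) Na fun t Q _ _ _ hass => by
    let Q₀ : Ideal B := Q.comap (algebraMap B Ba)
    let t₀ : Ideal A := t.comap (algebraMap A Aa)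
    haveI : Q₀.LiesOver t₀ := ⟨by
      rw [Ideal.under_def, Ideal.comap_comap, ← IsScalarTower.algebraMap_eq, IsScalarTower.algebraMap_eq A Aa Ba,
        ← Ideal.comap_comap]
      exact congrArg (Ideal.comap _) (Q.over_def t)⟩
    have hat : a ∉ t₀ := fun h => Ideal.IsPrime.ne_top ‹_›
      (Ideal.eq_top_of_isUnit_mem t h (IsLocalization.Away.algebraMap_isUnit a))
    obtain ⟨i, hi⟩ := exists_notMem_of_assoc N g Aa t (fun z hz => hjinj t₀ hat z hz) Q hass
    obtain ⟨z, hz⟩ := hg i (show (⟨Q₀, inferInstance⟩ : PrimeSpectrum B) ∈ PrimeSpectrum.basicOpen (g i) from hi)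
    have hz' : z.asIdeal.comap (algebraMap B C) = Q₀ := congrArg PrimeSpectrum.asIdeal hz
    have hd : Disjoint (Submonoid.powers (algebraMap A C a) : Set C) z.asIdeal :=
      (Ideal.disjoint_powers_iff_notMem _ z.isPrime.isRadical).mpr fun h => hat (by
        rw [← Ideal.mem_comap, IsScalarTower.algebraMap_eq A B C, ← Ideal.comap_comap, hz'] at h
        exact (Q₀.over_def t₀).ge h)
    haveI : IsLocalization.Away (algebraMap A C a) Ca := by
      have h : IsLocalization (Algebra.algebraMapSubmonoid C (Submonoid.powers a)) Ca := inferInstance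
      rw [Algebra.algebraMapSubmonoid_powers] at h
      exact h
    refine ⟨z.asIdeal.map (algebraMap C Ca), IsLocalization.isPrime_of_isPrime_disjoint _ _ _ z.isPrime hd, ?_⟩
    haveI : IsLocalization.Away (algebraMap A B a) Ba := by
      have h : IsLocalization (Algebra.algebraMapSubmonoid B (Submonoid.powers a)) Ba := inferInstance
      rw [Algebra.algebraMapSubmonoid_powers] at h
      exact h
    haveI := IsLocalization.isPrime_of_isPrime_disjoint _ Ca _ z.isPrime hd
    refine congrArg PrimeSpectrum.asIdeal (PrimeSpectrum.localization_comap_injective Ba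
      (Submonoid.powers (algebraMap A B a))
      (a₁ := ⟨(z.asIdeal.map (algebraMap C Ca)).comap (algebraMap Ba Ca), inferInstance⟩) (a₂ := ⟨Q, inferInstance⟩)
      (PrimeSpectrum.ext ?_))
    show ((z.asIdeal.map (algebraMap C Ca)).comap (algebraMap Ba Ca)).comap (algebraMap B Ba) = Q₀
    rw [Ideal.comap_comap, ← IsScalarTower.algebraMap_eq, IsScalarTower.algebraMap_eq B C Ca, ← Ideal.comap_comap,
      ← Ideal.under_def (A := C), IsLocalization.under_map_of_isPrime_disjoint _ _ z.isPrime hd, hz']
  exact Module.Projective.of_equiv eNa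


end Groth.Agent.RGFlat.Spreading
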