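import Groth.Agent.RGFlat.SpreadProj
import Groth.Agent.RGFlat.SpreadSingle
import Groth.Agent.RGFlat.JInjLocus
import Groth.Agent.S1219

/-!
Projectivity at a prime descends to a finitely generated stage.
-/

set_option autoImplicit false
set_option linter.style.haveILetI false

universe u

open TensorProduct

attribute [local instance] Algebra.TensorProduct.rightAlgebra

namespace Groth.Agent.RGFlat.Spreading

open InjNhd (JInj)
open Groth.Agent.RGFlat.Impurity

/-- The fibre dimension is bounded. -/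
theorem exists_dim_bound {A B : Type u} [CommRing A] [CommRing B] [Algebra A B] [Algebra.FiniteType A B]
    (N : Type u) [AddCommGroup N] [Module B N] (p : Ideal A) [p.IsPrime] :
    ∃ n : ℕ, ringKrullDim (p.Fiber B ⧸ Module.annihilator (p.Fiber B) (FlatCA.fiberMod p B N)) < n := by
  obtain ⟨k, f, hf⟩ := Algebra.FiniteType.iff_quotient_mvPolynomial''.mp (inferInstance : Algebra.FiniteType A B)
  refine ⟨k.succ, lt_of_le_of_lt ((ringKrullDim_quotient_le _).trans ?_)
    (by exact_mod_cast Nat.lt_succ_self k : (k : WithBot ℕ∞) < (k.succ : ℕ))⟩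
  let π := Algebra.TensorProduct.map (AlgHom.id p.ResidueField p.ResidueField) f
  exact (ringKrullDim_le_of_surjective π.toRingHom
    (Algebra.TensorProduct.map_surjective _ _ Function.surjective_id hf)).trans (ringKrullDim_fiber_le (m := k) p)

/-- A module projective at `p` and flat along the fibre is pure along the fibre. -/
theorem isPureAlong_of_projective_of_flatAt {A B : Type u} [CommRing A] [CommRing B] [Algebra A B]
    [Algebra.FiniteType A B] (N : Type u) [AddCommGroup N] [Module B N] [Module A N] [IsScalarTower A B N]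
    [Module.Finite B N] (p : Ideal A) [p.IsPrime]
    (hflat : ∀ (q : Ideal B) [q.IsPrime], q.LiesOver p → FlatCA.FlatAt A q N)
    [Module.Projective (Localization.AtPrime p) (Localization.AtPrime p ⊗[A] N)] :
    FlatCA.IsPureAlong A B N p := by
  haveI := isScalarTower_tensor (A := A) (B := B) (HP.Hp p)
  haveI : IsScalarTower A B (HP.Sp p B) := this
  haveI : Algebra.IsPushout A (HP.Hp p) B (HP.Sp p B) := inferInstance
  let Ap := Localization.AtPrime p
  haveI := liesOver_max A p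
  have hu : ∀ a : p.primeCompl, IsUnit (algebraMap A (HP.Hp p) a) := fun a =>
    IsLocalRing.notMem_maximalIdeal.mp fun h => a.2 (((IsLocalRing.maximalIdeal (HP.Hp p)).over_def p).ge h)
  letI : Algebra Ap (HP.Hp p) := (IsLocalization.lift (M := p.primeCompl) hu).toAlgebra
  haveI : IsScalarTower A Ap (HP.Hp p) := IsScalarTower.of_algebraMap_eq fun a => (IsLocalization.lift_eq _ a).symm
  haveI : Module.Projective (HP.Hp p) (HP.Hp p ⊗[A] N) :=
    Module.Projective.of_equiv (AlgebraTensorModule.cancelBaseChange A Ap (HP.Hp p) (HP.Hp p) N)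
  haveI : Module.Projective (HP.Hp p) (HP.Sp p B ⊗[B] N) :=
    Module.Projective.of_equiv (Algebra.IsPushout.cancelBaseChange A (HP.Hp p) B (HP.Sp p B) N).symm
  have huniv : FlatCA.IsUnivPureAlong A B N p :=
    isUnivPureAlong_of_specialization hflat fun t' _ Q _ _ hass => S1219.exists_above t' Q hass
  intro A' B' N' _ _ _ _ _ _ _ _ _ _ _ _ _ _ f t' t _ _ P _ _
  exact huniv A' B' N' f t' t P

/-- A module projective at `p` is flat at the primes over `p`. -/
theorem flatAt_of_projective_atPrime {A B : Type u} [CommRing A] [CommRing B] [Algebra A B]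
    (N : Type u) [AddCommGroup N] [Module B N] [Module A N] [IsScalarTower A B N] (p : Ideal A) [p.IsPrime]
    [Module.Projective (Localization.AtPrime p) (Localization.AtPrime p ⊗[A] N)]
    (q : Ideal B) [q.IsPrime] [q.LiesOver p] : FlatCA.FlatAt A q N := by
  let Ap := Localization.AtPrime p
  let Bq := Localization.AtPrime q
  letI := Localization.AtPrime.algebraOfLiesOver p q
  haveI := isScalarTower_tensor (A := A) (B := B) Ap
  let Bp := Ap ⊗[A] B
  haveI : Algebra.IsPushout A Ap B Bp := inferInstance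
  let φ : Bp →ₐ[B] Bq :=
    { toRingHom := (Algebra.TensorProduct.lift (IsScalarTower.toAlgHom A Ap Bq) (IsScalarTower.toAlgHom A B Bq)
        fun _ _ => .all _ _).toRingHom
      commutes' := fun b => by
        show Algebra.TensorProduct.lift _ _ _ ((1 : Ap) ⊗ₜ[A] b) = _
        rw [Algebra.TensorProduct.lift_tmul, map_one, one_mul]
        rfl }
  letI : Algebra Bp Bq := φ.toRingHom.toAlgebra
  haveI : IsScalarTower B Bp Bq := IsScalarTower.of_algebraMap_eq' φ.comp_algebraMap.symm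
  haveI : IsLocalization (Algebra.algebraMapSubmonoid B p.primeCompl) Bp := inferInstance
  haveI : IsScalarTower A Bp Bq := IsScalarTower.of_algebraMap_eq (R := A) (S := Bp) (A := Bq) fun a => by
    rw [IsScalarTower.algebraMap_apply A B Bq, IsScalarTower.algebraMap_apply A B Bp,
      ← IsScalarTower.algebraMap_apply B Bp Bq]
  haveI : Module.Flat B Bq := IsLocalization.flat Bq q.primeCompl
  haveI : Module.Flat Bp Bq :=
    (Module.flat_iff_of_isLocalization Bp (Algebra.algebraMapSubmonoid B p.primeCompl) Bq).mpr inferInstance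
  haveI : Module.Flat A (Bp ⊗[B] N) := by
    haveI : Module.Flat A Ap := IsLocalization.flat Ap p.primeCompl
    haveI : Module.Flat A (Ap ⊗[A] N) := Module.Flat.trans A Ap _
    exact Module.Flat.of_linearEquiv ((Algebra.IsPushout.cancelBaseChange A Ap B Bp N).restrictScalars A)
  haveI : Module.Flat A (Bq ⊗[Bp] (Bp ⊗[B] N)) := flat_tensor A Bp Bq (Bp ⊗[B] N)
  haveI : Module.Flat A (Bq ⊗[B] N) :=
    Module.Flat.of_linearEquiv ((AlgebraTensorModule.cancelBaseChange B Bp Bq Bq N).restrictScalars A).symm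
  exact Module.Flat.of_linearEquiv (((isLocalizedModule_iff_isBaseChange q.primeCompl Bq
    (LocalizedModule.mkLinearMap q.primeCompl N)).mp inferInstance).equiv.restrictScalars A).symm

/-- Joint injectivity around the fibre, seen through the base. -/
theorem exists_good_open {A₁ A'' B' : Type u} [CommRing A₁] [CommRing A''] [CommRing B'] [Algebra A₁ A'']
    [Algebra A₁ B'] [Algebra.FinitePresentation A₁ B']
    (N' : Type u) [AddCommGroup N'] [Module B' N'] [Module A₁ N'] [IsScalarTower A₁ B' N']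
    [Module.FinitePresentation B' N'] {k : ℕ} (g : Fin k → B') (p₁ : Ideal A₁) [p₁.IsPrime]
    (hg : ∀ (Q : Ideal B') [Q.IsPrime], Q.LiesOver p₁ → ∃ i, g i ∉ Q)
    (p'' : Ideal A'') [p''.IsPrime] (hp'' : p''.comap (algebraMap A₁ A'') = p₁)
    [Module.Projective (Localization.AtPrime p'') (Localization.AtPrime p'' ⊗[A₁] N')] :
    ∃ a : A'', a ∉ p'' ∧ ∀ t : PrimeSpectrum A'', a ∉ t.asIdeal →
      JInj (PrimeSpectrum.comap (algebraMap A₁ A'') t).asIdeal.ResidueField
        fun i => (LinearMap.lsmul B' N' (g i)).restrictScalars A₁ := by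
  classical
  haveI := isScalarTower_tensor (A := A₁) (B := B') A''
  let B'' := A'' ⊗[A₁] B'
  haveI : Algebra.IsPushout A₁ A'' B' B'' := inferInstance
  let N'' := B'' ⊗[B'] N'
  let eN : N'' ≃ₗ[A''] A'' ⊗[A₁] N' := Algebra.IsPushout.cancelBaseChange A₁ A'' B' B'' N'
  let Ap := Localization.AtPrime p''
  haveI : Module.Projective Ap (Ap ⊗[A''] N'') := Module.Projective.of_equiv
    ((AlgebraTensorModule.congr (LinearEquiv.refl Ap Ap) eN).trans
      (AlgebraTensorModule.cancelBaseChange A₁ A'' Ap Ap N')).symm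
  let g'' : Fin k → B'' := fun i => algebraMap B' B'' (g i)
  let F := p''.Fiber B''
  let inR : B'' →+* F := (Algebra.TensorProduct.includeRight : B'' →ₐ[A''] p''.Fiber B'').toRingHom
  have hcovF : ∀ x : PrimeSpectrum F, ∃ i, inR (g'' i) ∉ x.asIdeal := by
    intro x
    let Q'' : Ideal B'' := x.asIdeal.comap inR
    haveI : Q''.LiesOver p'' := comap_fibre_prime p'' x
    let Q : Ideal B' := Q''.comap (algebraMap B' B'')
    haveI : Q.IsPrime := Ideal.comap_isPrime _ _
    have hQ : Q.LiesOver p₁ := ⟨by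
      rw [Ideal.under_def, Ideal.comap_comap, ← IsScalarTower.algebraMap_eq, IsScalarTower.algebraMap_eq A₁ A'' B'',
        ← Ideal.comap_comap]
      exact hp''.symm.trans (congrArg (Ideal.comap _) (Q''.over_def p''))⟩
    obtain ⟨i, hi⟩ := hg Q hQ
    exact ⟨i, hi⟩
  have hunit : Ideal.span (Set.range fun i => inR (g'' i)) = ⊤ := by
    by_contra hne
    obtain ⟨M, hM, hle⟩ := Ideal.exists_le_maximal _ hne
    obtain ⟨i, hi⟩ := hcovF ⟨M, hM.isPrime⟩
    exact hi (hle (Ideal.subset_span ⟨i, rfl⟩))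
  obtain ⟨a, ha, hgood⟩ := InjNhd.exists_nhd (N := N'') g'' p'' (joint_injective N'' p'' g'' hunit)
  refine ⟨a, ha, fun t hat => ?_⟩
  let t₁ : Ideal A₁ := t.asIdeal.comap (algebraMap A₁ A'')
  let L := t.asIdeal.ResidueField
  letI : Algebra t₁.ResidueField L := (Ideal.ResidueField.map t₁ t.asIdeal (algebraMap A₁ A'') rfl).toAlgebra
  haveI : IsScalarTower A₁ t₁.ResidueField L := IsScalarTower.of_algebraMap_eq fun x => by
    rw [RingHom.algebraMap_toAlgebra, Ideal.ResidueField.map_algebraMap, ← IsScalarTower.algebraMap_apply]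
  refine (JInjLocus.jinj_field_iff (R := A₁) (K := t₁.ResidueField) (L := L) (M := N') _).mp ?_
  refine (InjNhd.jinj_iff (R₁ := A₁) (R := A'') (M₁ := N') (M := N'') _
    (fun i => (LinearMap.lsmul B'' N'' (g'' i)).restrictScalars A'') eN.symm (fun i y => ?_) L).mp (hgood t.asIdeal hat)
  simp only [LinearMap.coe_restrictScalars, LinearMap.lsmul_apply, g'']
  rw [Algebra.IsPushout.cancelBaseChange_symm_tmul, Algebra.IsPushout.cancelBaseChange_symm_tmul,
    TensorProduct.tmul_smul, algebraMap_smul]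

/-- Projectivity on the base change where the joint injectivity holds downstairs. -/
theorem projective_stage {A₁ A₂ B' C : Type u} [CommRing A₁] [CommRing A₂] [CommRing B'] [CommRing C]
    [Algebra A₁ A₂] [Algebra A₁ B'] [Algebra.FinitePresentation A₁ B'] [Algebra B' C] [Algebra A₁ C]
    [IsScalarTower A₁ B' C] [Algebra.Etale B' C]
    (N' : Type u) [AddCommGroup N'] [Module B' N'] [Module A₁ N'] [IsScalarTower A₁ B' N']
    [Module.FinitePresentation B' N'] [Module.Flat A₁ N'] [Module.Projective A₁ (C ⊗[B'] N')]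
    {k : ℕ} (g : Fin k → B')
    (hgO : ∀ i, (PrimeSpectrum.basicOpen (g i) : Set (PrimeSpectrum B')) ⊆
      Set.range (PrimeSpectrum.comap (algebraMap B' C)))
    (a₂ : A₂) (hgood : ∀ t : PrimeSpectrum A₂, a₂ ∉ t.asIdeal →
      JInj (PrimeSpectrum.comap (algebraMap A₁ A₂) t).asIdeal.ResidueField
        fun i => (LinearMap.lsmul B' N' (g i)).restrictScalars A₁) :
    Module.Projective (Localization.Away a₂) (Localization.Away a₂ ⊗[A₁] N') := by
  classical
  haveI := isScalarTower_tensor (A := A₁) (B := B') A₂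
  let B₂ := A₂ ⊗[A₁] B'
  haveI : Algebra.IsPushout A₁ A₂ B' B₂ := inferInstance
  let N₂ := B₂ ⊗[B'] N'
  let eN : N₂ ≃ₗ[A₂] A₂ ⊗[A₁] N' := Algebra.IsPushout.cancelBaseChange A₁ A₂ B' B₂ N'
  haveI : Module.Flat A₂ N₂ := Module.Flat.of_linearEquiv eN
  let C₂ := A₂ ⊗[A₁] C
  haveI := isScalarTower_tensor (A := A₁) (B := C) A₂
  letI : Algebra B₂ C₂ := (Algebra.TensorProduct.map (AlgHom.id A₂ A₂) (IsScalarTower.toAlgHom A₁ B' C)).toRingHom.toAlgebra
  haveI : IsScalarTower A₂ B₂ C₂ := IsScalarTower.of_algebraMap_eq (R := A₂) (S := B₂) (A := C₂) fun x => by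
    show x ⊗ₜ[A₁] (1 : C) = Algebra.TensorProduct.map _ _ (x ⊗ₜ[A₁] (1 : B'))
    simp
  letI : Algebra B' C₂ := ((algebraMap C C₂).comp (algebraMap B' C)).toAlgebra
  haveI : IsScalarTower B' C C₂ := IsScalarTower.of_algebraMap_eq fun _ => rfl
  haveI : IsScalarTower B' B₂ C₂ := IsScalarTower.of_algebraMap_eq fun b => by
    show (1 : A₂) ⊗ₜ[A₁] algebraMap B' C b = Algebra.TensorProduct.map _ _ ((1 : A₂) ⊗ₜ[A₁] b)
    simp
  haveI : IsScalarTower A₁ B' C₂ := IsScalarTower.of_algebraMap_eq fun x => by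
    rw [IsScalarTower.algebraMap_apply A₁ C C₂, IsScalarTower.algebraMap_apply A₁ B' C,
      ← IsScalarTower.algebraMap_apply B' C C₂]
  haveI : IsScalarTower A₁ B₂ C₂ := IsScalarTower.of_algebraMap_eq fun x => by
    rw [IsScalarTower.algebraMap_apply A₁ B' C₂, IsScalarTower.algebraMap_apply A₁ B' B₂,
      ← IsScalarTower.algebraMap_apply B' B₂ C₂]
  haveI : Algebra.IsPushout A₁ B' A₂ B₂ := Algebra.IsPushout.symm inferInstance
  haveI : Algebra.IsPushout A₁ A₂ C C₂ := inferInstance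
  haveI : Algebra.IsPushout A₁ C A₂ C₂ := Algebra.IsPushout.symm inferInstance
  haveI : Algebra.IsPushout B' C B₂ C₂ :=
    (Algebra.IsPushout.comp_iff (R := A₁) (S := B') (R' := A₂) (S' := B₂) (T := C) (T' := C₂)).mp inferInstance
  haveI : Algebra.IsPushout B' B₂ C C₂ := Algebra.IsPushout.symm inferInstance
  haveI : Algebra.Etale B₂ C₂ := Algebra.Etale.of_equiv (Algebra.IsPushout.equiv B' B₂ C C₂)
  haveI : Module.Projective A₂ (C₂ ⊗[B₂] N₂) := by
    let e1 : C₂ ⊗[B₂] N₂ ≃ₗ[C₂] C₂ ⊗[B'] N' := AlgebraTensorModule.cancelBaseChange B' B₂ C₂ C₂ N'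
    let e2 : C₂ ⊗[C] (C ⊗[B'] N') ≃ₗ[C₂] C₂ ⊗[B'] N' := AlgebraTensorModule.cancelBaseChange B' C C₂ C₂ N'
    let e3 : C₂ ⊗[C] (C ⊗[B'] N') ≃ₗ[A₂] A₂ ⊗[A₁] (C ⊗[B'] N') :=
      Algebra.IsPushout.cancelBaseChange A₁ A₂ C C₂ (C ⊗[B'] N')
    exact Module.Projective.of_equiv ((e3.symm.trans (e2.restrictScalars A₂)).trans (e1.symm.restrictScalars A₂))
  let g₂ : Fin k → B₂ := fun i => algebraMap B' B₂ (g i)
  have hg₂ : ∀ i, (PrimeSpectrum.basicOpen (g₂ i) : Set (PrimeSpectrum B₂)) ⊆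
      Set.range (PrimeSpectrum.comap (algebraMap B₂ C₂)) := by
    intro i Q hQ
    obtain ⟨z, hz⟩ := hgO i (show PrimeSpectrum.comap (algebraMap B' B₂) Q ∈ PrimeSpectrum.basicOpen (g i) from hQ)
    obtain ⟨w, hw, -, hwB⟩ := FlatMor.FlatAtBC.exists_prime_of_pushout (R := B') (S := C) (R' := B₂) (S' := C₂)
      (Q.asIdeal.comap (algebraMap B' B₂)) z.asIdeal Q.asIdeal (congrArg PrimeSpectrum.asIdeal hz) rfl
    exact ⟨⟨w, hw⟩, PrimeSpectrum.ext hwB⟩
  have hproj := projective_of_single_cover (A := A₂) (B := B₂) N₂ C₂ g₂ hg₂ a₂ fun t _ hat => by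
    let t₁ : Ideal A₁ := t.comap (algebraMap A₁ A₂)
    let L := t.ResidueField
    letI : Algebra t₁.ResidueField L := (Ideal.ResidueField.map t₁ t (algebraMap A₁ A₂) rfl).toAlgebra
    haveI : IsScalarTower A₁ t₁.ResidueField L := IsScalarTower.of_algebraMap_eq fun x => by
      rw [RingHom.algebraMap_toAlgebra, Ideal.ResidueField.map_algebraMap, ← IsScalarTower.algebraMap_apply]
    refine (InjNhd.jinj_iff (R₁ := A₁) (R := A₂) (M₁ := N') (M := N₂)
      (fun i => (LinearMap.lsmul B' N' (g i)).restrictScalars A₁) _ eN.symm (fun i y => ?_) L).mpr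
      ((JInjLocus.jinj_field_iff (R := A₁) (K := t₁.ResidueField) (L := L) (M := N') _).mpr
        (hgood ⟨t, inferInstance⟩ hat))
    simp only [LinearMap.coe_restrictScalars, LinearMap.lsmul_apply, g₂]
    rw [Algebra.IsPushout.cancelBaseChange_symm_tmul, Algebra.IsPushout.cancelBaseChange_symm_tmul,
      TensorProduct.tmul_smul, algebraMap_smul]
  haveI := hproj
  let Aa := Localization.Away a₂
  exact Module.Projective.of_equiv ((AlgebraTensorModule.congr (LinearEquiv.refl Aa Aa) eN).trans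
    (AlgebraTensorModule.cancelBaseChange A₁ A₂ Aa Aa N'))

/-- Projectivity at a prime of a flat model descends to every subring containing finitely many elements. -/
theorem exists_finset_projective {R₁ A B₁ : Type u} [CommRing R₁] [IsNoetherianRing R₁] [CommRing A] [CommRing B₁]
    [Algebra R₁ A] [Algebra R₁ B₁] [Algebra.FinitePresentation R₁ B₁]
    (N₁ : Type u) [AddCommGroup N₁] [Module B₁ N₁] [Module R₁ N₁] [IsScalarTower R₁ B₁ N₁]
    [Module.FinitePresentation B₁ N₁] [Module.Flat R₁ N₁] (p : Ideal A) [p.IsPrime]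
    [Module.Projective (Localization.AtPrime p) (Localization.AtPrime p ⊗[R₁] N₁)] :
    ∃ T : Finset A, ∀ (R₂ : Type u) [CommRing R₂] [Algebra R₁ R₂] [Algebra R₂ A] [IsScalarTower R₁ R₂ A],
      Function.Injective (algebraMap R₂ A) → (∀ x ∈ T, x ∈ Set.range (algebraMap R₂ A)) →
        ∀ (p₂ : Ideal R₂) [p₂.IsPrime], p₂ = p.comap (algebraMap R₂ A) →
          Module.Projective (Localization.AtPrime p₂) (Localization.AtPrime p₂ ⊗[R₁] N₁) := by
  classical
  let q₁ : Ideal R₁ := p.comap (algebraMap R₁ A)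
  haveI : q₁.IsPrime := Ideal.comap_isPrime _ _
  obtain ⟨n, hn⟩ := exists_dim_bound (B := B₁) N₁ q₁
  obtain ⟨A₁, _, _, _, p₁, _, _, C, _, _, _, _, hC, hprC, hcov⟩ :=
    exists_single_cover (A := R₁) (B := B₁) N₁ q₁ fun q _ _ =>
      localCover_of_dim_lt (fun s _ => spreads s) N₁ q₁ hn q
  haveI := hC
  haveI := hprC
  haveI := isScalarTower_tensor (A := R₁) (B := B₁) A₁
  let B' := A₁ ⊗[R₁] B₁
  haveI : Algebra.IsPushout R₁ A₁ B₁ B' := inferInstance
  let N' := B' ⊗[B₁] N₁
  haveI : IsNoetherianRing A₁ := Algebra.FiniteType.isNoetherianRing R₁ A₁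
  let eN : N' ≃ₗ[A₁] A₁ ⊗[R₁] N₁ := Algebra.IsPushout.cancelBaseChange R₁ A₁ B₁ B' N₁
  haveI : Module.Flat A₁ N' := Module.Flat.of_linearEquiv eN
  -- basic opens inside the image
  let O : Set (PrimeSpectrum B') := Set.range (PrimeSpectrum.comap (algebraMap B' C))
  have hO : IsOpen O := (PrimeSpectrum.isOpenMap_comap_of_hasGoingDown_of_finitePresentation).isOpen_range
  let inR : B' →+* p₁.Fiber B' := (Algebra.TensorProduct.includeRight : B' →ₐ[A₁] p₁.Fiber B').toRingHom
  obtain ⟨G, hG⟩ : ∃ G : Finset {b : B' // (PrimeSpectrum.basicOpen b : Set (PrimeSpectrum B')) ⊆ O},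
      (Set.univ : Set (PrimeSpectrum (p₁.Fiber B'))) ⊆
        ⋃ b ∈ G, (PrimeSpectrum.comap inR ⁻¹' (PrimeSpectrum.basicOpen b.1 : Set (PrimeSpectrum B'))) := by
    refine isCompact_univ.elim_finite_subcover _
      (fun b => (PrimeSpectrum.basicOpen b.1).isOpen.preimage (PrimeSpectrum.continuous_comap inR)) fun x _ => ?_
    have hxO : PrimeSpectrum.comap inR x ∈ O := hcov _ (comap_fibre_prime p₁ x)
    obtain ⟨_, ⟨_, ⟨b, rfl⟩, rfl⟩, hxb, hbO⟩ :=
      PrimeSpectrum.isBasis_basic_opens.exists_subset_of_mem_open hxO hO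
    exact Set.mem_iUnion.mpr ⟨⟨b, hbO⟩, hxb⟩
  let k := G.card
  let g : Fin k → B' := fun i => (G.equivFin.symm i).1.1
  have hgO : ∀ i, (PrimeSpectrum.basicOpen (g i) : Set (PrimeSpectrum B')) ⊆ O := fun i => (G.equivFin.symm i).1.2
  have hg : ∀ (Q : Ideal B') [Q.IsPrime], Q.LiesOver p₁ → ∃ i, g i ∉ Q := by
    intro Q _ hQ
    let x : PrimeSpectrum (p₁.Fiber B') :=
      PrimeSpectrum.primesOverOrderIsoFiber A₁ B' p₁ ⟨Q, inferInstance, hQ⟩
    have hx : x.asIdeal.comap inR = Q :=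
      congrArg Subtype.val ((PrimeSpectrum.primesOverOrderIsoFiber A₁ B' p₁).symm_apply_apply ⟨Q, inferInstance, hQ⟩)
    obtain ⟨b, hb, hxb⟩ := Set.mem_iUnion₂.mp (hG (Set.mem_univ x))
    refine ⟨G.equivFin ⟨b, hb⟩, fun hm => hxb ?_⟩
    simp only [g, Equiv.symm_apply_apply] at hm
    exact hx.ge hm
  -- the point upstairs
  let A'' := A ⊗[R₁] A₁
  obtain ⟨p'', _, hp''₁, hp''A⟩ := exists_prime_tensor (A := R₁) (B := A₁) A p₁ p (p₁.over_def q₁).symm
  haveI : p''.LiesOver p := ⟨hp''A.symm⟩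
  let Ap'' := Localization.AtPrime p''
  let Ap := Localization.AtPrime p
  letI := Localization.AtPrime.algebraOfLiesOver p p''
  haveI : IsScalarTower R₁ Ap Ap'' := IsScalarTower.of_algebraMap_eq fun x => by
    rw [IsScalarTower.algebraMap_apply R₁ A Ap, ← IsScalarTower.algebraMap_apply A Ap Ap'',
      ← IsScalarTower.algebraMap_apply R₁ A Ap'']
  haveI : Module.Projective Ap'' (Ap'' ⊗[R₁] N₁) :=
    Module.Projective.of_equiv (AlgebraTensorModule.cancelBaseChange R₁ Ap Ap'' Ap'' N₁)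
  haveI : IsScalarTower R₁ A₁ Ap'' := IsScalarTower.of_algebraMap_eq fun x => by
    rw [IsScalarTower.algebraMap_apply A₁ A'' Ap'', IsScalarTower.algebraMap_apply R₁ A'' Ap'']
    congr 1
    exact ((Algebra.TensorProduct.includeRight : A₁ →ₐ[R₁] A'').commutes x).symm
  haveI : Module.Projective Ap'' (Ap'' ⊗[A₁] N') := Module.Projective.of_equiv
    ((AlgebraTensorModule.congr (LinearEquiv.refl Ap'' Ap'') eN).trans
      (AlgebraTensorModule.cancelBaseChange R₁ A₁ Ap'' Ap'' N₁)).symm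
  obtain ⟨a, ha, hgood⟩ := exists_good_open N' g p₁ hg p'' hp''₁
  -- to a finite stage
  let ψ : Fin k → (N' →ₗ[A₁] N') := fun i => (LinearMap.lsmul B' N' (g i)).restrictScalars A₁
  have hE : Topology.IsConstructible {t : PrimeSpectrum A₁ | ¬ JInj t.asIdeal.ResidueField ψ} :=
    (JInjLocus.isConstructible_jinj (P := B') N' g).compl
  obtain ⟨T, hT⟩ := JInjLocus.exists_finset_disjoint hE a fun t ht hbad => hbad (hgood t ht)
  refine ⟨T, fun R₂ _ _ _ _ hinj hR₂ p₂ _ hp₂ => ?_⟩
  obtain ⟨a₂, ha₂a, hgood₂⟩ := hT R₂ hinj hR₂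
  let A₂ := R₂ ⊗[R₁] A₁
  let θ : A₂ →ₐ[R₁] A'' := Algebra.TensorProduct.map (IsScalarTower.toAlgHom R₁ R₂ A) (AlgHom.id R₁ A₁)
  let p₂' : Ideal A₂ := p''.comap θ.toRingHom
  haveI : p₂'.IsPrime := Ideal.comap_isPrime _ _
  haveI : p₂'.LiesOver p₂ := ⟨by
    rw [Ideal.under_def, Ideal.comap_comap, hp₂,
      show θ.toRingHom.comp (algebraMap R₂ A₂) = (algebraMap A A'').comp (algebraMap R₂ A) from RingHom.ext fun x => by
        show θ (x ⊗ₜ 1) = algebraMap R₂ A x ⊗ₜ 1
        rw [Algebra.TensorProduct.map_tmul]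
        rfl,
      ← Ideal.comap_comap, hp''A]⟩
  have ha₂ : a₂ ∉ p₂' := fun h => ha (ha₂a ▸ h)
  haveI : Algebra.IsPushout R₁ R₂ A₁ A₂ := inferInstance
  haveI := isScalarTower_tensor (A := R₁) (B := A₁) R₂
  haveI : Algebra.Etale R₂ A₂ := inferInstance
  have hproj := projective_stage (A₂ := A₂) (C := C) N' g hgO a₂ fun t ht => not_not.mp (hgood₂ t ht)
  -- descend
  let Aa := Localization.Away a₂
  haveI := hproj
  haveI : Module.Projective Aa (Aa ⊗[R₂] (R₂ ⊗[R₁] N₁)) := by
    exact Module.Projective.of_equiv (((AlgebraTensorModule.congr (LinearEquiv.refl Aa Aa) eN).trans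
      (AlgebraTensorModule.cancelBaseChange R₁ A₁ Aa Aa N₁)).trans
        (AlgebraTensorModule.cancelBaseChange R₁ R₂ Aa Aa N₁).symm)
  obtain ⟨f, hf, hproj₂⟩ := descend_nhd (A := R₂) (R₂ ⊗[R₁] N₁) p₂ A₂ p₂' a₂ ha₂
  haveI := hproj₂
  let P₂ := Localization.AtPrime p₂
  letI : Algebra (Localization.Away f) P₂ := (IsLocalization.Away.lift f (g := algebraMap R₂ P₂)
    (IsLocalization.map_units P₂ (⟨f, hf⟩ : p₂.primeCompl))).toAlgebra
  haveI : IsScalarTower R₂ (Localization.Away f) P₂ :=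
    IsScalarTower.of_algebraMap_eq fun x => (IsLocalization.Away.lift_eq f _ x).symm
  haveI : Module.Projective P₂ (P₂ ⊗[R₂] (R₂ ⊗[R₁] N₁)) :=
    Module.Projective.of_equiv (AlgebraTensorModule.cancelBaseChange R₂ (Localization.Away f) P₂ P₂ (R₂ ⊗[R₁] N₁))
  exact Module.Projective.of_equiv (AlgebraTensorModule.cancelBaseChange R₁ R₂ P₂ P₂ N₁)

end Groth.Agent.RGFlat.Spreading
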