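import Groth.Agent.RGFlat.SpreadBasic

/-!
A map from a free module which is bijective at the generic point of a fibre, for a module flat over the base.
-/

set_option autoImplicit false
set_option linter.style.haveILetI false

universe u

open TensorProduct

attribute [local instance] Algebra.TensorProduct.rightAlgebra

namespace Groth.Agent.RGFlat.Spreading

variable {A D : Type u} [CommRing A] [CommRing D] [Algebra A D]

/-- A map of modules bijective after base change stays so after a further base change. -/
theorem baseChange_bijective_trans {X Y : Type u} [AddCommGroup X] [Module D X] [AddCommGroup Y] [Module D Y]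
    (α : X →ₗ[D] Y) (E E' : Type u) [CommRing E] [CommRing E'] [Algebra D E] [Algebra D E'] [Algebra E E']
    [IsScalarTower D E E'] (h : Function.Bijective (α.baseChange E)) : Function.Bijective (α.baseChange E') := by
  let e := LinearEquiv.ofBijective (α.baseChange E) h
  let cX := AlgebraTensorModule.cancelBaseChange D E E' E' X
  let cY := AlgebraTensorModule.cancelBaseChange D E E' E' Y
  have : α.baseChange E' = ((cX.symm.trans (AlgebraTensorModule.congr (LinearEquiv.refl E' E') e)).trans cY).toLinearMap := by
    refine AlgebraTensorModule.ext fun l x => ?_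
    simp [cX, cY, e, LinearEquiv.ofBijective_apply]
  rw [this]
  exact LinearEquiv.bijective _

/-- A map of modules whose iterated base change is bijective is bijective after the composite base change. -/
theorem baseChange_baseChange_bijective {X Y : Type u} [AddCommGroup X] [Module D X] [AddCommGroup Y] [Module D Y]
    (α : X →ₗ[D] Y) (E E' : Type u) [CommRing E] [CommRing E'] [Algebra D E] [Algebra D E'] [Algebra E E']
    [IsScalarTower D E E'] (h : Function.Bijective (α.baseChange E')) :
    Function.Bijective ((α.baseChange E).baseChange E') := by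
  let e := LinearEquiv.ofBijective (α.baseChange E') h
  let cX := AlgebraTensorModule.cancelBaseChange D E E' E' X
  let cY := AlgebraTensorModule.cancelBaseChange D E E' E' Y
  have : (α.baseChange E).baseChange E' = ((cX.trans e).trans cY.symm).toLinearMap := by
    refine AlgebraTensorModule.ext fun l w => cY.injective ?_
    simp only [LinearEquiv.coe_coe, LinearEquiv.trans_apply, LinearEquiv.apply_symm_apply, LinearMap.baseChange_tmul]
    induction w with
    | zero => simp
    | tmul c x => simp [cX, cY, e, LinearEquiv.ofBijective_apply, TensorProduct.smul_tmul']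
    | add a b ha hb => simp only [map_add, TensorProduct.tmul_add, ha, hb]
  rw [this]
  exact LinearEquiv.bijective _

/-- Injectivity after an iterated flat base change. -/
theorem baseChange_injective_of_flat {X Y : Type u} [AddCommGroup X] [Module D X] [AddCommGroup Y] [Module D Y]
    (α : X →ₗ[D] Y) (E E' : Type u) [CommRing E] [CommRing E'] [Algebra D E] [Algebra D E'] [Algebra E E']
    [IsScalarTower D E E'] [Module.Flat E E'] (h : Function.Injective (α.baseChange E)) :
    Function.Injective (α.baseChange E') := by
  let cX := AlgebraTensorModule.cancelBaseChange D E E' E' X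
  let cY := AlgebraTensorModule.cancelBaseChange D E E' E' Y
  have h1 := Module.Flat.lTensor_preserves_injective_linearMap (M := E') (α.baseChange E) h
  have : ∀ w, α.baseChange E' w = cY ((α.baseChange E).lTensor E' (cX.symm w)) := fun w => by
    induction w with
    | zero => simp
    | tmul l x => simp [cX, cY]
    | add a b ha hb => simp only [map_add, ha, hb]
  intro v w hvw
  rw [this, this] at hvw
  exact cX.symm.injective (h1 (cY.injective hvw))

/-- The kernel of the map to the fibre at `p` consists, up to units at `p`, of multiples of `p`. -/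
theorem exists_mul_mem_map (p : Ideal A) [p.IsPrime] {d : D}
    (hd : (Algebra.TensorProduct.includeRight : D →ₐ[A] p.Fiber D) d = 0) :
    ∃ r ∉ p, algebraMap A D r * d ∈ p.map (algebraMap A D) := by
  obtain ⟨r, hr, h⟩ := CAlgA.FibreMod.exists_smul_mem (S := D) (N := D) p (n := d) (by
    show (1 : p.Fiber D) ⊗ₜ[D] d = 0
    rw [show d = d • (1 : D) by rw [smul_eq_mul, mul_one], ← TensorProduct.smul_tmul, Algebra.smul_def, mul_one,
      CAlgA.FibreMod.algebraMap_fiber, hd, TensorProduct.zero_tmul])
  refine ⟨r, hr, ?_⟩
  simpa [CAlgA.FibreMod.pN, Ideal.mul_top] using h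

/-- A map from a free module bijective at the generic point of an irreducible fibre is bijective near it. -/
theorem exists_bijective_away [Algebra.FinitePresentation A D] (G : Type u) [AddCommGroup G] [Module D G] [Module A G]
    [IsScalarTower A D G] [Module.FinitePresentation D G] [Module.Flat A G] (p : Ideal A) [p.IsPrime]
    (ξ : Ideal D) [ξ.IsPrime] [ξ.LiesOver p]
    (hξ : ∀ d ∈ ξ, (Algebra.TensorProduct.includeRight : D →ₐ[A] p.Fiber D) d = 0)
    {r : ℕ} (α : (Fin r → D) →ₗ[D] G) (hα : Function.Bijective (α.baseChange ξ.ResidueField)) :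
    ∃ h ∉ ξ, Function.Bijective (α.baseChange (Localization.Away h)) := by
  classical
  let Dx := Localization.AtPrime ξ
  let GG := Dx ⊗[D] G
  let e : Fin r → D := fun _ => 0
  let v : Fin r → GG := fun i => 1 ⊗ₜ α (Pi.single i 1)
  let β : (Fin r → Dx) →ₗ[Dx] GG := Fintype.linearCombination Dx v
  haveI : Module.Finite Dx GG := inferInstance
  haveI : Module.Flat A GG := flat_tensor A D Dx G
  let k := IsLocalRing.ResidueField Dx
  let bD := Algebra.TensorProduct.basis ξ.ResidueField (Pi.basisFun D (Fin r))
  let bG : Module.Basis (Fin r) ξ.ResidueField (ξ.ResidueField ⊗[D] G) := bD.map (LinearEquiv.ofBijective _ hα)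
  have hbG : ∀ i, bG i = 1 ⊗ₜ α (Pi.single i 1) := fun i => by
    simp [bG, bD, LinearEquiv.ofBijective_apply]
  let cG : k ⊗[Dx] GG ≃ₗ[k] ξ.ResidueField ⊗[D] G := AlgebraTensorModule.cancelBaseChange D Dx k k G
  let bk : Module.Basis (Fin r) k (k ⊗[Dx] GG) := bG.map cG.symm
  have hbk : ∀ i, bk i = 1 ⊗ₜ v i := fun i => by
    simp only [bk, Module.Basis.map_apply, hbG]
    rw [LinearEquiv.symm_apply_eq]
    exact ((AlgebraTensorModule.cancelBaseChange_tmul D Dx k (1 : k) (α (Pi.single i 1)) (1 : Dx)).trans (by rw [one_smul])).symm
  have hsurj : Function.Surjective β := by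
    rw [← LinearMap.range_eq_top, Fintype.range_linearCombination]
    exact IsLocalRing.span_eq_top_of_tmul_eq_basis v bk fun i => (hbk i).symm
  have hbij : Function.Bijective β := by
    refine ⟨?_, hsurj⟩
    haveI : Module.FinitePresentation Dx GG := inferInstance
    let K := LinearMap.ker β
    have hKfg : K.FG := Module.FinitePresentation.fg_ker β hsurj
    rw [← LinearMap.ker_eq_bot]
    refine Submodule.eq_bot_of_le_smul_of_le_jacobson_bot (IsLocalRing.maximalIdeal Dx) K hKfg ?_
      (IsLocalRing.maximalIdeal_le_jacobson _)
    intro x hx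
    have hxm : ∀ i, x i ∈ IsLocalRing.maximalIdeal Dx := by
      have h0 : ∑ i, IsLocalRing.residue Dx (x i) • bk i = 0 := by
        have h1 : (1 : k) ⊗ₜ[Dx] β x = 0 := by rw [LinearMap.mem_ker.mp hx, TensorProduct.tmul_zero]
        simp only [β, Fintype.linearCombination_apply, TensorProduct.tmul_sum, TensorProduct.tmul_smul] at h1
        rw [← h1]
        refine Finset.sum_congr rfl fun i _ => ?_
        rw [hbk, ← algebraMap_smul k (x i)]
        rfl
      intro i
      exact Ideal.Quotient.eq_zero_iff_mem.mp (Fintype.linearIndependent_iff.mp bk.linearIndependent _ h0 i)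
    have hxp : ∀ i, x i ∈ p.map (algebraMap A Dx) := fun i => by
      obtain ⟨d, s, hds⟩ := IsLocalization.exists_mk'_eq ξ.primeCompl (x i)
      have hd : d ∈ ξ := (IsLocalization.AtPrime.mk'_mem_maximal_iff Dx ξ d s).mp (hds ▸ hxm i)
      obtain ⟨a, ha, had⟩ := exists_mul_mem_map p (hξ d hd)
      have h1 : algebraMap D Dx (algebraMap A D a * d) ∈ p.map (algebraMap A Dx) := by
        rw [IsScalarTower.algebraMap_eq A D Dx, ← Ideal.map_map]
        exact Ideal.mem_map_of_mem _ had
      have hu : IsUnit (algebraMap D Dx (algebraMap A D a)) :=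
        IsLocalization.map_units Dx (⟨algebraMap A D a, fun h => ha ((ξ.over_def p).ge h)⟩ : ξ.primeCompl)
      rw [map_mul, Ideal.unit_mul_mem_iff_mem _ hu] at h1
      rw [← hds, ← Ideal.unit_mul_mem_iff_mem _ (IsLocalization.map_units Dx s), IsLocalization.mk'_spec']
      exact h1
    -- reduction modulo `p`
    let iK : K →ₗ[A] (Fin r → Dx) := K.subtype.restrictScalars A
    let bA : (Fin r → Dx) →ₗ[A] GG := β.restrictScalars A
    have hexA : Function.Exact iK bA := LinearMap.exact_subtype_ker_map β
    have hKinj := LinearMap.lTensor_injective_of_exact_of_flat bA hsurj iK K.injective_subtype hexA (A ⧸ p)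
    have hz : iK.lTensor (A ⧸ p) ((1 : A ⧸ p) ⊗ₜ[A] (⟨x, hx⟩ : K)) = 0 := by
      rw [LinearMap.lTensor_tmul]
      show (1 : A ⧸ p) ⊗ₜ[A] x = 0
      have hxs : x ∈ p • (⊤ : Submodule A (Fin r → Dx)) := by
        rw [pi_eq_sum_univ' x]
        refine Submodule.sum_mem _ fun i _ => ?_
        have hmem : x i ∈ (p • (⊤ : Submodule A Dx)) := by
          rw [Ideal.smul_top_eq_map]
          exact hxp i
        refine Submodule.smul_induction_on hmem (fun a ha d _ => ?_) fun d d' hd hd' => by
          rw [add_smul]
          exact add_mem hd hd'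
        rw [smul_assoc]
        exact Submodule.smul_mem_smul ha Submodule.mem_top
      have := (Submodule.Quotient.mk_eq_zero _).mpr hxs
      apply (TensorProduct.quotTensorEquivQuotSMul (Fin r → Dx) p).injective
      rw [map_zero, ← map_one (Ideal.Quotient.mk p), TensorProduct.quotTensorEquivQuotSMul_mk_tmul, one_smul]
      exact this
    have hz' : (⟨x, hx⟩ : K) ∈ p • (⊤ : Submodule A K) := by
      have h0 := hKinj (hz.trans (map_zero _).symm)
      have := congrArg (TensorProduct.quotTensorEquivQuotSMul K p) h0
      rw [map_zero, ← map_one (Ideal.Quotient.mk p), TensorProduct.quotTensorEquivQuotSMul_mk_tmul, one_smul] at this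
      exact (Submodule.Quotient.mk_eq_zero _).mp this
    have hgen : ∀ y ∈ p • (⊤ : Submodule A K), (y : Fin r → Dx) ∈ IsLocalRing.maximalIdeal Dx • K := by
      intro y hy
      refine Submodule.smul_induction_on hy (fun a ha w _ => ?_) fun w w' hw hw' => add_mem hw hw'
      show a • (w : Fin r → Dx) ∈ _
      rw [← algebraMap_smul Dx a]
      refine Submodule.smul_mem_smul ?_ w.2
      have : algebraMap A D a ∈ ξ := (ξ.over_def p).le ha
      rw [IsScalarTower.algebraMap_apply A D Dx]
      exact (IsLocalization.AtPrime.to_map_mem_maximal_iff Dx ξ _).mpr this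
    exact hgen _ hz'
  -- spread out
  let f : (Fin r → D) →ₗ[D] (Fin r → Dx) := LinearMap.pi fun i => (Algebra.linearMap D Dx).comp (LinearMap.proj i)
  let g : G →ₗ[D] GG := TensorProduct.mk D Dx G 1
  haveI : IsLocalizedModule ξ.primeCompl f := IsLocalizedModule.pi ξ.primeCompl (fun _ : Fin r => Algebra.linearMap D Dx)
  haveI : IsLocalizedModule ξ.primeCompl g :=
    (isLocalizedModule_iff_isBaseChange ξ.primeCompl Dx g).mpr (TensorProduct.isBaseChange D G Dx)
  have hmap : IsLocalizedModule.map ξ.primeCompl f g α = β.restrictScalars D := by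
    refine IsLocalizedModule.ext ξ.primeCompl f (IsLocalizedModule.map_units g) ?_
    rw [IsLocalizedModule.map_comp]
    refine (Pi.basisFun D (Fin r)).ext fun i => ?_
    have : f (Pi.single i 1) = Pi.single i 1 := by
      funext j
      by_cases hj : j = i
      · subst hj; simp [f]
      · simp [f, hj]
    simp [this, g, β, v, Fintype.linearCombination_apply_single]
    rfl
  obtain ⟨h, hh, hbijh⟩ := exists_bijective_map_powers ξ.primeCompl f g α (by rw [hmap]; exact hbij)
  refine ⟨h, hh, ?_⟩
  have hb := hbijh h dvd_rfl
  let Dh := Localization.Away h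
  let S := Submonoid.powers h
  let eX := ((isLocalizedModule_iff_isBaseChange S Dh (LocalizedModule.mkLinearMap S (Fin r → D))).mp inferInstance).equiv
  let eY := ((isLocalizedModule_iff_isBaseChange S Dh (LocalizedModule.mkLinearMap S G)).mp inferInstance).equiv
  have : α.baseChange Dh = eY.symm.toLinearMap ∘ₗ LocalizedModule.map S α ∘ₗ eX.toLinearMap := by
    refine AlgebraTensorModule.ext fun l x => eY.injective ?_
    simp only [LinearMap.coe_comp, Function.comp_apply, LinearEquiv.coe_coe, LinearEquiv.apply_symm_apply,
      LinearMap.baseChange_tmul, eX, eY, IsBaseChange.equiv_tmul, map_smul]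
    rw [LocalizedModule.mkLinearMap_apply, LocalizedModule.mkLinearMap_apply, LocalizedModule.map_mk]
  rw [this]
  exact eY.symm.bijective.comp (hb.comp eX.bijective)

end Groth.Agent.RGFlat.Spreading
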