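import Groth.Agent.RGFlat.SpreadDescend
import Groth.Agent.RGFlat.PureProjective
import Groth.Agent.FlatOpen.API
import Groth.Agent.FlatOpen.Descend
import Groth.Agent.FlatOpen.FibreAPI
import Groth.Agent.S1201

/-!
Pure and flat along a fibre: projectivity at the point, finitely generated models.
-/

set_option autoImplicit false
set_option linter.style.haveILetI false

universe u

open TensorProduct

attribute [local instance] Algebra.TensorProduct.rightAlgebra

namespace Groth.Agent.RGFlat.Spreading

open Groth.Agent.RGFlat.Impurity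

/-- A module pure and flat along the fibre at `p` is projective over the local ring at `p`. -/
theorem projective_atPrime_of_pure_of_flatAt {A B : Type u} [CommRing A] [CommRing B] [Algebra A B] [Algebra.FiniteType A B]
    (N : Type u) [AddCommGroup N] [Module B N] [Module A N] [IsScalarTower A B N] [Module.Finite B N]
    (p : Ideal A) [p.IsPrime] (hpure : FlatCA.IsPureAlong A B N p)
    (hflat : ∀ (q : Ideal B) [q.IsPrime], q.LiesOver p → FlatCA.FlatAt A q N) :
    Module.Projective (Localization.AtPrime p) (Localization.AtPrime p ⊗[A] N) := by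
  classical
  obtain ⟨ι, _, g, hproj, hcov⟩ := exists_projective_cover (B := B) N p hflat
  haveI := Fintype.ofFinite ι
  let Ah := HP.Hp p
  let BH := HP.Sp p B
  let NH := BH ⊗[B] N
  haveI : IsScalarTower A B BH := IsScalarTower.of_algebraMap_eq fun a => by
    show algebraMap A (HP.Hp p) a ⊗ₜ[A] (1 : B) = (1 : HP.Hp p) ⊗ₜ[A] algebraMap A B a
    rw [Algebra.algebraMap_eq_smul_one, Algebra.algebraMap_eq_smul_one, TensorProduct.smul_tmul]
  haveI : Algebra.IsPushout A Ah B BH := inferInstance
  let e : NH ≃ₗ[Ah] Ah ⊗[A] N := Algebra.IsPushout.cancelBaseChange A Ah B BH N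
  haveI : Algebra.IsPushout A B Ah BH := Algebra.IsPushout.symm inferInstance
  haveI : Module.Flat Ah NH := FlatOpen.flat_of_forall_flatAt fun Q _ => by
    haveI : (Q.comap (algebraMap Ah BH)).IsPrime := Ideal.comap_isPrime _ _
    haveI : Q.LiesOver (Q.comap (algebraMap Ah BH)) := ⟨rfl⟩
    refine (S1201.result NH (Q.comap (algebraMap Ah BH)) Q).mpr fun q' _ _ hq' hass => ?_
    haveI := hq'
    obtain ⟨Q', _, hle, hQ'⟩ := exists_specialization_of_isPureAlong hpure (Q.comap (algebraMap Ah BH)) q' hass
    refine FlatOpen.flatAt_of_le hle ?_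
    haveI := liesOver_max A p
    have hq : (Q'.comap (algebraMap B BH)).LiesOver p := ⟨by
      rw [Ideal.under_def, Ideal.comap_comap, ← IsScalarTower.algebraMap_eq, IsScalarTower.algebraMap_eq A Ah BH,
        ← Ideal.comap_comap, show Q'.comap (algebraMap Ah BH) = IsLocalRing.maximalIdeal Ah from hQ'.over.symm]
      exact (IsLocalRing.maximalIdeal Ah).over_def p⟩
    exact FlatMor.FlatAtBC.flatAt_of_baseChange (R := A) (S := B) (R' := Ah) (S' := BH)
      (TensorProduct.mk B BH N 1) (TensorProduct.isBaseChange B N BH) (Q'.comap (algebraMap B BH)) Q' rfl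
      (hflat _ hq)
  let S' := Π i, Localization.Away (g i)
  haveI : Module.Flat BH S' := by
    haveI : Algebra.Etale BH S' := HP.etale_prod g
    exact inferInstance
  have hinj := RGFlat.univInj_of_covering (R := Ah) (S := BH) (S' := S') (N := NH) fun t' Q _ _ _ hass => by
    obtain ⟨Q', _, hle, hQ'⟩ := exists_specialization_of_isPureAlong hpure t' Q hass
    obtain ⟨i, hi⟩ := hcov Q' hQ'
    have hd : Disjoint (Submonoid.powers (g i) : Set BH) Q :=
      (Ideal.disjoint_powers_iff_notMem _ (Ideal.IsPrime.isRadical ‹_›)).mpr fun h => hi (hle h)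
    haveI := IsLocalization.isPrime_of_isPrime_disjoint (Submonoid.powers (g i)) (Localization.Away (g i)) Q ‹_› hd
    refine ⟨(Q.map (algebraMap BH (Localization.Away (g i)))).comap (Pi.evalRingHom _ i), Ideal.comap_isPrime _ _, ?_⟩
    rw [Ideal.comap_comap]
    exact IsLocalization.under_map_of_isPrime_disjoint (Submonoid.powers (g i)) (Localization.Away (g i)) ‹_› hd
  haveI : Module.Projective Ah (S' ⊗[BH] NH) := by
    haveI : ∀ i, Module.Projective Ah (Localization.Away (g i) ⊗[BH] NH) := fun i => by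
      haveI := hproj i
      exact Module.Projective.of_equiv (((isLocalizedModule_iff_isBaseChange (Submonoid.powers (g i)) (Localization.Away (g i))
        (LocalizedModule.mkLinearMap (Submonoid.powers (g i)) NH)).mp inferInstance).equiv.restrictScalars Ah).symm
    haveI : Module.Projective Ah (Π i, Localization.Away (g i) ⊗[BH] NH) :=
      Module.Projective.of_equiv (DFinsupp.linearEquivFunOnFintype (R := Ah) (M := fun i => Localization.Away (g i) ⊗[BH] NH))
    exact Module.Projective.of_equiv (((TensorProduct.piLeft (R := BH) (M := fun i => Localization.Away (g i))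
      (N := NH)).restrictScalars Ah).symm)
  have hML : CAlg.IsMittagLeffler Ah NH :=
    MLMod.isMittagLeffler_of_universallyInjective ((TensorProduct.mk BH S' NH 1).restrictScalars Ah)
      (fun X _ _ => (LinearMap.lTensor_inj_iff_rTensor_inj _ _).mp (hinj X))
      (ProjDesc.isMittagLeffler_of_projective Ah _)
  haveI : Module.Projective Ah NH := ProjDesc.projective_of_countable Ah NH hML (HP.countablyGenerated_of_finite (C := BH))
  haveI : Module.Projective Ah (Ah ⊗[A] N) := Module.Projective.of_equiv e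
  let Ap := Localization.AtPrime p
  haveI := liesOver_max A p
  have hu : ∀ a : p.primeCompl, IsUnit (algebraMap A Ah a) := fun a => IsLocalRing.notMem_maximalIdeal.mp fun h =>
    a.2 (((IsLocalRing.maximalIdeal Ah).over_def p).ge h)
  letI : Algebra Ap Ah := (IsLocalization.lift (M := p.primeCompl) hu).toAlgebra
  haveI : IsScalarTower A Ap Ah := IsScalarTower.of_algebraMap_eq fun a => (IsLocalization.lift_eq _ a).symm
  haveI : Module.Flat Ap Ah := (Module.flat_iff_of_isLocalization Ap p.primeCompl Ah).mpr inferInstance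
  haveI : IsLocalHom (algebraMap Ap Ah) := ⟨fun a ha => by
    obtain ⟨b, c, rfl⟩ := IsLocalization.exists_mk'_eq p.primeCompl a
    rw [IsLocalization.AtPrime.isUnit_mk'_iff Ap p b c]
    intro hb
    have h2 : algebraMap A Ah b ∈ IsLocalRing.maximalIdeal Ah := ((IsLocalRing.maximalIdeal Ah).over_def p).le hb
    rw [IsScalarTower.algebraMap_apply A Ap Ah, ← IsLocalization.mk'_spec Ap b c, map_mul] at h2
    exact h2 (ha.mul ((IsLocalization.map_units Ap c).map _))⟩
  haveI : Module.FaithfullyFlat Ap Ah := Module.FaithfullyFlat.of_flat_of_isLocalHom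
  haveI : Module.Projective Ah (Ah ⊗[Ap] (Ap ⊗[A] N)) :=
    Module.Projective.of_equiv (AlgebraTensorModule.cancelBaseChange A Ap Ah Ah N).symm
  exact ProjDesc.projective_of_baseChange Ap Ah _

/-- A base change flat at all points is flat. -/
theorem flat_of_flatAt_pushout {A A' B B' : Type u} [CommRing A] [CommRing A'] [CommRing B] [CommRing B']
    [Algebra A A'] [Algebra A B] [Algebra B B'] [Algebra A' B'] [Algebra A B'] [IsScalarTower A B B']
    [IsScalarTower A A' B'] [Algebra.IsPushout A A' B B'] (N : Type u) [AddCommGroup N] [Module B N] [Module A N]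
    [IsScalarTower A B N]
    (h : ∀ (Q : Ideal B') [Q.IsPrime], FlatCA.FlatAt A (Q.comap (algebraMap B B')) N) :
    Module.Flat A' (A' ⊗[A] N) := by
  haveI : Algebra.IsPushout A B A' B' := Algebra.IsPushout.symm inferInstance
  haveI : Module.Flat A' (B' ⊗[B] N) := FlatOpen.flat_of_forall_flatAt fun Q _ =>
    FlatMor.FlatAtBC.flatAt_of_baseChange (R := A) (S := B) (R' := A') (S' := B')
      (TensorProduct.mk B B' N 1) (TensorProduct.isBaseChange B N B') (Q.comap (algebraMap B B')) Q rfl (h Q)
  exact Module.Flat.of_linearEquiv (Algebra.IsPushout.cancelBaseChange A A' B B' N).symm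

/-- Flatness over the local ring at `p` spreads to a neighbourhood. -/
theorem exists_flat_away {A B : Type u} [CommRing A] [CommRing B] [Algebra A B] [Algebra.FinitePresentation A B]
    (N : Type u) [AddCommGroup N] [Module B N] [Module A N] [IsScalarTower A B N] [Module.FinitePresentation B N]
    (p : Ideal A) [p.IsPrime] [Module.Flat (Localization.AtPrime p) (Localization.AtPrime p ⊗[A] N)] :
    ∃ f ∉ p, Module.Flat (Localization.Away f) (Localization.Away f ⊗[A] N) := by
  classical
  obtain ⟨J, hJ⟩ := (PrimeSpectrum.isClosed_iff_zeroLocus_ideal _).1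
    (FlatOpen.isOpen_flatLocus A B N).isClosed_compl
  let Ap := Localization.AtPrime p
  have hgen : ∀ Q : PrimeSpectrum B, Q.asIdeal.comap (algebraMap A B) ≤ p → FlatCA.FlatAt A Q.asIdeal N := by
    intro Q hQ
    let t := Q.asIdeal.comap (algebraMap A B)
    haveI := isScalarTower_tensor (A := A) (B := B) Ap
    let Bp := Ap ⊗[A] B
    haveI : Algebra.IsPushout A Ap B Bp := inferInstance
    haveI : IsLocalization (Algebra.algebraMapSubmonoid B p.primeCompl) Bp := inferInstance
    let Bq := Localization.AtPrime Q.asIdeal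
    have hu : ∀ y : Algebra.algebraMapSubmonoid B p.primeCompl, IsUnit (algebraMap B Bq y) := by
      rintro ⟨_, x, hx, rfl⟩
      exact IsLocalization.map_units Bq (⟨algebraMap A B x, fun h => hx (hQ h)⟩ : Q.asIdeal.primeCompl)
    letI : Algebra Bp Bq := (IsLocalization.lift (M := Algebra.algebraMapSubmonoid B p.primeCompl) hu).toAlgebra
    haveI : IsScalarTower B Bp Bq := IsScalarTower.of_algebraMap_eq fun x => (IsLocalization.lift_eq _ x).symm
    haveI : IsScalarTower A Bp Bq := IsScalarTower.of_algebraMap_eq (R := A) (S := Bp) (A := Bq) fun a => by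
      rw [IsScalarTower.algebraMap_apply A B Bq, IsScalarTower.algebraMap_apply A B Bp,
        ← IsScalarTower.algebraMap_apply B Bp Bq]
    haveI : Module.Flat B Bq := IsLocalization.flat Bq Q.asIdeal.primeCompl
    haveI : Module.Flat Bp Bq :=
      (Module.flat_iff_of_isLocalization Bp (Algebra.algebraMapSubmonoid B p.primeCompl) Bq).mpr inferInstance
    haveI : Module.Flat A (Bp ⊗[B] N) := by
      haveI : Module.Flat A Ap := IsLocalization.flat Ap p.primeCompl
      haveI : Module.Flat A (Ap ⊗[A] N) := Module.Flat.trans A Ap _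
      exact Module.Flat.of_linearEquiv ((Algebra.IsPushout.cancelBaseChange A Ap B Bp N).restrictScalars A)
    haveI : Module.Flat A (Bq ⊗[Bp] (Bp ⊗[B] N)) := flat_tensor A Bp Bq (Bp ⊗[B] N)
    haveI : Module.Flat A (Bq ⊗[B] N) :=
      Module.Flat.of_linearEquiv ((AlgebraTensorModule.cancelBaseChange B Bp Bq Bq N).restrictScalars A).symm
    exact Module.Flat.of_linearEquiv (((isLocalizedModule_iff_isBaseChange Q.asIdeal.primeCompl Bq
      (LocalizedModule.mkLinearMap Q.asIdeal.primeCompl N)).mp inferInstance).equiv.restrictScalars A).symm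
  obtain ⟨f, hf, hfJ⟩ : ∃ f ∉ p, algebraMap A B f ∈ J := by
    by_contra hc
    push Not at hc
    obtain ⟨P, hP, hle, hdisj⟩ := Ideal.exists_le_prime_disjoint J (Algebra.algebraMapSubmonoid B p.primeCompl)
      (Set.disjoint_left.mpr fun z hz hz' => by
        obtain ⟨x, hx, rfl⟩ := hz'
        exact hc x hx hz)
    have hPp : P.comap (algebraMap A B) ≤ p := fun x hx => by
      by_contra hxp
      exact Set.disjoint_left.mp hdisj hx ⟨x, hxp, rfl⟩
    exact (hJ.ge (show (⟨P, hP⟩ : PrimeSpectrum B) ∈ PrimeSpectrum.zeroLocus (J : Set B) from hle))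
      (hgen ⟨P, hP⟩ hPp)
  refine ⟨f, hf, ?_⟩
  let Af := Localization.Away f
  haveI := isScalarTower_tensor (A := A) (B := B) Af
  haveI : Algebra.IsPushout A Af B (Af ⊗[A] B) := inferInstance
  refine flat_of_flatAt_pushout (A := A) (B := B) (A' := Af) (B' := Af ⊗[A] B) N fun Q _ => ?_
  by_contra hnf
  have hmem : (⟨Q.comap (algebraMap B (Af ⊗[A] B)), inferInstance⟩ : PrimeSpectrum B) ∈
      PrimeSpectrum.zeroLocus (J : Set B) := hJ.le hnf
  have h1 : algebraMap A Af f ∈ Q.comap (algebraMap Af (Af ⊗[A] B)) := by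
    have h2 : algebraMap B (Af ⊗[A] B) (algebraMap A B f) ∈ Q := hmem hfJ
    rw [Ideal.mem_comap, ← IsScalarTower.algebraMap_apply, IsScalarTower.algebraMap_apply A B (Af ⊗[A] B)]
    exact h2
  exact (inferInstance : (Q.comap (algebraMap Af (Af ⊗[A] B))).IsPrime).ne_top
    (Ideal.eq_top_of_isUnit_mem _ h1 (IsLocalization.Away.algebraMap_isUnit f))

/-- A finitely presented algebra and module have a finite type model over a finitely generated subring. -/
theorem exists_module_model (A B : Type u) [CommRing A] [CommRing B] [Algebra A B] [Algebra.FinitePresentation A B]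
    (N : Type u) [AddCommGroup N] [Module B N] [Module.FinitePresentation B N] :
    ∃ (R₁ : Subalgebra ℤ A) (B₁ N₁ : Type u) (_ : CommRing B₁) (_ : Algebra R₁ B₁) (_ : Algebra B₁ B)
      (_ : IsScalarTower R₁ B₁ B) (_ : AddCommGroup N₁) (_ : Module B₁ N₁) (_ : Module B₁ N) (_ : IsScalarTower B₁ B N)
      (g : N₁ →ₗ[B₁] N),
      R₁.FG ∧ Algebra.FiniteType R₁ B₁ ∧ Algebra.IsPushout R₁ A B₁ B ∧ Module.Finite B₁ N₁ ∧ IsBaseChange B g := by
  classical
  obtain ⟨n, K, e, ⟨S, hS⟩⟩ := Module.FinitePresentation.exists_fin B N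
  obtain ⟨R₁, B₁, _, _, _, _, hfg, hft, hpo, hrange⟩ :=
    FlatOpen.exists_ring_model A B (S.biUnion fun v => Finset.univ.image v)
  letI : Module B₁ N := Module.compHom N (algebraMap B₁ B)
  haveI : IsScalarTower B₁ B N := IsScalarTower.of_algebraMap_smul fun _ _ => rfl
  choose! l hl using fun v (hv : v ∈ S) i =>
    hrange (v i) (Finset.mem_biUnion.mpr ⟨v, hv, Finset.mem_image_of_mem _ (Finset.mem_univ i)⟩)
  let K₁ : Submodule B₁ (Fin n → B₁) := Submodule.span B₁ (l '' (S : Set (Fin n → B)))
  let N₁ := (Fin n → B₁) ⧸ K₁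
  let cw : (Fin n → B₁) →ₗ[B₁] (Fin n → B) := (Algebra.linearMap B₁ B).compLeft (Fin n)
  let π : (Fin n → B) →ₗ[B] N := e.symm.toLinearMap.comp K.mkQ
  have hker : K₁ ≤ LinearMap.ker ((π.restrictScalars B₁).comp cw) := by
    rw [Submodule.span_le]
    rintro _ ⟨v, hv, rfl⟩
    show e.symm (Submodule.Quotient.mk (cw (l v))) = 0
    have : cw (l v) = v := funext fun i => hl v hv i
    rw [this, LinearEquiv.map_eq_zero_iff, Submodule.Quotient.mk_eq_zero, ← hS]
    exact Submodule.subset_span hv
  let g : N₁ →ₗ[B₁] N := K₁.liftQ ((π.restrictScalars B₁).comp cw) hker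
  have hg : IsBaseChange B g := by
    let h₀ : (Fin n → B) →ₗ[B] B ⊗[B₁] N₁ :=
      Fintype.linearCombination B fun i => (1 : B) ⊗ₜ[B₁] (Submodule.Quotient.mk (Pi.single i 1) : N₁)
    have hh₀ : ∀ w : Fin n → B₁, h₀ (cw w) = (1 : B) ⊗ₜ[B₁] (Submodule.Quotient.mk w : N₁) := by
      intro w
      conv_rhs => rw [pi_eq_sum_univ' w]
      rw [Fintype.linearCombination_apply, ← Submodule.mkQ_apply, map_sum, TensorProduct.tmul_sum]
      refine Finset.sum_congr rfl fun i _ => ?_
      show algebraMap B₁ B (w i) • ((1 : B) ⊗ₜ[B₁] _) = _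
      rw [algebraMap_smul, ← TensorProduct.tmul_smul, map_smul]
      rfl
    have hK : K ≤ LinearMap.ker h₀ := by
      rw [← hS, Submodule.span_le]
      intro v hv
      show h₀ v = 0
      rw [show v = cw (l v) from (funext fun i => hl v hv i).symm, hh₀,
        (Submodule.Quotient.mk_eq_zero K₁).mpr (Submodule.subset_span ⟨v, hv, rfl⟩), TensorProduct.tmul_zero]
    let back : N →ₗ[B] B ⊗[B₁] N₁ := (K.liftQ h₀ hK).comp e.toLinearMap
    let fwd : B ⊗[B₁] N₁ →ₗ[B] N := LinearMap.liftBaseChange B g
    refine IsBaseChange.of_equiv (LinearEquiv.ofLinear fwd back ?_ ?_) fun x => ?_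
    · refine LinearMap.ext fun y => ?_
      obtain ⟨v, rfl⟩ : ∃ v, π v = y := by
        obtain ⟨v, hv⟩ := K.mkQ_surjective (e y)
        exact ⟨v, by rw [LinearMap.comp_apply, hv]; exact e.symm_apply_apply y⟩
      show fwd (K.liftQ h₀ hK (e (e.symm (K.mkQ v)))) = π v
      rw [e.apply_symm_apply, Submodule.mkQ_apply, Submodule.liftQ_apply, Fintype.linearCombination_apply, map_sum]
      conv_rhs => rw [pi_eq_sum_univ' v, map_sum]
      refine Finset.sum_congr rfl fun i _ => ?_
      rw [map_smul, map_smul, LinearMap.liftBaseChange_tmul, one_smul]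
      congr 1
      show π (cw (Pi.single i 1)) = _
      congr 1
      funext j
      show algebraMap B₁ B ((Pi.single i (1 : B₁) : Fin n → B₁) j) = _
      by_cases hj : j = i
      · subst hj; simp
      · simp [hj, Ne.symm hj]
    · refine LinearMap.ext fun z => ?_
      induction z with
      | zero => rw [map_zero, map_zero]
      | tmul b y =>
        obtain ⟨w, rfl⟩ := Submodule.Quotient.mk_surjective _ y
        show back (fwd (b ⊗ₜ Submodule.Quotient.mk w)) = b ⊗ₜ Submodule.Quotient.mk w
        rw [LinearMap.liftBaseChange_tmul, map_smul]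
        show b • K.liftQ h₀ hK (e (e.symm (Submodule.Quotient.mk (cw w)))) = _
        rw [e.apply_symm_apply, Submodule.liftQ_apply, hh₀, TensorProduct.smul_tmul', smul_eq_mul, mul_one]
      | add x y hx hy => rw [map_add, map_add, hx, hy]
    · show fwd ((1 : B) ⊗ₜ x) = g x
      rw [LinearMap.liftBaseChange_tmul, one_smul]
  exact ⟨R₁, B₁, N₁, inferInstance, inferInstance, inferInstance, inferInstance, inferInstance, inferInstance,
    inferInstance, inferInstance, g, hfg, hft, hpo, inferInstance, hg⟩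

/-- Flatness descends to a finitely generated subalgebra. -/
theorem exists_flat_model {R₁ A : Type u} [CommRing R₁] [CommRing A] [Algebra R₁ A]
    {B₁ : Type u} [CommRing B₁] [Algebra R₁ B₁] [Algebra.FinitePresentation R₁ B₁]
    (N₁ : Type u) [AddCommGroup N₁] [Module B₁ N₁] [Module R₁ N₁] [IsScalarTower R₁ B₁ N₁]
    [Module.FinitePresentation B₁ N₁] [Module.Flat A (A ⊗[R₁] N₁)] :
    ∃ R' : Subalgebra R₁ A, R'.FG ∧ Module.Flat R' (R' ⊗[R₁] N₁) := by
  let ι : Type u := {S : Subalgebra R₁ A // S.FG}
  let G : ι → Type u := fun i => i.1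
  let g : ∀ i j : ι, i ≤ j → G i →+* G j := fun i j h => (Subalgebra.inclusion h).toRingHom
  have hcolim : FlatCA.IsDirectedColimitRing G g A := by
    refine ⟨⟨fun i j => ⟨⟨i.1 ⊔ j.1, i.2.sup j.2⟩, (le_sup_left : i.1 ≤ _), (le_sup_right : j.1 ≤ _)⟩⟩,
      ⟨⟨⊥, Subalgebra.fg_bot⟩⟩, fun i => RingHom.ext fun x => rfl, fun i j k _ _ => RingHom.ext fun x => rfl,
      fun i j h => RingHom.ext fun x => rfl,
      fun a => ⟨⟨Algebra.adjoin R₁ {a}, ⟨{a}, by rw [Finset.coe_singleton]⟩⟩, ⟨a, Algebra.self_mem_adjoin_singleton R₁ a⟩, rfl⟩,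
      fun i x hx => ⟨i, le_rfl, ?_⟩⟩
    exact Subtype.ext hx
  obtain ⟨i, hi⟩ := FlatOpen.exists_stage_flat (A₀ := R₁) G g (fun i j h => RingHom.ext fun r => rfl) A hcolim
    (B₀ := B₁) N₁
  exact ⟨i.1, i.2, hi⟩

end Groth.Agent.RGFlat.Spreading
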