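import Groth.Agent.RGFlat.SpreadGeneric
import Groth.Agent.HP.Points
import Groth.Agent.S1231

/-!
The local cover for a module over a smooth algebra with geometrically integral fibres.
-/

set_option autoImplicit false
set_option linter.style.haveILetI false

universe u

open TensorProduct

attribute [local instance] Algebra.TensorProduct.rightAlgebra

namespace Groth.Agent.RGFlat.Spreading

/-- Spreading of projectivity for modules with fibre support of dimension `< n`. -/
def Spreads (n : ℕ) : Prop :=
  ∀ {A B : Type u} [CommRing A] [CommRing B] [Algebra A B] [Algebra.FinitePresentation A B]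
    (N : Type u) [AddCommGroup N] [Module B N] [Module A N] [IsScalarTower A B N] [Module.FinitePresentation B N]
    [Module.Flat A N] (p : Ideal A) [p.IsPrime],
    ringKrullDim (p.Fiber B ⧸ Module.annihilator (p.Fiber B) (FlatCA.fiberMod p B N)) < n →
    Module.Projective (Localization.AtPrime p) (Localization.AtPrime p ⊗[A] N) →
    ∃ f ∉ p, Module.Projective (Localization.Away f) (Localization.Away f ⊗[A] N)

/-- An extension of a projective module by a projective one is projective. -/
theorem projective_of_exact {R X Y Z : Type u} [CommRing R] [AddCommGroup X] [Module R X] [AddCommGroup Y] [Module R Y]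
    [AddCommGroup Z] [Module R Z] (f : X →ₗ[R] Y) (g : Y →ₗ[R] Z) (hf : Function.Injective f)
    (hex : Function.Exact f g) (hg : Function.Surjective g) [Module.Projective R X] [Module.Projective R Z] :
    Module.Projective R Y := by
  obtain ⟨s, hs⟩ := Module.projective_lifting_property g LinearMap.id hg
  have hs' : ∀ z, g (s z) = z := LinearMap.congr_fun hs
  have hbij : Function.Bijective (f.coprod s) := by
    refine ⟨?_, fun y => ?_⟩
    · rw [injective_iff_map_eq_zero]
      rintro ⟨x, z⟩ h
      simp only [LinearMap.coprod_apply] at h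
      have hz : z = 0 := by
        have := congrArg g h
        rwa [map_add, map_zero, hex.apply_apply_eq_zero, zero_add, hs'] at this
      subst hz
      rw [map_zero, add_zero] at h
      rw [hf (h.trans (map_zero f).symm)]
      rfl
    · obtain ⟨x, hx⟩ := (hex (y - s (g y))).mp (by rw [map_sub, hs', sub_self])
      exact ⟨(x, g y), by rw [LinearMap.coprod_apply, hx, sub_add_cancel]⟩
  exact Module.Projective.of_equiv (LinearEquiv.ofBijective _ hbij)

theorem lt_of_succ_le {x : WithBot ℕ∞} {m : ℕ} (h : x + 1 ≤ (m : WithBot ℕ∞)) : x < (m : WithBot ℕ∞) := by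
  cases x with
  | bot => exact WithBot.bot_lt_coe _
  | coe y =>
    have h' : y + 1 ≤ (m : ℕ∞) := WithBot.coe_le_coe.mp h
    refine WithBot.coe_lt_coe.mpr ?_
    exact (ENat.add_one_le_iff (ne_top_of_le_ne_top (ENat.coe_ne_top m) (le_trans le_self_add h'))).mp h'

variable {A D : Type u} [CommRing A] [CommRing D] [Algebra A D]

/-- Localizing away from a nonzero element on each fibre is universally injective on free modules. -/
theorem univInj_free (hgi : ∀ (K : Type u) [Field K] [Algebra A K], IsDomain (K ⊗[A] D)) [Algebra.FiniteType A D]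
    [Module.Flat A D] (h : D) (a : A)
    (ha : ∀ (t : Ideal A) [t.IsPrime], a ∉ t → ∃ d : Ideal D, d.IsPrime ∧ d.comap (algebraMap A D) = t ∧ h ∉ d)
    (L' : Type u) [CommRing L'] [Algebra (Localization.Away (algebraMap A D a)) L'] [Algebra A L']
    [IsScalarTower A (Localization.Away (algebraMap A D a)) L']
    [IsLocalization.Away (algebraMap D (Localization.Away (algebraMap A D a)) h) L'] (r : ℕ) :
    FlatCA.UnivInj A ((TensorProduct.mk (Localization.Away (algebraMap A D a)) L'
      (Localization.Away (algebraMap A D a) ⊗[D] (Fin r → D)) 1).restrictScalars A) := by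
  classical
  let L := Localization.Away (algebraMap A D a)
  let ML := L ⊗[D] (Fin r → D)
  haveI : Module.Flat L L' := IsLocalization.flat L' (Submonoid.powers (algebraMap D L h))
  haveI : Algebra.FiniteType A L := by
    haveI : Algebra.FiniteType D L := IsLocalization.finiteType_of_monoid_fg (Submonoid.powers (algebraMap A D a)) _
    exact Algebra.FiniteType.trans (inferInstance : Algebra.FiniteType A D) inferInstance
  haveI : Module.Flat D L := IsLocalization.flat L (Submonoid.powers (algebraMap A D a))
  haveI : Module.Flat A (Fin r → D) :=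
    Module.Flat.of_linearEquiv ((Finsupp.linearEquivFunOnFinite A D (Fin r)).symm.trans (finsuppLequivDFinsupp A))
  haveI : Module.Flat A ML := flat_tensor A D L (Fin r → D)
  refine RGFlat.univInj_of_covering fun t q _ _ _ hass => ?_
  let F := t.Fiber L
  let inF : L →+* F := (Algebra.TensorProduct.includeRight : L →ₐ[A] F).toRingHom
  letI : Algebra D F := (inF.comp (algebraMap D L)).toAlgebra
  haveI : IsScalarTower D L F := IsScalarTower.of_algebraMap_eq fun _ => rfl
  have hat : a ∉ t := fun hmem => Ideal.IsPrime.ne_top ‹q.IsPrime› (Ideal.eq_top_of_isUnit_mem q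
    ((q.over_def t).le hmem) (by
      rw [IsScalarTower.algebraMap_apply A D L]
      exact IsLocalization.Away.algebraMap_isUnit _))
  haveI : IsDomain (t.ResidueField ⊗[A] D) := hgi t.ResidueField
  haveI : IsDomain F := isDomain_tensor_loc (A := A) (X := D) (Y := L) (Submonoid.powers (algebraMap A D a))
    t.ResidueField q (by rw [Ideal.ker_algebraMap_residueField]; exact (q.over_def t).symm)
  obtain ⟨d, hd, hdt, hdh⟩ := ha t hat
  have hdisj : Disjoint (Submonoid.powers (algebraMap A D a) : Set D) d :=
    (Ideal.disjoint_powers_iff_notMem _ hd.isRadical).mpr fun hm => hat (hdt.le hm)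
  haveI := IsLocalization.isPrime_of_isPrime_disjoint _ L d hd hdisj
  have hdL : (d.map (algebraMap D L)).comap (algebraMap D L) = d :=
    IsLocalization.under_map_of_isPrime_disjoint _ L hd hdisj
  haveI : (d.map (algebraMap D L)).LiesOver t := ⟨by
    rw [Ideal.under_def, IsScalarTower.algebraMap_eq A D L, ← Ideal.comap_comap, hdL, hdt]⟩
  have hne : inF (algebraMap D L h) ≠ 0 := by
    intro h0
    let x : PrimeSpectrum F := PrimeSpectrum.primesOverOrderIsoFiber A L t ⟨d.map (algebraMap D L), inferInstance, inferInstance⟩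
    have hx : x.asIdeal.comap inF = d.map (algebraMap D L) :=
      congrArg Subtype.val ((PrimeSpectrum.primesOverOrderIsoFiber A L t).symm_apply_apply ⟨d.map (algebraMap D L), inferInstance, inferInstance⟩)
    refine hdh (hdL.le ?_)
    show algebraMap D L h ∈ d.map (algebraMap D L)
    rw [← hx, Ideal.mem_comap, h0]
    exact zero_mem _
  haveI := RGFlat.isNoetherianRing_fiber (S := L) t
  obtain ⟨hP, w, hw⟩ := isAssociatedPrime_iff.mp hass
  have hq0 : algebraMap D L h ∉ q := by
    intro hmem
    have h1 : inF (algebraMap D L h) ∈ FlatCA.fiberIdeal t q := Ideal.mem_map_of_mem _ hmem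
    rw [hw, Submodule.mem_colon_singleton, Submodule.mem_bot] at h1
    let e : (F ⊗[L] ML) ≃ₗ[F] (Fin r → F) :=
      (AlgebraTensorModule.cancelBaseChange D L F F (Fin r → D)).trans (TensorProduct.piScalarRight D F F (Fin r))
    have h2 : inF (algebraMap D L h) • e w = 0 := by
      rw [← map_smul]
      exact (congrArg e h1).trans (map_zero e)
    have hw0 : e w = 0 := funext fun i =>
      (mul_eq_zero.mp (show inF (algebraMap D L h) * e w i = 0 from congrFun h2 i)).resolve_left hne
    refine hP.ne_top ?_
    rw [hw, Ideal.eq_top_iff_one, Submodule.mem_colon_singleton, Submodule.mem_bot, one_smul]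
    exact e.injective (hw0.trans (map_zero e).symm)
  have hdq : Disjoint (Submonoid.powers (algebraMap D L h) : Set L) q :=
    (Ideal.disjoint_powers_iff_notMem _ (Ideal.IsPrime.isRadical ‹_›)).mpr hq0
  exact ⟨q.map (algebraMap L L'), IsLocalization.isPrime_of_isPrime_disjoint _ L' q ‹_› hdq,
    IsLocalization.under_map_of_isPrime_disjoint _ L' ‹_› hdq⟩

/-- The cokernel of the generic comparison is flat, and the comparison injective, off the degenerate locus. -/
theorem exists_flat_coker (hgi : ∀ (K : Type u) [Field K] [Algebra A K], IsDomain (K ⊗[A] D))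
    [Algebra.FinitePresentation A D] [Module.Flat A D]
    (G : Type u) [AddCommGroup G] [Module D G] [Module A G] [IsScalarTower A D G] [Module.Flat A G]
    (p : Ideal A) [p.IsPrime] (ξ : Ideal D) [ξ.IsPrime] [ξ.LiesOver p]
    {r : ℕ} (α : (Fin r → D) →ₗ[D] G) (h : D) (hh : h ∉ ξ)
    (hbij : Function.Bijective (α.baseChange (Localization.Away h))) :
    ∃ a ∉ p, Function.Injective (α.baseChange (Localization.Away (algebraMap A D a))) ∧
      Module.Flat A (Localization.Away (algebraMap A D a) ⊗[D] (G ⧸ LinearMap.range α)) := by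
  classical
  let Dh := Localization.Away h
  haveI : Algebra.FinitePresentation D Dh := IsLocalization.Away.finitePresentation h
  haveI : Algebra.FinitePresentation A Dh := Algebra.FinitePresentation.trans A D Dh
  haveI : Module.Flat D Dh := IsLocalization.flat Dh (Submonoid.powers h)
  haveI : Module.Flat A Dh := Module.Flat.trans A D Dh
  have hopen : IsOpen (Set.range (PrimeSpectrum.comap (algebraMap A Dh))) :=
    (PrimeSpectrum.isOpenMap_comap_of_hasGoingDown_of_finitePresentation).isOpen_range
  have hpmem : (⟨p, inferInstance⟩ : PrimeSpectrum A) ∈ Set.range (PrimeSpectrum.comap (algebraMap A Dh)) := by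
    obtain ⟨P, hP⟩ := (PrimeSpectrum.localization_away_comap_range Dh h).ge
      (show (⟨ξ, inferInstance⟩ : PrimeSpectrum D) ∈ PrimeSpectrum.basicOpen h from hh)
    refine ⟨P, PrimeSpectrum.ext ?_⟩
    show P.asIdeal.comap (algebraMap A Dh) = p
    rw [IsScalarTower.algebraMap_eq A D Dh, ← Ideal.comap_comap]
    exact (congrArg (Ideal.comap _) (congrArg PrimeSpectrum.asIdeal hP)).trans (ξ.over_def p).symm
  obtain ⟨_, ⟨_, ⟨a, rfl⟩, rfl⟩, hap, hsub⟩ :=
    PrimeSpectrum.isBasis_basic_opens.exists_subset_of_mem_open hpmem hopen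
  refine ⟨a, hap, ?_⟩
  have ha : ∀ (t : Ideal A) [t.IsPrime], a ∉ t → ∃ d : Ideal D, d.IsPrime ∧ d.comap (algebraMap A D) = t ∧ h ∉ d := by
    intro t _ hat
    obtain ⟨P, hP⟩ := hsub (show (⟨t, inferInstance⟩ : PrimeSpectrum A) ∈ PrimeSpectrum.basicOpen a from hat)
    refine ⟨P.asIdeal.comap (algebraMap D Dh), inferInstance, ?_, fun hm => P.isPrime.ne_top
      (Ideal.eq_top_of_isUnit_mem _ hm (IsLocalization.Away.algebraMap_isUnit h))⟩
    rw [Ideal.comap_comap, ← IsScalarTower.algebraMap_eq]
    exact congrArg PrimeSpectrum.asIdeal hP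
  let L := Localization.Away (algebraMap A D a)
  let L' := Localization.Away (algebraMap D L h)
  letI : Algebra Dh L' := (IsLocalization.Away.lift h (g := algebraMap D L') (by
    rw [IsScalarTower.algebraMap_apply D L L']
    exact IsLocalization.Away.algebraMap_isUnit _)).toAlgebra
  haveI : IsScalarTower D Dh L' := IsScalarTower.of_algebraMap_eq fun x => (IsLocalization.Away.lift_eq h _ x).symm
  haveI : Module.Flat D L := IsLocalization.flat L (Submonoid.powers (algebraMap A D a))
  let αL := α.baseChange L
  have hαL' : Function.Bijective (αL.baseChange L') :=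
    baseChange_baseChange_bijective α L L' (baseChange_bijective_trans α Dh L' hbij)
  have huniv : CAlgX.UniversallyInjective A (αL.restrictScalars A) := by
    intro X _ _
    rw [← LinearMap.lTensor_inj_iff_rTensor_inj]
    have h1 := univInj_free hgi h a ha L' r X
    let e := LinearEquiv.ofBijective (αL.baseChange L') hαL'
    have hnat : ((TensorProduct.mk L L' (L ⊗[D] G) 1).restrictScalars A) ∘ₗ (αL.restrictScalars A) =
        (e.toLinearMap.restrictScalars A) ∘ₗ
          ((TensorProduct.mk L L' (L ⊗[D] (Fin r → D)) 1).restrictScalars A) := by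
      refine LinearMap.ext fun x => ?_
      simp [e, LinearEquiv.ofBijective_apply]
    refine Function.Injective.of_comp (f := ((TensorProduct.mk L L' (L ⊗[D] G) 1).restrictScalars A).lTensor X) ?_
    rw [← LinearMap.coe_comp, ← LinearMap.lTensor_comp, hnat, LinearMap.lTensor_comp, LinearMap.coe_comp]
    exact (LinearEquiv.lTensor X (e.restrictScalars A)).injective.comp h1
  constructor
  · have h0 := huniv A
    intro u v huv
    apply (TensorProduct.rid A (L ⊗[D] (Fin r → D))).symm.injective
    apply h0
    simp only [TensorProduct.rid_symm_apply, LinearMap.rTensor_tmul]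
    exact congrArg (· ⊗ₜ[A] (1 : A)) huv
  · haveI : Module.Flat A (L ⊗[D] G) := flat_tensor A D L G
    refine (S6269.result (αL.restrictScalars A) ((((LinearMap.range α).mkQ).baseChange L).restrictScalars A) ?_ ?_ huniv).2
    · exact lTensor_exact L (LinearMap.exact_map_mkQ_range α) (LinearMap.range α).mkQ_surjective
    · exact LinearMap.lTensor_surjective L (LinearMap.range α).mkQ_surjective

/-- The base change of the fibres of `D`. -/
theorem isDomain_baseChange (hgi : ∀ (K : Type u) [Field K] [Algebra A K], IsDomain (K ⊗[A] D))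
    (A' : Type u) [CommRing A'] [Algebra A A'] (K : Type u) [Field K] [Algebra A' K] :
    IsDomain (K ⊗[A'] (A' ⊗[A] D)) := by
  letI : Algebra A K := ((algebraMap A' K).comp (algebraMap A A')).toAlgebra
  haveI : IsScalarTower A A' K := IsScalarTower.of_algebraMap_eq fun _ => rfl
  haveI := hgi K
  exact (Algebra.TensorProduct.cancelBaseChange A A' K K D).toRingEquiv.toMulEquiv.isDomain _

/-- The cover at a point of a smooth algebra with geometrically integral fibres. -/
theorem localCover_piece {m : ℕ} (IH : Spreads.{u} m) [Algebra.FinitePresentation A D] [Module.Flat A D]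
    [Algebra (MvPolynomial (Fin m) A) D] [IsScalarTower A (MvPolynomial (Fin m) A) D]
    [Algebra.QuasiFinite (MvPolynomial (Fin m) A) D]
    (hgi : ∀ (K : Type u) [Field K] [Algebra A K], IsDomain (K ⊗[A] D))
    (G : Type u) [AddCommGroup G] [Module D G] [Module A G] [IsScalarTower A D G] [Module.FinitePresentation D G]
    [Module.Flat A G] (y : Ideal D) [y.IsPrime] (p : Ideal A) [p.IsPrime] [y.LiesOver p] :
    LocalCover A G y := by
  classical
  let F := p.Fiber D
  haveI : IsDomain F := hgi p.ResidueField
  let inD : D →+* F := (Algebra.TensorProduct.includeRight : D →ₐ[A] F).toRingHom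
  let ξ : Ideal D := (⊥ : Ideal F).comap inD
  haveI : ξ.IsPrime := Ideal.comap_isPrime _ _
  haveI : ξ.LiesOver p := comap_fibre_prime p ⟨⊥, Ideal.isPrime_bot⟩
  obtain ⟨r, α, hα⟩ := exists_generic_basis G ξ
  obtain ⟨h, hhξ, hbij⟩ := exists_bijective_away G p ξ (fun d hd => hd) α hα
  obtain ⟨a, hap, hinjL, hflatL⟩ := exists_flat_coker hgi G p ξ α h hhξ hbij
  let T := G ⧸ LinearMap.range α
  haveI : Module.FinitePresentation D T := Module.finitePresentation_of_surjective (LinearMap.range α).mkQ
    (LinearMap.range α).mkQ_surjective (by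
      rw [Submodule.ker_mkQ, LinearMap.range_eq_map]
      exact (Module.Finite.fg_top).map α)
  let L := Localization.Away (algebraMap A D a)
  haveI := hflatL
  have hTy : FlatCA.FlatAt A y T := by
    let Dy := Localization.AtPrime y
    have hu : IsUnit (algebraMap D Dy (algebraMap A D a)) :=
      IsLocalization.map_units Dy (⟨algebraMap A D a, fun hm => hap ((y.over_def p).ge hm)⟩ : y.primeCompl)
    letI : Algebra L Dy := (IsLocalization.Away.lift (algebraMap A D a) hu).toAlgebra
    haveI : IsScalarTower D L Dy := IsScalarTower.of_algebraMap_eq fun x => (IsLocalization.Away.lift_eq _ hu x).symm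
    haveI : IsScalarTower A L Dy := IsScalarTower.of_algebraMap_eq fun x => by
      rw [IsScalarTower.algebraMap_apply A D Dy, IsScalarTower.algebraMap_apply A D L,
        ← IsScalarTower.algebraMap_apply D L Dy]
    haveI : Module.Flat D Dy := IsLocalization.flat Dy y.primeCompl
    haveI : Module.Flat L Dy := (Module.flat_iff_of_isLocalization L (Submonoid.powers (algebraMap A D a)) Dy).mpr ‹_›
    haveI : Module.Flat A (Dy ⊗[L] (L ⊗[D] T)) := flat_tensor A L Dy (L ⊗[D] T)
    haveI : Module.Flat A (Dy ⊗[D] T) :=
      Module.Flat.of_linearEquiv ((AlgebraTensorModule.cancelBaseChange D L Dy Dy T).restrictScalars A).symm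
    exact Module.Flat.of_linearEquiv (((isLocalizedModule_iff_isBaseChange y.primeCompl Dy
      (LocalizedModule.mkLinearMap y.primeCompl T)).mp inferInstance).equiv.restrictScalars A).symm
  obtain ⟨A', _, _, p', _, hnhd, hHP⟩ := HP.exists_nhd_point p T y hTy
  haveI : Algebra.Etale A A' := hnhd.1
  haveI : p'.LiesOver p := hnhd.2.1
  let Ap' := Localization.AtPrime p'
  let E := A' ⊗[A] D
  haveI := isScalarTower_tensor (A := A) (B := D) A'
  let SA := Ap' ⊗[A'] E
  haveI := isScalarTower_tensor (A := A') (B := E) Ap'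
  letI : Algebra D SA := ((algebraMap E SA).comp (algebraMap D E)).toAlgebra
  haveI : IsScalarTower D E SA := IsScalarTower.of_algebraMap_eq fun _ => rfl
  haveI : IsScalarTower A E SA := IsScalarTower.of_algebraMap_eq fun x => by
    rw [IsScalarTower.algebraMap_apply A A' E, ← IsScalarTower.algebraMap_apply A' E SA,
      ← IsScalarTower.algebraMap_apply A A' SA]
  haveI : IsScalarTower A D SA := IsScalarTower.of_algebraMap_eq fun x => by
    rw [IsScalarTower.algebraMap_apply A E SA, IsScalarTower.algebraMap_apply A D E]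
    rfl
  haveI : Algebra.IsPushout A A' D E := inferInstance
  haveI : Algebra.IsPushout A' Ap' E SA := inferInstance
  haveI : Algebra.IsPushout A Ap' D SA :=
    (Algebra.IsPushout.comp_iff (R := A) (S := A') (R' := D) (S' := E) (T := Ap') (T' := SA)).mpr inferInstance
  haveI : Algebra.IsPushout A D Ap' SA := Algebra.IsPushout.symm inferInstance
  obtain ⟨g, ⟨Q, hQ, hQy, hQm⟩, hgQ, hfree⟩ := hHP SA
  have hgQ' := (hgQ Q hQy hQm).1
  let S₀ := Algebra.algebraMapSubmonoid E p'.primeCompl
  haveI : IsLocalization S₀ SA := inferInstance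
  obtain ⟨⟨g₁, s⟩, hgs⟩ := IsLocalization.surj S₀ g
  have hap' : a ∉ p := hap
  let aE : E := algebraMap A E a
  have hau : IsUnit (algebraMap E SA aE) := by
    rw [← IsScalarTower.algebraMap_apply A E SA, IsScalarTower.algebraMap_apply A Ap' SA]
    refine IsUnit.map _ ?_
    rw [IsScalarTower.algebraMap_apply A A' Ap']
    exact IsLocalization.map_units Ap' (⟨algebraMap A A' a, fun hm => hap ((p'.over_def p).ge hm)⟩ : p'.primeCompl)
  let g' : E := g₁ * aE
  have hassoc : Associated (algebraMap E SA g') g := by
    refine Associated.symm ⟨((IsLocalization.map_units SA s).mul hau).unit, ?_⟩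
    rw [IsUnit.unit_spec, map_mul, ← mul_assoc, hgs]
  let Eg := Localization.Away g'
  -- primes of `E` over `p'`
  let Q₁ : Ideal E := Q.comap (algebraMap E SA)
  have hQ₁p : Q₁.comap (algebraMap A' E) = p' := by
    rw [Ideal.comap_comap, ← IsScalarTower.algebraMap_eq, IsScalarTower.algebraMap_eq A' Ap' SA, ← Ideal.comap_comap]
    exact (congrArg (Ideal.comap _) hQm.over.symm).trans Localization.AtPrime.under_maximalIdeal
  have hQ₁y : Q₁.comap (algebraMap D E) = y := by
    rw [Ideal.comap_comap, ← IsScalarTower.algebraMap_eq]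
    exact hQy.over.symm
  have hgQ₁ : g' ∉ Q₁ := fun hm => hgQ' ((hassoc.dvd).elim fun c hc => hc ▸ Ideal.mul_mem_right c _ hm)
  obtain ⟨Q₂, hQ₂, hQ₂ξ, hQ₂p⟩ := exists_prime_tensor (A := A) (B := D) A' ξ p'
    ((ξ.over_def p).symm.trans (p'.over_def p))
  let hE : E := algebraMap D E h
  have hhQ₂ : hE ∉ Q₂ := fun hm => hhξ (hQ₂ξ.le hm)
  haveI hdomE : IsDomain (p'.Fiber E) := isDomain_baseChange hgi A' p'.ResidueField
  let inE : E →+* p'.Fiber E := (Algebra.TensorProduct.includeRight : E →ₐ[A'] p'.Fiber E).toRingHom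
  let η : Ideal E := (⊥ : Ideal (p'.Fiber E)).comap inE
  haveI : η.IsPrime := Ideal.comap_isPrime _ _
  haveI hηp : η.LiesOver p' := comap_fibre_prime p' ⟨⊥, Ideal.isPrime_bot⟩
  have hηle : ∀ (q : Ideal E) [q.IsPrime], q.comap (algebraMap A' E) = p' → η ≤ q := by
    intro q _ hq
    haveI : q.LiesOver p' := ⟨hq.symm⟩
    let x := PrimeSpectrum.primesOverOrderIsoFiber A' E p' ⟨q, inferInstance, inferInstance⟩
    have hx : x.asIdeal.comap inE = q :=
      congrArg Subtype.val ((PrimeSpectrum.primesOverOrderIsoFiber A' E p').symm_apply_apply ⟨q, inferInstance, inferInstance⟩)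
    rw [← hx]
    exact Ideal.comap_mono bot_le
  have hgη : g' ∉ η := fun hm => hgQ₁ (hηle Q₁ hQ₁p hm)
  have hhη : hE ∉ η := fun hm => hhQ₂ (hηle Q₂ hQ₂p hm)
  -- the cokernel over `E_g`
  haveI : Algebra.Etale D E := Algebra.Etale.of_equiv (Algebra.IsPushout.equiv A D A' E)
  haveI : Algebra.Etale E Eg := Algebra.Etale.of_isLocalizationAway g'
  haveI : Algebra.Etale D Eg := Algebra.Etale.comp D E Eg
  haveI : Algebra.FinitePresentation A' Eg := Algebra.FinitePresentation.trans A' E Eg
  have haEg : IsUnit (algebraMap D Eg (algebraMap A D a)) := by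
    rw [IsScalarTower.algebraMap_apply D E Eg, ← IsScalarTower.algebraMap_apply A D E]
    exact isUnit_of_dvd_unit (map_dvd _ (Dvd.intro_left g₁ rfl)) (IsLocalization.Away.algebraMap_isUnit g')
  letI : Algebra L Eg := (IsLocalization.Away.lift (algebraMap A D a) haEg).toAlgebra
  haveI : IsScalarTower D L Eg := IsScalarTower.of_algebraMap_eq fun x => (IsLocalization.Away.lift_eq _ haEg x).symm
  haveI : IsScalarTower A L Eg := IsScalarTower.of_algebraMap_eq fun x => by
    rw [IsScalarTower.algebraMap_apply A D L, ← IsScalarTower.algebraMap_apply D L Eg,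
      IsScalarTower.algebraMap_apply D E Eg, ← IsScalarTower.algebraMap_apply A D E,
      ← IsScalarTower.algebraMap_apply A E Eg]
  haveI : Algebra.Etale D L := Algebra.Etale.of_isLocalizationAway (algebraMap A D a)
  haveI : Algebra.Etale L Eg := Algebra.Etale.of_restrictScalars D L Eg
  let T' := Eg ⊗[D] T
  haveI : IsScalarTower A A' T' := IsScalarTower.of_algebraMap_smul fun x z => by
    rw [← algebraMap_smul Eg (algebraMap A A' x) z, ← IsScalarTower.algebraMap_apply A A' Eg, algebraMap_smul]
  haveI : Module.Flat A T' := by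
    haveI : Module.Flat A (Eg ⊗[L] (L ⊗[D] T)) := flat_tensor A L Eg (L ⊗[D] T)
    exact Module.Flat.of_linearEquiv ((AlgebraTensorModule.cancelBaseChange D L Eg Eg T).restrictScalars A).symm
  haveI : Module.Flat A' T' := (S1231.flat_restrict (R := A) (T := A') T').mp inferInstance
  -- its fibre has small support
  have hdim : ringKrullDim (p'.Fiber Eg ⧸ Module.annihilator (p'.Fiber Eg) (FlatCA.fiberMod p' Eg T')) < m := by
    let F' := p'.Fiber Eg
    let inG : Eg →+* F' := (Algebra.TensorProduct.includeRight : Eg →ₐ[A'] F').toRingHom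
    have hd : Disjoint (Submonoid.powers g' : Set E) η :=
      (Ideal.disjoint_powers_iff_notMem _ (Ideal.IsPrime.isRadical ‹_›)).mpr hgη
    haveI := IsLocalization.isPrime_of_isPrime_disjoint _ Eg η ‹_› hd
    have hηc : (η.map (algebraMap E Eg)).comap (algebraMap E Eg) = η :=
      IsLocalization.under_map_of_isPrime_disjoint _ Eg ‹_› hd
    have hηc' : (η.map (algebraMap E Eg)).comap (algebraMap A' Eg) = p' := by
      rw [IsScalarTower.algebraMap_eq A' E Eg, ← Ideal.comap_comap, hηc]
      exact hηp.over.symm
    haveI : (η.map (algebraMap E Eg)).LiesOver p' := ⟨hηc'.symm⟩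
    haveI : IsDomain F' := isDomain_tensor_loc (A := A') (X := E) (Y := Eg) (Submonoid.powers g') p'.ResidueField
      (η.map (algebraMap E Eg)) (by rw [Ideal.ker_algebraMap_residueField]; exact hηc')
    have hne : inG (algebraMap D Eg h) ≠ 0 := by
      intro h0
      let x := PrimeSpectrum.primesOverOrderIsoFiber A' Eg p' ⟨η.map (algebraMap E Eg), inferInstance, inferInstance⟩
      have hx : x.asIdeal.comap inG = η.map (algebraMap E Eg) :=
        congrArg Subtype.val ((PrimeSpectrum.primesOverOrderIsoFiber A' Eg p').symm_apply_apply ⟨_, inferInstance, inferInstance⟩)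
      refine hhη (hηc.le ?_)
      show algebraMap E Eg hE ∈ η.map (algebraMap E Eg)
      rw [← IsScalarTower.algebraMap_apply D E Eg, ← hx, Ideal.mem_comap, h0]
      exact zero_mem _
    obtain ⟨k, hk⟩ : ∃ k : ℕ, ∀ v : T, h ^ k • v = 0 := by
      let Dh := Localization.Away h
      have hzero : ∀ w : Dh ⊗[D] T, w = 0 := by
        intro w
        obtain ⟨z, rfl⟩ := LinearMap.lTensor_surjective Dh (LinearMap.range α).mkQ_surjective w
        obtain ⟨u, rfl⟩ := hbij.2 z
        exact ((lTensor_exact Dh (LinearMap.exact_map_mkQ_range α) (LinearMap.range α).mkQ_surjective) _).mpr ⟨u, rfl⟩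
      haveI : IsLocalizedModule (Submonoid.powers h) (TensorProduct.mk D Dh T 1) :=
        (isLocalizedModule_iff_isBaseChange (Submonoid.powers h) Dh _).mpr (TensorProduct.isBaseChange D T Dh)
      obtain ⟨gen, hgen⟩ := Module.Finite.fg_top (R := D) (M := T)
      have hex : ∀ v : T, ∃ k : ℕ, h ^ k • v = 0 := fun v => by
        obtain ⟨⟨_, k, rfl⟩, hk⟩ := (IsLocalizedModule.eq_zero_iff (Submonoid.powers h) (TensorProduct.mk D Dh T 1)).mp
          (hzero ((1 : Dh) ⊗ₜ v))
        exact ⟨k, hk⟩
      choose kf hkf using hex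
      refine ⟨gen.sup kf, fun v => ?_⟩
      have hv : v ∈ Submodule.span D (gen : Set T) := hgen ▸ Submodule.mem_top
      induction hv using Submodule.span_induction with
      | mem x hx =>
        obtain ⟨c, hc⟩ := Nat.exists_eq_add_of_le (Finset.le_sup (f := kf) hx)
        rw [hc, pow_add, mul_comm, mul_smul, hkf, smul_zero]
      | zero => rw [smul_zero]
      | add x z _ _ hx hz => rw [smul_add, hx, hz, add_zero]
      | smul c x _ hx => rw [smul_comm, hx, smul_zero]
    let b : F' := inG (algebraMap D Eg (h ^ k))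
    have hb : b ∈ Module.annihilator F' (FlatCA.fiberMod p' Eg T') := by
      rw [Module.mem_annihilator]
      intro w
      change F' ⊗[Eg] T' at w
      show algebraMap Eg F' (algebraMap D Eg (h ^ k)) • w = 0
      rw [algebraMap_smul]
      induction w with
      | zero => rw [smul_zero]
      | tmul c z =>
        rw [← TensorProduct.tmul_smul]
        suffices algebraMap D Eg (h ^ k) • z = 0 by rw [this, TensorProduct.tmul_zero]
        rw [algebraMap_smul]
        change Eg ⊗[D] T at z
        induction z with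
        | zero => rw [smul_zero]
        | tmul e v => rw [← TensorProduct.tmul_smul, hk, TensorProduct.tmul_zero]
        | add u v hu hv => rw [smul_add, hu, hv, add_zero]
      | add u v hu hv => rw [smul_add, hu, hv, add_zero]
    have hb0 : b ≠ 0 := by
      show inG (algebraMap D Eg (h ^ k)) ≠ 0
      rw [map_pow, map_pow]
      exact pow_ne_zero k hne
    have h1 := ringKrullDim_quotient_succ_le_of_nonZeroDivisor (mem_nonZeroDivisors_of_ne_zero hb0)
    have hle : Ideal.span {b} ≤ Module.annihilator F' (FlatCA.fiberMod p' Eg T') :=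
      (Ideal.span_singleton_le_iff_mem _).mpr hb
    have h2 : ringKrullDim (F' ⧸ Module.annihilator F' (FlatCA.fiberMod p' Eg T')) ≤ ringKrullDim (F' ⧸ Ideal.span {b}) :=
      ringKrullDim_le_of_surjective (Ideal.Quotient.factor hle) (Ideal.Quotient.factor_surjective hle)
    letI : Algebra (MvPolynomial (Fin m) A') Eg :=
      (MvPolynomial.aeval (R := A') fun i => algebraMap D Eg (algebraMap (MvPolynomial (Fin m) A) D (MvPolynomial.X i))).toRingHom.toAlgebra
    haveI : IsScalarTower A' (MvPolynomial (Fin m) A') Eg := IsScalarTower.of_algebraMap_eq fun x => by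
      show _ = MvPolynomial.aeval _ (MvPolynomial.C x)
      rw [MvPolynomial.aeval_C]
    letI := MvPolynomial.algebraMvPolynomial (σ := Fin m) (R := A) (S := A')
    letI : Algebra (MvPolynomial (Fin m) A) Eg :=
      ((algebraMap D Eg).comp (algebraMap (MvPolynomial (Fin m) A) D)).toAlgebra
    haveI : IsScalarTower (MvPolynomial (Fin m) A) D Eg := IsScalarTower.of_algebraMap_eq fun _ => rfl
    haveI : IsScalarTower (MvPolynomial (Fin m) A) (MvPolynomial (Fin m) A') Eg := IsScalarTower.of_algebraMap_eq' (by
      refine MvPolynomial.ringHom_ext (fun x => ?_) fun i => ?_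
      · show algebraMap D Eg (algebraMap _ D (MvPolynomial.C x)) =
          MvPolynomial.aeval _ (MvPolynomial.map (algebraMap A A') (MvPolynomial.C x))
        rw [MvPolynomial.map_C, MvPolynomial.aeval_C, ← MvPolynomial.algebraMap_eq,
          ← IsScalarTower.algebraMap_apply A (MvPolynomial (Fin m) A) D, IsScalarTower.algebraMap_apply D E Eg,
          ← IsScalarTower.algebraMap_apply A D E, IsScalarTower.algebraMap_apply A A' E,
          ← IsScalarTower.algebraMap_apply A' E Eg]
      · show algebraMap D Eg (algebraMap _ D (MvPolynomial.X i)) =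
          MvPolynomial.aeval _ (MvPolynomial.map (algebraMap A A') (MvPolynomial.X i))
        rw [MvPolynomial.map_X, MvPolynomial.aeval_X])
    haveI : Algebra.QuasiFinite (MvPolynomial (Fin m) A) Eg := Algebra.QuasiFinite.trans _ D _
    haveI : Algebra.QuasiFinite (MvPolynomial (Fin m) A') Eg :=
      Algebra.QuasiFinite.of_restrictScalars (MvPolynomial (Fin m) A) (MvPolynomial (Fin m) A') Eg
    exact lt_of_le_of_lt h2 (lt_of_succ_le (h1.trans (ringKrullDim_fiber_le (m := m) p')))
  -- projective at `p'`
  have hprojp : Module.Projective Ap' (Ap' ⊗[A'] T') := by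
    let R' := Ap' ⊗[A'] Eg
    haveI := isScalarTower_tensor (A := A') (B := Eg) Ap'
    let φ : SA →ₐ[Ap'] R' := Algebra.TensorProduct.map (AlgHom.id Ap' Ap') (IsScalarTower.toAlgHom A' E Eg)
    letI : Algebra SA R' := φ.toRingHom.toAlgebra
    haveI : IsScalarTower Ap' SA R' := IsScalarTower.of_algebraMap_eq' φ.comp_algebraMap.symm
    haveI hl : IsLocalization ((Submonoid.powers g').map
        (Algebra.TensorProduct.includeRight (R := A') (A := Ap') : E →ₐ[A'] SA)) R' :=
      IsLocalization.tensorProduct_tensorProduct_right A' Ap' (Submonoid.powers g') Eg (by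
        refine RingHom.ext fun x => ?_
        show φ ((1 : Ap') ⊗ₜ[A'] x) = (1 : Ap') ⊗ₜ[A'] algebraMap E Eg x
        rw [Algebra.TensorProduct.map_tmul]
        rfl)
    haveI : IsLocalization.Away g R' := by
      rw [Submonoid.map_powers] at hl
      haveI : IsLocalization.Away (algebraMap E SA g') R' := hl
      exact IsLocalization.Away.of_associated hassoc
    letI : Algebra D R' := ((algebraMap SA R').comp (algebraMap D SA)).toAlgebra
    haveI : IsScalarTower D SA R' := IsScalarTower.of_algebraMap_eq fun _ => rfl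
    haveI : IsScalarTower D Eg R' := IsScalarTower.of_algebraMap_eq fun x => by
      show φ ((1 : Ap') ⊗ₜ[A'] algebraMap D E x) = (1 : Ap') ⊗ₜ[A'] algebraMap D Eg x
      rw [IsScalarTower.algebraMap_apply D E Eg x, Algebra.TensorProduct.map_tmul]
      rfl
    haveI : Algebra.IsPushout A' Ap' Eg R' := inferInstance
    haveI := hfree
    haveI : IsLocalizedModule (Submonoid.powers g) (TensorProduct.mk SA R' (SA ⊗[D] T) 1) :=
      (isLocalizedModule_iff_isBaseChange (Submonoid.powers g) R' _).mpr
        (TensorProduct.isBaseChange SA (SA ⊗[D] T) R')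
    let e0 : LocalizedModule (Submonoid.powers g) (SA ⊗[D] T) ≃ₗ[SA] R' ⊗[SA] (SA ⊗[D] T) :=
      IsLocalizedModule.iso (Submonoid.powers g) (TensorProduct.mk SA R' (SA ⊗[D] T) 1)
    haveI : Module.Projective Ap' (R' ⊗[SA] (SA ⊗[D] T)) :=
      Module.Projective.of_equiv (e0.restrictScalars Ap')
    let e1 : R' ⊗[SA] (SA ⊗[D] T) ≃ₗ[R'] R' ⊗[D] T := AlgebraTensorModule.cancelBaseChange D SA R' R' T
    let e2 : R' ⊗[Eg] T' ≃ₗ[R'] R' ⊗[D] T := AlgebraTensorModule.cancelBaseChange D Eg R' R' T
    let e3 : R' ⊗[Eg] T' ≃ₗ[Ap'] Ap' ⊗[A'] T' := Algebra.IsPushout.cancelBaseChange A' Ap' Eg R' T'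
    exact Module.Projective.of_equiv (((e1.trans e2.symm).restrictScalars Ap').trans e3)
  obtain ⟨f, hfp, hprojf⟩ := IH (A := A') (B := Eg) T' p' hdim hprojp
  -- the final base
  let Eh := Localization.Away (g' * hE)
  haveI : Algebra.Etale E Eh := Algebra.Etale.of_isLocalizationAway (g' * hE)
  haveI : Module.Flat A' E := inferInstance
  haveI : Module.Flat A' Eh := Module.Flat.trans A' E Eh
  haveI : Algebra.FinitePresentation A' Eh := Algebra.FinitePresentation.trans A' E Eh
  have hopen : IsOpen (Set.range (PrimeSpectrum.comap (algebraMap A' Eh))) :=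
    (PrimeSpectrum.isOpenMap_comap_of_hasGoingDown_of_finitePresentation).isOpen_range
  have hp'mem : (⟨p', inferInstance⟩ : PrimeSpectrum A') ∈ Set.range (PrimeSpectrum.comap (algebraMap A' Eh)) := by
    obtain ⟨P, hP⟩ := (PrimeSpectrum.localization_away_comap_range Eh (g' * hE)).ge
      (show (⟨η, inferInstance⟩ : PrimeSpectrum E) ∈ PrimeSpectrum.basicOpen (g' * hE) from fun hm =>
        (Ideal.IsPrime.mem_or_mem ‹η.IsPrime› hm).elim hgη hhη)
    refine ⟨P, PrimeSpectrum.ext ?_⟩
    show P.asIdeal.comap (algebraMap A' Eh) = p'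
    rw [IsScalarTower.algebraMap_eq A' E Eh, ← Ideal.comap_comap]
    exact (congrArg (Ideal.comap _) (congrArg PrimeSpectrum.asIdeal hP)).trans hηp.over.symm
  obtain ⟨_, ⟨_, ⟨b₀, rfl⟩, rfl⟩, hb₀, hb₀sub⟩ :=
    PrimeSpectrum.isBasis_basic_opens.exists_subset_of_mem_open hp'mem hopen
  let b := b₀ * f
  have hb : b ∉ p' := fun hm => (Ideal.IsPrime.mem_or_mem ‹p'.IsPrime› hm).elim hb₀ hfp
  let Ab := Localization.Away b
  haveI : Algebra.Etale A' Ab := Algebra.Etale.of_isLocalizationAway b
  haveI : Algebra.Etale A Ab := Algebra.Etale.comp A A' Ab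
  let C := Ab ⊗[A'] Eg
  haveI := isScalarTower_tensor (A := A') (B := Eg) Ab
  haveI : Algebra.IsPushout A' Ab Eg C := inferInstance
  haveI : Algebra.Etale Eg C := Algebra.Etale.of_equiv (Algebra.IsPushout.equiv A' Eg Ab C)
  letI : Algebra D C := ((algebraMap Eg C).comp (algebraMap D Eg)).toAlgebra
  haveI : IsScalarTower D Eg C := IsScalarTower.of_algebraMap_eq fun _ => rfl
  haveI : Algebra.Etale D C := Algebra.Etale.comp D Eg C
  haveI : IsScalarTower A D C := IsScalarTower.of_algebraMap_eq fun x => by
    show algebraMap A C x = algebraMap Eg C (algebraMap D Eg (algebraMap A D x))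
    rw [IsScalarTower.algebraMap_apply D E Eg, ← IsScalarTower.algebraMap_apply A D E,
      IsScalarTower.algebraMap_apply A A' E, ← IsScalarTower.algebraMap_apply A' E Eg,
      ← IsScalarTower.algebraMap_apply A' Eg C, ← IsScalarTower.algebraMap_apply A A' C]
  letI : Algebra L C := ((algebraMap Eg C).comp (algebraMap L Eg)).toAlgebra
  haveI : IsScalarTower L Eg C := IsScalarTower.of_algebraMap_eq fun _ => rfl
  haveI : IsScalarTower D L C := IsScalarTower.of_algebraMap_eq fun x => by
    show algebraMap Eg C (algebraMap D Eg x) = algebraMap Eg C (algebraMap L Eg (algebraMap D L x))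
    rw [← IsScalarTower.algebraMap_apply D L Eg]
  haveI : Module.Flat L C := Module.Flat.trans L Eg C
  haveI : Module.Projective Ab C := by
    haveI : Algebra.FinitePresentation Ab C := inferInstance
    haveI : Module.Flat A' Eg := Module.Flat.trans A' E Eg
    haveI : Module.Flat Ab C := inferInstance
    refine projective_of_isDomain fun K _ _ => ?_
    letI : Algebra A' K := ((algebraMap Ab K).comp (algebraMap A' Ab)).toAlgebra
    haveI : IsScalarTower A' Ab K := IsScalarTower.of_algebraMap_eq fun _ => rfl
    haveI : (RingHom.ker (algebraMap Ab K)).IsPrime := RingHom.ker_isPrime _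
    let t : Ideal A' := RingHom.ker (algebraMap A' K)
    haveI : t.IsPrime := RingHom.ker_isPrime _
    have hbt : b ∉ t := fun hm => (IsUnit.map (algebraMap Ab K) (IsLocalization.Away.algebraMap_isUnit b)).ne_zero
      (by rw [← IsScalarTower.algebraMap_apply]; exact hm)
    obtain ⟨P, hP⟩ := hb₀sub (show (⟨t, inferInstance⟩ : PrimeSpectrum A') ∈ PrimeSpectrum.basicOpen b₀ from
      fun hm => hbt (Ideal.mul_mem_right f t hm))
    let d₀ : Ideal E := P.asIdeal.comap (algebraMap E Eh)
    have hd₀ : Disjoint (Submonoid.powers g' : Set E) d₀ :=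
      (Ideal.disjoint_powers_iff_notMem _ (Ideal.IsPrime.isRadical inferInstance)).mpr fun hm => P.isPrime.ne_top
        (Ideal.eq_top_of_isUnit_mem _ hm (IsLocalization.Away.isUnit_of_dvd (g' * hE) (Dvd.intro hE rfl)))
    haveI := IsLocalization.isPrime_of_isPrime_disjoint _ Eg d₀ inferInstance hd₀
    haveI : IsDomain (K ⊗[A'] E) := isDomain_baseChange hgi A' K
    haveI : IsDomain (K ⊗[A'] Eg) := isDomain_tensor_loc (A := A') (X := E) (Y := Eg) (Submonoid.powers g') K
      (d₀.map (algebraMap E Eg)) (by
        rw [IsScalarTower.algebraMap_eq A' E Eg, ← Ideal.comap_comap, ← Ideal.under_def (A := E),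
          IsLocalization.under_map_of_isPrime_disjoint _ Eg inferInstance hd₀, Ideal.comap_comap,
          ← IsScalarTower.algebraMap_eq]
        exact congrArg PrimeSpectrum.asIdeal hP)
    exact (Algebra.TensorProduct.cancelBaseChange A' Ab K K Eg).toRingEquiv.toMulEquiv.isDomain _
  let Af := Localization.Away f
  haveI : Module.Projective Ab (C ⊗[D] T) := by
    haveI := hprojf
    letI : Algebra Af Ab := (IsLocalization.Away.lift f (g := algebraMap A' Ab)
      (IsLocalization.Away.isUnit_of_dvd b (Dvd.intro_left b₀ rfl))).toAlgebra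
    haveI : IsScalarTower A' Af Ab := IsScalarTower.of_algebraMap_eq fun x => (IsLocalization.Away.lift_eq f _ x).symm
    haveI : Module.Projective Ab (Ab ⊗[A'] T') :=
      Module.Projective.of_equiv (AlgebraTensorModule.cancelBaseChange A' Af Ab Ab T')
    let e1 : C ⊗[Eg] T' ≃ₗ[C] C ⊗[D] T := AlgebraTensorModule.cancelBaseChange D Eg C C T
    let e2 : C ⊗[Eg] T' ≃ₗ[Ab] Ab ⊗[A'] T' := Algebra.IsPushout.cancelBaseChange A' Ab Eg C T'
    exact Module.Projective.of_equiv (e2.symm.trans (e1.restrictScalars Ab))
  haveI : Module.Projective Ab (C ⊗[D] (Fin r → D)) := by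
    haveI : Module.Projective Ab (Fin r → C) :=
      Module.Projective.of_equiv (DFinsupp.linearEquivFunOnFintype (R := Ab) (M := fun _ : Fin r => C))
    exact Module.Projective.of_equiv ((TensorProduct.piScalarRight D C C (Fin r)).restrictScalars Ab).symm
  have hprojG : Module.Projective Ab (C ⊗[D] G) := by
    let fα : C ⊗[D] (Fin r → D) →ₗ[Ab] C ⊗[D] G := (α.baseChange C).restrictScalars Ab
    let gα : C ⊗[D] G →ₗ[Ab] C ⊗[D] T := ((LinearMap.range α).mkQ.baseChange C).restrictScalars Ab
    have hinjC : Function.Injective fα := baseChange_injective_of_flat α L C hinjL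
    have hexC : Function.Exact fα gα :=
      lTensor_exact C (LinearMap.exact_map_mkQ_range α) (LinearMap.range α).mkQ_surjective
    have hsurjC : Function.Surjective gα := LinearMap.lTensor_surjective C (LinearMap.range α).mkQ_surjective
    have := projective_of_exact (R := Ab) (X := C ⊗[D] (Fin r → D)) (Y := C ⊗[D] G) (Z := C ⊗[D] T)
      fα gα hinjC hexC hsurjC
    exact this
  -- the point
  have hd₁ : Disjoint (Submonoid.powers g' : Set E) Q₁ :=
    (Ideal.disjoint_powers_iff_notMem _ (Ideal.IsPrime.isRadical inferInstance)).mpr hgQ₁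
  haveI := IsLocalization.isPrime_of_isPrime_disjoint _ Eg Q₁ inferInstance hd₁
  have hQ₁c : (Q₁.map (algebraMap E Eg)).comap (algebraMap E Eg) = Q₁ :=
    IsLocalization.under_map_of_isPrime_disjoint _ Eg inferInstance hd₁
  have hdb : Disjoint (Submonoid.powers b : Set A') p' :=
    (Ideal.disjoint_powers_iff_notMem _ (Ideal.IsPrime.isRadical ‹_›)).mpr hb
  haveI := IsLocalization.isPrime_of_isPrime_disjoint _ Ab p' ‹_› hdb
  obtain ⟨z, hz, hzE, -⟩ := exists_prime_tensor (A := A') (B := Eg) Ab (Q₁.map (algebraMap E Eg))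
    (p'.map (algebraMap A' Ab)) (by
      rw [IsScalarTower.algebraMap_eq A' E Eg, ← Ideal.comap_comap, hQ₁c, hQ₁p]
      exact (IsLocalization.under_map_of_isPrime_disjoint _ Ab ‹_› hdb).symm)
  refine ⟨Ab, C, inferInstance, inferInstance, inferInstance, inferInstance, inferInstance, inferInstance,
    inferInstance, inferInstance, inferInstance, inferInstance, hprojG, z, hz, ?_⟩
  rw [IsScalarTower.algebraMap_eq D Eg C, ← Ideal.comap_comap, hzE, IsScalarTower.algebraMap_eq D E Eg,
    ← Ideal.comap_comap, hQ₁c, hQ₁y]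

end Groth.Agent.RGFlat.Spreading
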