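import Groth.Agent.HP.Etale

/-!
Splitting of finitely many étale algebras at a point, and lifting of points to the split pieces.
-/

set_option autoImplicit false
set_option linter.style.haveILetI false

universe u

open TensorProduct

attribute [local instance] Algebra.TensorProduct.rightAlgebra

namespace Groth.Agent.RGFlat.Spreading

variable {A : Type u} [CommRing A] (p : Ideal A) [p.IsPrime]

/-- There are only finitely many geometric points of an étale algebra above a prime. -/
theorem finite_points (A₁ : Type u) [CommRing A₁] [Algebra A A₁] [Algebra.Etale A A₁] :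
    Finite (A₁ →ₐ[A] AlgebraicClosure p.ResidueField) := by
  haveI : Module.Finite p.ResidueField (p.Fiber A₁) := inferInstance
  refine Finite.of_injective (β := p.Fiber A₁ →ₐ[p.ResidueField] AlgebraicClosure p.ResidueField)
    (fun φ => Algebra.TensorProduct.lift (Algebra.ofId _ _) φ fun _ _ => .all _ _) fun φ φ' h => AlgHom.ext fun a => ?_
  simpa using AlgHom.congr_fun h (1 ⊗ₜ a)

/-- Finitely many étale algebras have all their geometric points over `p` rational over one étale algebra. -/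
theorem exists_splitting {ι : Type u} [Finite ι] (Ai : ι → Type u) [∀ i, CommRing (Ai i)] [∀ i, Algebra A (Ai i)]
    [∀ i, Algebra.Etale A (Ai i)] :
    ∃ (A' : Type u) (_ : CommRing A') (_ : Algebra A A') (ψ : A' →ₐ[A] AlgebraicClosure p.ResidueField),
      Algebra.Etale A A' ∧ ∀ i (φ : Ai i →ₐ[A] AlgebraicClosure p.ResidueField), ∃ ρ : Ai i →ₐ[A] A', ψ.comp ρ = φ := by
  classical
  haveI := fun i => finite_points p (Ai i)
  haveI : Fintype (Σ i, (Ai i →ₐ[A] AlgebraicClosure p.ResidueField)) := Fintype.ofFinite _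
  suffices H : ∀ s : Finset (Σ i, (Ai i →ₐ[A] AlgebraicClosure p.ResidueField)),
      ∃ (A' : Type u) (_ : CommRing A') (_ : Algebra A A') (ψ : A' →ₐ[A] AlgebraicClosure p.ResidueField),
        Algebra.Etale A A' ∧ ∀ x ∈ s, ∃ ρ : Ai x.1 →ₐ[A] A', ψ.comp ρ = x.2 by
    obtain ⟨A', _, _, ψ, het, h⟩ := H Finset.univ
    exact ⟨A', _, _, ψ, het, fun i φ => h ⟨i, φ⟩ (Finset.mem_univ _)⟩
  intro s
  induction s using Finset.induction with
  | empty => exact ⟨A, _, _, Algebra.ofId A _, inferInstance, fun x hx => absurd hx (Finset.notMem_empty x)⟩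
  | insert x s _ ih =>
    obtain ⟨A', _, _, ψ, het, h⟩ := ih
    haveI := het
    haveI : Algebra.Etale A (A' ⊗[A] Ai x.1) := Algebra.Etale.comp A A' (A' ⊗[A] Ai x.1)
    refine ⟨A' ⊗[A] Ai x.1, inferInstance, inferInstance,
      Algebra.TensorProduct.lift ψ x.2 fun _ _ => .all _ _, inferInstance, fun y hy => ?_⟩
    rcases Finset.mem_insert.mp hy with hyx | hy
    · subst hyx
      exact ⟨Algebra.TensorProduct.includeRight, Algebra.TensorProduct.lift_comp_includeRight _ _ fun _ _ => .all _ _⟩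
    · obtain ⟨ρ, hρ⟩ := h y hy
      exact ⟨Algebra.TensorProduct.includeLeft.comp ρ, by
        rw [← AlgHom.comp_assoc, Algebra.TensorProduct.lift_comp_includeLeft, hρ]⟩

/-- Over a split point, every point of an étale algebra above `p` in a field agrees with one of the rational
points. -/
theorem exists_section (A' A₁ Ω : Type u) [CommRing A'] [CommRing A₁] [Field Ω] [Algebra A A'] [Algebra A A₁]
    [Algebra A Ω] [Algebra.Etale A A₁] (ψ : A' →ₐ[A] AlgebraicClosure p.ResidueField)
    (f : A' →ₐ[A] Ω) (g : A₁ →ₐ[A] Ω) (hf : RingHom.ker f.toRingHom = RingHom.ker ψ.toRingHom)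
    (ρ : (A₁ →ₐ[A] AlgebraicClosure p.ResidueField) → (A₁ →ₐ[A] A')) (hρ : ∀ φ, ψ.comp (ρ φ) = φ) :
    ∃ φ : A₁ →ₐ[A] AlgebraicClosure p.ResidueField, f.comp (ρ φ) = g := by
  let L : A' ⊗[A] A₁ →ₐ[A] Ω := Algebra.TensorProduct.lift f g fun _ _ => .all _ _
  haveI : (RingHom.ker ψ.toRingHom).IsPrime := RingHom.ker_isPrime _
  haveI : (RingHom.ker L.toRingHom).IsPrime := RingHom.ker_isPrime _
  let P' : Ideal A' := RingHom.ker ψ.toRingHom
  let r : Ideal (A' ⊗[A] A₁) := RingHom.ker L.toRingHom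
  haveI : r.LiesOver P' := ⟨by
    ext a
    rw [Ideal.under_def, Ideal.mem_comap]
    have : L (algebraMap A' (A' ⊗[A] A₁) a) = f a := by simp [L, Algebra.TensorProduct.algebraMap_apply]
    show a ∈ RingHom.ker ψ.toRingHom ↔ L (algebraMap A' (A' ⊗[A] A₁) a) = 0
    rw [this, ← hf]
    rfl⟩
  haveI : Algebra.QuasiFiniteAt A' r := inferInstance
  letI := Localization.AtPrime.algebraOfLiesOver P' r
  haveI : Module.Finite P'.ResidueField r.ResidueField := inferInstance
  letI : Algebra P'.ResidueField (AlgebraicClosure p.ResidueField) :=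
    (Ideal.ResidueField.lift P' ψ.toRingHom le_rfl (fun a ha => isUnit_iff_ne_zero.mpr ha)).toAlgebra
  let l : r.ResidueField →ₐ[P'.ResidueField] AlgebraicClosure p.ResidueField := IsAlgClosed.lift
  have hl : ∀ a : A', l (algebraMap (A' ⊗[A] A₁) r.ResidueField (algebraMap A' (A' ⊗[A] A₁) a)) = ψ a := fun a => by
    rw [← IsScalarTower.algebraMap_apply A' (A' ⊗[A] A₁) r.ResidueField,
      IsScalarTower.algebraMap_apply A' P'.ResidueField r.ResidueField, l.commutes]
    exact Ideal.ResidueField.lift_algebraMap P' ψ.toRingHom _ _ a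
  let φr : A₁ →+* AlgebraicClosure p.ResidueField := l.toRingHom.comp
    ((algebraMap (A' ⊗[A] A₁) r.ResidueField).comp
      (Algebra.TensorProduct.includeRight : A₁ →ₐ[A] A' ⊗[A] A₁).toRingHom)
  let φ : A₁ →ₐ[A] AlgebraicClosure p.ResidueField :=
    { φr with
      commutes' := fun a => by
        show l (algebraMap (A' ⊗[A] A₁) r.ResidueField ((Algebra.TensorProduct.includeRight : A₁ →ₐ[A] A' ⊗[A] A₁) (algebraMap A A₁ a))) = _
        rw [AlgHom.commutes, IsScalarTower.algebraMap_apply A A' (A' ⊗[A] A₁), hl, AlgHom.commutes] }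
  refine ⟨φ, AlgHom.ext fun a => ?_⟩
  have h1 : algebraMap (A' ⊗[A] A₁) r.ResidueField (algebraMap A' (A' ⊗[A] A₁) (ρ φ a) - 1 ⊗ₜ a) = 0 := by
    apply l.toRingHom.injective
    simp only [AlgHom.toRingHom_eq_coe, RingHom.coe_coe, map_sub, map_zero, hl, sub_eq_zero]
    exact AlgHom.congr_fun (hρ φ) a
  rw [Ideal.algebraMap_residueField_eq_zero] at h1
  have h2 : L (algebraMap A' (A' ⊗[A] A₁) (ρ φ a) - 1 ⊗ₜ a) = 0 := h1
  simpa [L, Algebra.TensorProduct.algebraMap_apply, sub_eq_zero] using h2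

end Groth.Agent.RGFlat.Spreading
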