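import Groth.Agent.RGFlat.SpreadModel

/-!
Projectivity at a prime descends to a stage of a directed colimit.
-/

set_option autoImplicit false
set_option linter.style.haveILetI false

universe u

open TensorProduct

attribute [local instance] Algebra.TensorProduct.rightAlgebra

namespace Groth.Agent.RGFlat.Spreading

/-- The core descent, stated over the coarse ring. -/
theorem exists_finset_projective_bc {R₁ R' A B₁ : Type u} [CommRing R₁] [CommRing R'] [IsNoetherianRing R']
    [CommRing A] [CommRing B₁] [Algebra R₁ R'] [Algebra R' A] [Algebra R₁ A] [IsScalarTower R₁ R' A]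
    [Algebra R₁ B₁] [Algebra.FinitePresentation R₁ B₁] (N₁ : Type u) [AddCommGroup N₁] [Module B₁ N₁] [Module R₁ N₁]
    [IsScalarTower R₁ B₁ N₁] [Module.FinitePresentation B₁ N₁] [Module.Flat R' (R' ⊗[R₁] N₁)] (p : Ideal A) [p.IsPrime]
    [Module.Projective (Localization.AtPrime p) (Localization.AtPrime p ⊗[R₁] N₁)] :
    ∃ T : Finset A, ∀ (R₂ : Type u) [CommRing R₂] [Algebra R' R₂] [Algebra R₂ A] [IsScalarTower R' R₂ A]
      [Algebra R₁ R₂] [IsScalarTower R₁ R' R₂],
      Function.Injective (algebraMap R₂ A) → (∀ x ∈ T, x ∈ Set.range (algebraMap R₂ A)) →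
        ∀ (p₂ : Ideal R₂) [p₂.IsPrime], p₂ = p.comap (algebraMap R₂ A) →
          Module.Projective (Localization.AtPrime p₂) (Localization.AtPrime p₂ ⊗[R₁] N₁) := by
  haveI := isScalarTower_tensor (A := R₁) (B := B₁) R'
  let B' := R' ⊗[R₁] B₁
  haveI : Algebra.IsPushout R₁ R' B₁ B' := inferInstance
  let N' := B' ⊗[B₁] N₁
  let eN' : N' ≃ₗ[R'] R' ⊗[R₁] N₁ := Algebra.IsPushout.cancelBaseChange R₁ R' B₁ B' N₁
  haveI : Module.Flat R' N' := Module.Flat.of_linearEquiv eN'
  let P := Localization.AtPrime p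
  haveI : IsScalarTower R₁ R' P := IsScalarTower.of_algebraMap_eq fun x => by
    rw [IsScalarTower.algebraMap_apply R' A P, ← IsScalarTower.algebraMap_apply R₁ R' A,
      ← IsScalarTower.algebraMap_apply R₁ A P]
  haveI : Module.Projective P (P ⊗[R'] N') := Module.Projective.of_equiv
    ((AlgebraTensorModule.congr (LinearEquiv.refl P P) eN').trans
      (AlgebraTensorModule.cancelBaseChange R₁ R' P P N₁)).symm
  obtain ⟨T, hT⟩ := exists_finset_projective (R₁ := R') (A := A) (B₁ := B') N' p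
  refine ⟨T, fun R₂ _ _ _ _ _ _ hinj hR₂ p₂ _ hp₂ => ?_⟩
  haveI := hT R₂ hinj hR₂ p₂ hp₂
  let P₂ := Localization.AtPrime p₂
  haveI : IsScalarTower R₁ R' P₂ := IsScalarTower.of_algebraMap_eq fun x => by
    rw [IsScalarTower.algebraMap_apply R' R₂ P₂, ← IsScalarTower.algebraMap_apply R₁ R' R₂,
      ← IsScalarTower.algebraMap_apply R₁ R₂ P₂]
  exact Module.Projective.of_equiv ((AlgebraTensorModule.congr (LinearEquiv.refl P₂ P₂) eN').trans
    (AlgebraTensorModule.cancelBaseChange R₁ R' P₂ P₂ N₁))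

/-- A flatness neighbourhood for a base changed model projective at `p`. -/
theorem exists_flat_away_bc {R₁ A B₁ : Type u} [CommRing R₁] [CommRing A] [CommRing B₁] [Algebra R₁ A]
    [Algebra R₁ B₁] [Algebra.FinitePresentation R₁ B₁] (N₁ : Type u) [AddCommGroup N₁] [Module B₁ N₁] [Module R₁ N₁]
    [IsScalarTower R₁ B₁ N₁] [Module.FinitePresentation B₁ N₁] (p : Ideal A) [p.IsPrime]
    [Module.Projective (Localization.AtPrime p) (Localization.AtPrime p ⊗[R₁] N₁)] :
    ∃ f ∉ p, Module.Flat (Localization.Away f) (Localization.Away f ⊗[R₁] N₁) := by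
  haveI := isScalarTower_tensor (A := R₁) (B := B₁) A
  let B := A ⊗[R₁] B₁
  haveI : Algebra.IsPushout R₁ A B₁ B := inferInstance
  let N := B ⊗[B₁] N₁
  let eA : N ≃ₗ[A] A ⊗[R₁] N₁ := Algebra.IsPushout.cancelBaseChange R₁ A B₁ B N₁
  let P := Localization.AtPrime p
  haveI : Module.Flat P (P ⊗[A] N) := Module.Flat.of_linearEquiv
    ((AlgebraTensorModule.congr (LinearEquiv.refl P P) eA).trans (AlgebraTensorModule.cancelBaseChange R₁ A P P N₁))
  obtain ⟨f, hf, hflat⟩ := exists_flat_away (A := A) (B := B) N p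
  haveI := hflat
  let Af := Localization.Away f
  exact ⟨f, hf, Module.Flat.of_linearEquiv
    ((AlgebraTensorModule.congr (LinearEquiv.refl Af Af) eA).trans
      (AlgebraTensorModule.cancelBaseChange R₁ A Af Af N₁)).symm⟩

/-- Projectivity at a prime descends to some stage, for some lift of the model ring. -/
theorem exists_stage_lift_projective {ι : Type u} [Preorder ι] (G : ι → Type u) [∀ i, CommRing (G i)]
    (g : ∀ i j, i ≤ j → G i →+* G j) {A : Type u} [CommRing A] [∀ i, Algebra (G i) A]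
    (hcolim : FlatCA.IsDirectedColimitRing G g A)
    {R₁ B₁ : Type u} [CommRing R₁] [IsNoetherianRing R₁] [Algebra.FiniteType ℤ R₁] [Algebra R₁ A]
    [CommRing B₁] [Algebra R₁ B₁] [Algebra.FinitePresentation R₁ B₁]
    (N₁ : Type u) [AddCommGroup N₁] [Module B₁ N₁] [Module R₁ N₁] [IsScalarTower R₁ B₁ N₁]
    [Module.FinitePresentation B₁ N₁] (p : Ideal A) [p.IsPrime]
    [Module.Projective (Localization.AtPrime p) (Localization.AtPrime p ⊗[R₁] N₁)] :
    ∃ (j : ι) (_ : Algebra R₁ (G j)) (_ : IsScalarTower R₁ (G j) A),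
      Module.Projective (Localization.AtPrime (p.comap (algebraMap (G j) A)))
        (Localization.AtPrime (p.comap (algebraMap (G j) A)) ⊗[R₁] N₁) := by
  classical
  obtain ⟨f, hf, hflatf⟩ := exists_flat_away_bc (R₁ := R₁) (A := A) (B₁ := B₁) N₁ p
  let Af := Localization.Away f
  haveI : Module.Flat Af (Af ⊗[R₁] N₁) := hflatf
  obtain ⟨R', hR', hflat'⟩ := exists_flat_model (R₁ := R₁) (A := Af) (B₁ := B₁) N₁
  haveI := hflat'
  haveI : Algebra.FiniteType R₁ R' := R'.fg_iff_finiteType.mp hR'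
  haveI : IsNoetherianRing R' := Algebra.FiniteType.isNoetherianRing R₁ R'
  let pf : Ideal Af := p.map (algebraMap A Af)
  have hdisj : Disjoint (Submonoid.powers f : Set A) p :=
    (Ideal.disjoint_powers_iff_notMem _ (Ideal.IsPrime.isRadical ‹_›)).mpr hf
  haveI : pf.IsPrime := IsLocalization.isPrime_of_isPrime_disjoint _ Af p ‹_› hdisj
  have hpf : pf.comap (algebraMap A Af) = p := IsLocalization.under_map_of_isPrime_disjoint _ Af ‹_› hdisj
  haveI : pf.LiesOver p := ⟨hpf.symm⟩
  let P := Localization.AtPrime p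
  let Pf := Localization.AtPrime pf
  letI := Localization.AtPrime.algebraOfLiesOver p pf
  haveI : IsScalarTower R₁ P Pf := IsScalarTower.of_algebraMap_eq fun x => by
    rw [IsScalarTower.algebraMap_apply R₁ A P, ← IsScalarTower.algebraMap_apply A P Pf,
      ← IsScalarTower.algebraMap_apply R₁ A Pf]
  haveI : Module.Projective Pf (Pf ⊗[R₁] N₁) :=
    Module.Projective.of_equiv (AlgebraTensorModule.cancelBaseChange R₁ P Pf Pf N₁)
  obtain ⟨T, hT⟩ := exists_finset_projective_bc (R₁ := R₁) (R' := R') (A := Af) (B₁ := B₁) N₁ pf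
  -- the stage over `A_f`
  let R₂ : Subalgebra R' Af := Algebra.adjoin R' (T : Set Af)
  let p₂ : Ideal R₂ := pf.comap (algebraMap R₂ Af)
  haveI : p₂.IsPrime := Ideal.comap_isPrime _ _
  have hproj₂ : Module.Projective (Localization.AtPrime p₂) (Localization.AtPrime p₂ ⊗[R₁] N₁) :=
    hT R₂ Subtype.val_injective (fun x hx => ⟨⟨x, Algebra.subset_adjoin (Finset.mem_coe.mpr hx)⟩, rfl⟩) p₂ rfl
  -- numerators
  haveI : Algebra.FiniteType R₁ R₂ := by
    haveI : Algebra.FiniteType R' R₂ := R₂.fg_iff_finiteType.mp ⟨T, rfl⟩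
    exact Algebra.FiniteType.trans (inferInstance : Algebra.FiniteType R₁ R') inferInstance
  obtain ⟨S₂, hS₂⟩ := (inferInstance : Algebra.FiniteType R₁ R₂).out
  choose num k hnum using fun x : R₂ => IsLocalization.Away.surj f (x : Af)
  let nums : Finset A := insert f (S₂.image k)
  obtain ⟨gens, hgens⟩ := (inferInstance : Algebra.FiniteType ℤ R₁).out
  let nums' : Finset A := gens.image (algebraMap R₁ A) ∪ nums
  let Z₀ : Type u := MvPolynomial PEmpty.{u+1} ℤ
  letI : Algebra Z₀ A := (MvPolynomial.eval₂Hom (Int.castRingHom A) (fun e : PEmpty.{u+1} => e.elim)).toAlgebra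
  letI : ∀ i, Algebra Z₀ (G i) := fun i =>
    (MvPolynomial.eval₂Hom (Int.castRingHom (G i)) (fun e : PEmpty.{u+1} => e.elim)).toAlgebra
  haveI : ∀ i, IsScalarTower Z₀ (G i) A := fun i => IsScalarTower.of_algebraMap_eq'
    (MvPolynomial.ringHom_ext (fun n => by simp [RingHom.algebraMap_toAlgebra]) fun e => e.elim)
  let R : Subalgebra (Z₀) A := Algebra.adjoin (Z₀) (nums' : Set A)
  have hR : R.FG := ⟨nums', rfl⟩
  have himg : ∀ x : R₁, algebraMap R₁ A x ∈ R := fun x => by
    have hle : Algebra.adjoin ℤ (gens : Set R₁) ≤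
        subalgebraOfSubring (R.toSubring.comap (algebraMap R₁ A)) := Algebra.adjoin_le fun y hy =>
      Algebra.subset_adjoin (Finset.mem_union_left _ (Finset.mem_image_of_mem _ (Finset.mem_coe.mp hy)))
    exact hle (hgens ▸ Algebra.mem_top)
  obtain ⟨j, φ, hφ⟩ := FlatOpen.exists_stage_hom (R₀ := Z₀) G g A hcolim
    (fun i j h => MvPolynomial.ringHom_ext (fun n => by simp [RingHom.algebraMap_toAlgebra]) fun e => e.elim) R hR
  let ir : R₁ →+* R := (algebraMap R₁ A).codRestrict R.toSubring himg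
  letI : Algebra R₁ R := ir.toAlgebra
  haveI : IsScalarTower R₁ R A := IsScalarTower.of_algebraMap_eq fun _ => rfl
  letI : Algebra R₁ (G j) := (φ.toRingHom.comp ir).toAlgebra
  haveI : IsScalarTower R₁ (G j) A := IsScalarTower.of_algebraMap_eq fun x => (hφ (ir x)).symm
  let fR : R := ⟨f, Algebra.subset_adjoin (Finset.mem_union_right _ (Finset.mem_insert_self _ _))⟩
  let pj : Ideal (G j) := p.comap (algebraMap (G j) A)
  haveI : pj.IsPrime := Ideal.comap_isPrime _ _
  let Pj := Localization.AtPrime pj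
  let Rf := Localization.Away fR
  have hu : IsUnit (((algebraMap (G j) Pj).comp φ.toRingHom) fR) :=
    IsLocalization.map_units Pj (⟨φ fR, fun h => hf (by
      have h' : algebraMap (G j) A (φ fR) ∈ p := h
      rwa [hφ] at h')⟩ : pj.primeCompl)
  let χ : Rf →+* Pj := IsLocalization.Away.lift fR hu
  have hu' : IsUnit (((algebraMap A Af).comp R.val.toRingHom) fR) := IsLocalization.Away.algebraMap_isUnit f
  let ι : Rf →+* Af := IsLocalization.Away.lift fR hu'
  have hιmap : ∀ x : R, ι (algebraMap R Rf x) = algebraMap A Af x := fun x => IsLocalization.Away.lift_eq fR hu' x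
  have hιinj : Function.Injective ι := by
    rw [injective_iff_map_eq_zero]
    intro z hz
    obtain ⟨⟨x, ⟨_, m, rfl⟩⟩, hx⟩ := IsLocalization.surj (Submonoid.powers fR) z
    have h0 : algebraMap A Af (x : A) = 0 := by
      rw [← hιmap, ← hx, map_mul, hz, zero_mul]
    obtain ⟨⟨_, m', rfl⟩, hm'⟩ := (IsLocalization.map_eq_zero_iff (Submonoid.powers f) Af _).mp h0
    have hxR : fR ^ m' * x = 0 := Subtype.ext hm'
    have h1 : algebraMap R Rf x = 0 :=
      (IsLocalization.map_eq_zero_iff (Submonoid.powers fR) Rf _).mpr ⟨⟨_, m', rfl⟩, hxR⟩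
    rw [h1] at hx
    exact (IsUnit.mul_left_eq_zero (IsLocalization.map_units Rf (⟨_, m, rfl⟩ : Submonoid.powers fR))).mp hx
  letI : Algebra R₁ Rf := ((algebraMap R Rf).comp ir).toAlgebra
  let ιa : Rf →ₐ[R₁] Af :=
    { toRingHom := ι
      commutes' := fun x => by
        show ι (algebraMap R Rf (ir x)) = algebraMap R₁ Af x
        rw [hιmap]
        exact (IsScalarTower.algebraMap_apply R₁ A Af x).symm }
  have hfu : IsUnit (algebraMap R Rf fR) := IsLocalization.Away.algebraMap_isUnit fR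
  have hle : (⊤ : Subalgebra R₁ R₂) ≤ (AlgHom.range ιa).comap (R₂.val.restrictScalars R₁) := by
    rw [← hS₂]
    refine Algebra.adjoin_le fun x hx => ?_
    show (x : Af) ∈ AlgHom.range ιa
    let kR : R := ⟨k x, Algebra.subset_adjoin (Finset.mem_union_right _
      (Finset.mem_insert_of_mem (Finset.mem_image_of_mem _ hx)))⟩
    refine ⟨algebraMap R Rf kR * ↑(hfu.pow (num x)).unit⁻¹, ?_⟩
    show ι _ = (x : Af)
    refine ((IsLocalization.Away.algebraMap_isUnit (S := Af) f).pow (num x)).mul_left_inj.mp ?_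
    rw [hnum x, show algebraMap A Af f ^ num x = ι (algebraMap R Rf fR ^ num x) by rw [map_pow, hιmap],
      ← map_mul, mul_assoc, IsUnit.val_inv_mul, mul_one, hιmap]
  let ρ : R₂ →+* Pj := χ.comp (((AlgEquiv.ofInjective ιa hιinj).symm.toAlgHom.comp
    ((R₂.val.restrictScalars R₁).codRestrict (AlgHom.range ιa) fun x => hle Algebra.mem_top)).toRingHom)
  letI : Algebra R₂ Pj := ρ.toAlgebra
  haveI : IsScalarTower R₁ R₂ Pj := IsScalarTower.of_algebraMap_eq fun x => by
    show algebraMap R₁ Pj x = χ (((AlgEquiv.ofInjective ιa hιinj).symm.toAlgHom.comp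
      ((R₂.val.restrictScalars R₁).codRestrict (AlgHom.range ιa) fun y => hle Algebra.mem_top)) (algebraMap R₁ R₂ x))
    rw [AlgHom.commutes]
    show algebraMap R₁ Pj x = χ (algebraMap R Rf (ir x))
    rw [IsLocalization.Away.lift_eq, IsScalarTower.algebraMap_apply R₁ (G j) Pj]
    rfl
  -- `p₂` is the prime of `Pj`
  let β : Pj →+* P := Localization.localRingHom pj p (algebraMap (G j) A) rfl
  let γ : Af →+* Pf := algebraMap Af Pf
  let δ : P →+* Pf := algebraMap P Pf
  have hcomp : (δ.comp β).comp χ = γ.comp ι := by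
    refine IsLocalization.ringHom_ext (Submonoid.powers fR) (RingHom.ext fun x => ?_)
    show δ (β (χ (algebraMap R Rf x))) = γ (ι (algebraMap R Rf x))
    rw [hιmap, IsLocalization.Away.lift_eq]
    show δ (β (algebraMap (G j) Pj (φ x))) = _
    rw [Localization.localRingHom_to_map, hφ]
    exact (IsScalarTower.algebraMap_apply A P Pf x).symm.trans (IsScalarTower.algebraMap_apply A Af Pf x)
  haveI : IsLocalHom β := Localization.isLocalHom_localRingHom pj p (algebraMap (G j) A) rfl
  have hρ : ∀ x : R₂, x ∉ p₂ → IsUnit (ρ x) := by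
    intro x hx
    have h1 : IsUnit (γ (x : Af)) := IsLocalization.map_units Pf (⟨(x : Af), hx⟩ : pf.primeCompl)
    have h2 : δ (β (ρ x)) = γ (x : Af) := by
      refine (RingHom.congr_fun hcomp _).trans (congrArg γ ?_)
      exact congrArg Subtype.val ((AlgEquiv.ofInjective ιa hιinj).apply_symm_apply _)
    have hδ : IsLocalHom δ := Localization.isLocalHom_localRingHom p pf (algebraMap A Af) (pf.over_def p)
    exact IsUnit.of_map β _ (@IsUnit.of_map _ _ _ _ _ _ δ hδ _ (h2 ▸ h1))
  let P₂ := Localization.AtPrime p₂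
  letI : Algebra P₂ Pj := (IsLocalization.lift (M := p₂.primeCompl) (g := ρ) fun y => hρ y y.2).toAlgebra
  haveI : IsScalarTower R₂ P₂ Pj := IsScalarTower.of_algebraMap_eq fun x => (IsLocalization.lift_eq _ x).symm
  haveI : IsScalarTower R₁ P₂ Pj := IsScalarTower.of_algebraMap_eq fun x => by
    rw [IsScalarTower.algebraMap_apply R₁ R₂ P₂, ← IsScalarTower.algebraMap_apply R₂ P₂ Pj,
      ← IsScalarTower.algebraMap_apply R₁ R₂ Pj]
  haveI := hproj₂
  haveI : Module.Projective Pj (Pj ⊗[R₁] N₁) :=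
    Module.Projective.of_equiv (AlgebraTensorModule.cancelBaseChange R₁ P₂ Pj Pj N₁)
  exact ⟨j, inferInstance, inferInstance, ‹Module.Projective Pj (Pj ⊗[R₁] N₁)›⟩

/-- Projectivity at a prime descends to a stage of a compatible system. -/
theorem exists_stage_projective {ι : Type u} [Preorder ι] (G : ι → Type u) [∀ i, CommRing (G i)]
    (g : ∀ i j, i ≤ j → G i →+* G j) {A : Type u} [CommRing A] [∀ i, Algebra (G i) A]
    (hcolim : FlatCA.IsDirectedColimitRing G g A)
    {R₁ B₁ : Type u} [CommRing R₁] [IsNoetherianRing R₁] [Algebra.FiniteType ℤ R₁] [Algebra R₁ A]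
    [∀ i, Algebra R₁ (G i)] [∀ i, IsScalarTower R₁ (G i) A]
    (hgR : ∀ i j (h : i ≤ j), (g i j h).comp (algebraMap R₁ (G i)) = algebraMap R₁ (G j))
    [CommRing B₁] [Algebra R₁ B₁] [Algebra.FinitePresentation R₁ B₁]
    (N₁ : Type u) [AddCommGroup N₁] [Module B₁ N₁] [Module R₁ N₁] [IsScalarTower R₁ B₁ N₁]
    [Module.FinitePresentation B₁ N₁] (p : Ideal A) [p.IsPrime]
    [Module.Projective (Localization.AtPrime p) (Localization.AtPrime p ⊗[R₁] N₁)] :
    ∃ j : ι, Module.Projective (Localization.AtPrime (p.comap (algebraMap (G j) A)))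
        (Localization.AtPrime (p.comap (algebraMap (G j) A)) ⊗[R₁] N₁) := by
  classical
  let α : ∀ i, R₁ →+* G i := fun i => algebraMap R₁ (G i)
  have hα : ∀ i x, algebraMap (G i) A (α i x) = algebraMap R₁ A x := fun i x =>
    (IsScalarTower.algebraMap_apply R₁ (G i) A x).symm
  obtain ⟨j, alg, htow, hproj⟩ := exists_stage_lift_projective G g hcolim (R₁ := R₁) (B₁ := B₁) N₁ p
  let ψ : R₁ →+* G j := @algebraMap R₁ (G j) _ _ alg
  obtain ⟨hdir, -, hid, hcomp, halg, -, hker⟩ := hcolim
  haveI : IsDirectedOrder ι := ⟨hdir.directed⟩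
  haveI : Nonempty ι := ⟨j⟩
  obtain ⟨gens, hgens⟩ := (inferInstance : Algebra.FiniteType ℤ R₁).out
  have hk : ∀ x : R₁, ∃ k, ∃ h : j ≤ k, g j k h (ψ x - α j x) = 0 := fun x => hker j _ (by
    refine (map_sub _ _ _).trans (sub_eq_zero.mpr ?_)
    exact (@IsScalarTower.algebraMap_apply R₁ (G j) A _ _ _ alg _ _ htow x).symm.trans (hα j x).symm)
  choose kx hjk hkx using hk
  obtain ⟨k₀, hk₀⟩ := Finset.exists_le (gens.image kx)
  obtain ⟨k, hjk', hk₀k⟩ := exists_ge_ge j k₀
  refine ⟨k, ?_⟩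
  let γ := g j k hjk'
  have hγ : γ.comp ψ = algebraMap R₁ (G k) := by
    refine Eq.trans ?_ (hgR j k hjk')
    change γ.comp ψ = γ.comp (α j)
    have hle : Algebra.adjoin ℤ (gens : Set R₁) ≤
        AlgHom.equalizer (γ.comp ψ).toIntAlgHom (γ.comp (α j)).toIntAlgHom := by
      refine Algebra.adjoin_le fun x hx => ?_
      show γ (ψ x) = γ (α j x)
      have hle' : kx x ≤ k := (hk₀ _ (Finset.mem_image_of_mem _ (Finset.mem_coe.mp hx))).trans hk₀k
      rw [← sub_eq_zero, ← map_sub]
      show g j k hjk' _ = 0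
      rw [← hcomp j (kx x) k (hjk x) hle', RingHom.comp_apply, hkx x, map_zero]
    refine RingHom.ext fun x => ?_
    exact (AlgHom.mem_equalizer _ _ x).mp (hle (hgens.symm ▸ Algebra.mem_top))
  let pj := p.comap (algebraMap (G j) A)
  let pk := p.comap (algebraMap (G k) A)
  haveI : pj.IsPrime := Ideal.comap_isPrime _ _
  haveI : pk.IsPrime := Ideal.comap_isPrime _ _
  let Pj := Localization.AtPrime pj
  let Pk := Localization.AtPrime pk
  let β : Pj →+* Pk := Localization.localRingHom pj pk γ (by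
    show p.comap (algebraMap (G j) A) = (p.comap (algebraMap (G k) A)).comap γ
    rw [Ideal.comap_comap, halg j k hjk'])
  letI : Algebra Pj Pk := β.toAlgebra
  haveI := hproj
  haveI : IsScalarTower R₁ Pj Pk := IsScalarTower.of_algebraMap_eq fun x => by
    show algebraMap R₁ Pk x = β (algebraMap (G j) Pj (ψ x))
    rw [Localization.localRingHom_to_map, show γ (ψ x) = algebraMap R₁ (G k) x from RingHom.congr_fun hγ x,
      ← IsScalarTower.algebraMap_apply]
  exact Module.Projective.of_equiv (AlgebraTensorModule.cancelBaseChange R₁ Pj Pk Pk N₁)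

end Groth.Agent.RGFlat.Spreading
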