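import Groth.Agent.RGFlat.LocTor
import Groth.Agent.RGFlat.FibreReg

/-!
Weakly associated primes of `N ⊗ M` for `N` flat at the prime.
-/

set_option autoImplicit false

universe u

open TensorProduct

namespace Groth.Agent.RGFlat

open CAlgA.FibreMod (pN)

variable {R S : Type u} [CommRing R] [CommRing S] [Algebra R S] [Algebra.FiniteType R S]
  {N : Type u} [AddCommGroup N] [Module S N] [Module R N] [IsScalarTower R S N] [Module.Finite S N]
  {M : Type u} [AddCommGroup M] [Module R M]

omit [Module.Finite S N] [Algebra.FiniteType R S] in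
theorem algebraMap_smul_tensor (a : R) (x : N ⊗[R] M) : algebraMap R S a • x = a • x :=
  IsScalarTower.algebraMap_smul S a x

/-- A weakly associated prime of `N ⊗ M` at a point of flatness lies over one of `M`. -/
theorem mem_weakAss_base (p : Ideal R) [p.IsPrime] (q : Ideal S) [q.IsPrime] [q.LiesOver p]
    (hflat : FlatCA.FlatAt R q N) (hq : q ∈ FlatCA.weakAss S (N ⊗[R] M)) : p ∈ FlatCA.weakAss R M := by
  by_contra hp
  obtain ⟨x, hx, hrad⟩ := WeakAss.mem_weakAss_iff.mp hq
  let Rp := Localization.AtPrime p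
  let S' := Rp ⊗[R] S
  let Sq := Localization.AtPrime q
  have hpq : ∀ a : R, a ∈ p ↔ algebraMap R S a ∈ q := fun a => by rw [q.over_def p]; rfl
  have hunit : ∀ a : p.primeCompl, IsUnit (algebraMap R Sq a) := fun a => by
    rw [IsScalarTower.algebraMap_apply R S Sq]
    exact IsLocalization.map_units Sq (⟨algebraMap R S a, fun h => a.2 ((hpq _).mpr h)⟩ : q.primeCompl)
  let g : Rp →ₐ[R] Sq := IsLocalization.liftAlgHom (M := p.primeCompl) (f := Algebra.ofId R Sq) hunit
  letI : Algebra Rp Sq := g.toRingHom.toAlgebra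
  haveI : IsScalarTower R Rp Sq := IsScalarTower.of_algebraMap_eq fun a => (g.commutes a).symm
  let l : S' →ₐ[Rp] Sq := Algebra.TensorProduct.lift (Algebra.ofId Rp Sq) (IsScalarTower.toAlgHom R S Sq)
    fun _ _ => Commute.all _ _
  have hl : ∀ s : S, l ((1 : Rp) ⊗ₜ s) = algebraMap S Sq s := fun s =>
    (Algebra.TensorProduct.lift_tmul _ _ _ (1 : Rp) s).trans (by rw [map_one, one_mul]; rfl)
  letI : Algebra S' Sq := l.toRingHom.toAlgebra
  haveI : IsScalarTower Rp S' Sq := IsScalarTower.of_algebraMap_eq fun a => (l.commutes a).symm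
  let q' : Ideal S' := (IsLocalRing.maximalIdeal Sq).comap l
  haveI : q'.IsPrime := Ideal.comap_isPrime _ _
  have hq' : ∀ s : S, (1 : Rp) ⊗ₜ[R] s ∈ q' ↔ s ∈ q := fun s => by
    rw [Ideal.mem_comap, hl, IsLocalization.AtPrime.to_map_mem_maximal_iff Sq q]
  have hkey : ∀ z : S', ∃ (u : R) (s : S), u ∉ p ∧ algebraMap R S' u * z = (1 : Rp) ⊗ₜ s := by
    intro z
    induction z using TensorProduct.induction_on with
    | zero => exact ⟨1, 0, fun h => (inferInstance : p.IsPrime).ne_top ((Ideal.eq_top_iff_one _).mpr h), by simp⟩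
    | tmul a s =>
      obtain ⟨⟨r, u⟩, hu⟩ := IsLocalization.surj p.primeCompl a
      refine ⟨(u : R), r • s, u.2, ?_⟩
      rw [← Algebra.smul_def, TensorProduct.smul_tmul', Algebra.smul_def, mul_comm, hu, ← TensorProduct.smul_tmul,
        Algebra.smul_def, mul_one]
    | add a b ha hb =>
      obtain ⟨u, s, hu, hs⟩ := ha
      obtain ⟨v, t, hv, ht⟩ := hb
      refine ⟨u * v, v • s + u • t, (inferInstance : p.IsPrime).mul_notMem hu hv, ?_⟩
      rw [TensorProduct.tmul_add, TensorProduct.tmul_smul, TensorProduct.tmul_smul, ← hs, ← ht,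
        ← IsScalarTower.algebraMap_smul S' v, ← IsScalarTower.algebraMap_smul S' u, smul_eq_mul, smul_eq_mul, map_mul]
      ring
  haveI : IsLocalization.AtPrime Sq q' :=
    { map_units := fun z => IsLocalRing.notMem_maximalIdeal.mp z.2
      surj := fun z => by
        obtain ⟨⟨a, s⟩, hs⟩ := IsLocalization.surj q.primeCompl z
        refine ⟨⟨(1 : Rp) ⊗ₜ a, ⟨(1 : Rp) ⊗ₜ (s : S), fun h => s.2 ((hq' _).mp h)⟩⟩, ?_⟩
        show z * l _ = l _
        rw [hl, hl]
        exact hs
      exists_of_eq := fun {z w} hzw => by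
        obtain ⟨u, s, hu, hs⟩ := hkey (z - w)
        have h0 : algebraMap S Sq s = 0 := by
          rw [← hl, ← hs, map_mul, map_sub, show l z = l w from hzw, sub_self, mul_zero]
        obtain ⟨c, hc⟩ := (IsLocalization.map_eq_zero_iff q.primeCompl Sq s).mp h0
        refine ⟨⟨((1 : Rp) ⊗ₜ (c : S)) * algebraMap R S' u, q'.primeCompl.mul_mem (fun h => c.2 ((hq' _).mp h)) ?_⟩, ?_⟩
        · intro h
          have h1 : algebraMap R Sq u ∈ IsLocalRing.maximalIdeal Sq := by
            rw [← show l (algebraMap R S' u) = algebraMap R Sq u from (l.restrictScalars R).commutes u]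
            exact h
          exact IsLocalRing.notMem_maximalIdeal.mpr (hunit ⟨u, hu⟩) h1
        · rw [← sub_eq_zero, ← mul_sub]
          show (1 : Rp) ⊗ₜ (c : S) * algebraMap R S' u * (z - w) = 0
          rw [mul_assoc, hs, Algebra.TensorProduct.tmul_mul_tmul, hc, TensorProduct.tmul_zero] }
  let N' := LocalizedModule q.primeCompl N
  haveI : IsScalarTower R Sq N' := IsScalarTower.of_algebraMap_smul fun a y => by
    rw [IsScalarTower.algebraMap_apply R S Sq, IsScalarTower.algebraMap_smul, IsScalarTower.algebraMap_smul]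
  haveI : Module.Flat R N' := hflat
  haveI : Module.Finite Sq N' :=
    Module.Finite.of_isLocalizedModule q.primeCompl (LocalizedModule.mkLinearMap q.primeCompl N)
  letI : Module Rp N' := Module.compHom N' (algebraMap Rp Sq)
  haveI : IsScalarTower Rp Sq N' := IsScalarTower.of_algebraMap_smul fun _ _ => rfl
  haveI : IsScalarTower R Rp N' := IsScalarTower.of_algebraMap_smul fun a y => by
    show algebraMap Rp Sq (algebraMap R Rp a) • y = a • y
    rw [← IsScalarTower.algebraMap_apply, IsScalarTower.algebraMap_smul]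
  haveI : Module.Flat Rp N' := (Module.flat_iff_of_isLocalization Rp p.primeCompl N').mpr inferInstance
  have hmax : q'.comap (algebraMap Rp S') = IsLocalRing.maximalIdeal Rp := by
    ext a
    obtain ⟨r, u, rfl⟩ := IsLocalization.exists_mk'_eq p.primeCompl a
    rw [IsLocalization.AtPrime.mk'_mem_maximal_iff Rp p r u]
    show l (algebraMap Rp S' _) ∈ IsLocalRing.maximalIdeal Sq ↔ _
    rw [l.commutes]
    have h1 : algebraMap Rp Sq (IsLocalization.mk' Rp r u) * algebraMap R Sq (u : R) = algebraMap R Sq r := by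
      rw [IsScalarTower.algebraMap_apply R Rp Sq, ← map_mul, IsLocalization.mk'_spec, ← IsScalarTower.algebraMap_apply]
    rw [hpq r, ← IsLocalization.AtPrime.to_map_mem_maximal_iff Sq q (algebraMap R S r),
      ← IsScalarTower.algebraMap_apply, ← h1, Ideal.mul_unit_mem_iff_mem _ (hunit u)]
  have hM : IsLocalRing.maximalIdeal Rp ∉ FlatCA.weakAss Rp (Rp ⊗[R] M) := fun h => by
    rw [FlatMisc.WeakAssFlat.mem_iff_of_isLocalization (A := R) (C := R) p.primeCompl] at h
    refine hp ?_
    have h' := WeakAss.weakAss_mono (f := (TensorProduct.lid R M).toLinearMap) (TensorProduct.lid R M).injective h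
    rwa [← Ideal.under_def, IsLocalization.AtPrime.under_maximalIdeal Rp p] at h'
  have hfree := nilFree_of_flat (R := Rp) (S := S') q' Sq N' hmax (Rp ⊗[R] M) hM
  let c := AlgebraTensorModule.cancelBaseChange R Rp Rp N' M
  let mk := LocalizedModule.mkLinearMap q.primeCompl N
  let φ := AlgebraTensorModule.rTensor R M mk
  haveI : IsLocalizedModule q.primeCompl φ := inferInstance
  have h0 : c.symm (φ x) = 0 := hfree _ fun a ha => by
    obtain ⟨r, u, rfl⟩ := IsLocalization.exists_mk'_eq p.primeCompl a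
    have hr : r ∈ p := (IsLocalization.AtPrime.mk'_mem_maximal_iff Rp p r u).mp ha
    obtain ⟨s, hs, k, hk⟩ := hrad (algebraMap R S r) ((hpq r).mp hr)
    refine ⟨k, ?_⟩
    have h2 : r ^ k • φ x = 0 := by
      have h3 : s • (r ^ k • φ x) = 0 := by
        rw [← map_zero φ, ← hk, map_smul, mul_smul, ← map_pow, algebraMap_smul_tensor]
      obtain ⟨b, hb⟩ := (IsLocalizedModule.map_units φ (⟨s, hs⟩ : q.primeCompl)).exists_left_inv
      rw [← Module.End.one_apply (R := S) (r ^ k • φ x), ← hb, Module.End.mul_apply]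
      exact (congrArg b h3).trans (map_zero b)
    rw [← map_smul, show IsLocalization.mk' Rp r u ^ k = algebraMap R Rp (r ^ k) * (IsLocalization.mk' Rp 1 u) ^ k by
      rw [map_pow, ← mul_pow, IsLocalization.mk'_eq_mul_mk'_one], mul_comm, mul_smul, IsScalarTower.algebraMap_smul,
      h2, smul_zero, map_zero]
  rw [LinearEquiv.map_eq_zero_iff, IsLocalizedModule.eq_zero_iff q.primeCompl φ] at h0
  obtain ⟨t, ht⟩ := h0
  exact t.2 (hx _ ht)

/-- At a weakly associated prime of `N ⊗ M` the fibre has an associated prime. -/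
theorem mem_ass_fibre (p : Ideal R) [p.IsPrime] (q : Ideal S) [q.IsPrime] [q.LiesOver p]
    (hflat : FlatCA.FlatAt R q N) (hq : q ∈ FlatCA.weakAss S (N ⊗[R] M)) :
    FlatCA.fiberIdeal p q ∈ associatedPrimes (p.Fiber S) (FlatCA.fiberMod p S N) := by
  by_contra hc
  obtain ⟨x, hx, hrad⟩ := WeakAss.mem_weakAss_iff.mp hq
  obtain ⟨σ, hσ, hreg⟩ := exists_mem_regular p q hc
  obtain ⟨s, hs, k, hk⟩ := hrad σ hσ
  rw [mul_comm, mul_smul] at hk
  obtain ⟨t, ht, htx⟩ := exists_smul_eq_zero_of_pow_fibre_regular p q hflat σ hreg M _ k hk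
  rw [← mul_smul] at htx
  exact q.primeCompl.mul_mem ht hs (hx _ htx)

/-- An element of `M` killed by finitely many elements of the prime `p` is found near a weak witness. -/
theorem exists_killed (p : Ideal R) [p.IsPrime] (hp : p ∈ FlatCA.weakAss R M) (F : Finset R) (hF : ∀ f ∈ F, f ∈ p) :
    ∃ m : M, (∀ a : R, a • m = 0 → a ∈ p) ∧ (∀ f ∈ p, ∃ s ∉ p, ∃ n : ℕ, (s * f ^ n) • m = 0) ∧
      ∀ f ∈ F, f • m = 0 := by
  classical
  induction F using Finset.induction_on with
  | empty =>
    obtain ⟨m, hm, hrad⟩ := WeakAss.mem_weakAss_iff.mp hp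
    exact ⟨m, hm, hrad, by simp⟩
  | insert f F _ ih =>
    obtain ⟨m, hm, hrad, hkill⟩ := ih fun g hg => hF g (Finset.mem_insert_of_mem hg)
    have hex : ∃ n, ∃ s ∉ p, (s * f ^ n) • m = 0 := by
      obtain ⟨s, hs, n, hn⟩ := hrad f (hF f (Finset.mem_insert_self _ _))
      exact ⟨n, s, hs, hn⟩
    obtain ⟨s, hs, hsm⟩ := Nat.find_spec hex
    have h0 : Nat.find hex ≠ 0 := fun h => by
      rw [h, pow_zero, mul_one] at hsm
      exact hs (hm s hsm)
    let n := Nat.find hex - 1
    refine ⟨(s * f ^ n) • m, fun a ha => ?_, fun g hg => ?_, fun g hg => ?_⟩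
    · by_contra hap
      exact Nat.find_min hex (Nat.sub_lt (Nat.pos_of_ne_zero h0) one_pos)
        ⟨a * s, (inferInstance : p.IsPrime).mul_notMem hap hs, by rw [mul_assoc, mul_smul]; exact ha⟩
    · obtain ⟨t, ht, k, hk⟩ := hrad g hg
      exact ⟨t, ht, k, by rw [smul_comm, hk, smul_zero]⟩
    · rcases Finset.mem_insert.mp hg with rfl | hgF
      · rw [← mul_smul, show g * (s * g ^ n) = s * g ^ (n + 1) by ring,
          show n + 1 = Nat.find hex from Nat.sub_one_add_one h0]
        exact hsm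
      · rw [smul_comm, hkill g hgF, smul_zero]

omit [Algebra.FiniteType R S] [Module.Finite S N] in
/-- Elements of `pN` involve finitely many elements of `p`. -/
theorem exists_finset_mem (p : Ideal R) {w : N} (hw : w ∈ pN (S := S) N p) :
    ∃ F : Finset R, (∀ f ∈ F, f ∈ p) ∧ w ∈ Ideal.span (F : Set R) • (⊤ : Submodule R N) := by
  classical
  rw [pN, ← Submodule.restrictScalars_mem R, Submodule.restrictScalars_map_smul_eq, Submodule.restrictScalars_top] at hw
  refine Submodule.smul_induction_on hw (fun a ha n _ => ⟨{a}, by simpa using ha, ?_⟩) fun a b ha hb => ?_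
  · exact Submodule.smul_mem_smul (Ideal.subset_span (by simp)) Submodule.mem_top
  · obtain ⟨F, hF, ha⟩ := ha
    obtain ⟨G, hG, hb⟩ := hb
    refine ⟨F ∪ G, fun f hf => (Finset.mem_union.mp hf).elim (hF f) (hG f), add_mem ?_ ?_⟩
    · exact Submodule.smul_mono_left (Ideal.span_mono (by simp)) ha
    · exact Submodule.smul_mono_left (Ideal.span_mono (by simp)) hb

/-- A weakly associated prime of `M` and an associated prime of the fibre give one of `N ⊗ M`. -/
theorem mem_weakAss_tensor (p : Ideal R) [p.IsPrime] (q : Ideal S) [q.IsPrime] [q.LiesOver p]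
    (hflat : FlatCA.FlatAt R q N) (hp : p ∈ FlatCA.weakAss R M)
    (hfib : FlatCA.fiberIdeal p q ∈ associatedPrimes (p.Fiber S) (FlatCA.fiberMod p S N)) :
    q ∈ FlatCA.weakAss S (N ⊗[R] M) := by
  classical
  have hpq : ∀ a : R, a ∈ p ↔ algebraMap R S a ∈ q := fun a => by rw [q.over_def p]; rfl
  obtain ⟨y, G, hy, hG, hq⟩ := exists_elem_of_ass p q hfib
  choose! s hs hsb using hG
  choose! F hF hFb using fun b (hb : b ∈ G) => exists_finset_mem p (hsb b hb)
  obtain ⟨m, hm, hrad, hkill⟩ := exists_killed p hp (G.biUnion F) fun f hf => by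
    obtain ⟨b, hb, hfb⟩ := Finset.mem_biUnion.mp hf
    exact hF b hb f hfb
  let x : N ⊗[R] M := y ⊗ₜ m
  have hGx : ∀ b ∈ G, (s b * b) • x = 0 := fun b hb => by
    rw [TensorProduct.smul_tmul']
    refine Submodule.smul_induction_on (p := fun w => w ⊗ₜ[R] m = 0) (hFb b hb) (fun f hf n _ => ?_)
      fun u v hu hv => by rw [TensorProduct.add_tmul, hu, hv, add_zero]
    rw [TensorProduct.smul_tmul]
    refine Submodule.span_induction (p := fun f _ => n ⊗ₜ[R] (f • m) = 0) ?_ (by simp)
      (fun u v _ _ hu hv => by rw [add_smul, TensorProduct.tmul_add, hu, hv, add_zero])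
      (fun c v _ hv => by rw [smul_eq_mul, mul_smul, TensorProduct.tmul_smul, hv, smul_zero]) hf
    intro f hf
    rw [hkill f (Finset.mem_biUnion.mpr ⟨b, hb, hf⟩), TensorProduct.tmul_zero]
  have hne : ∀ t ∉ q, t • x ≠ 0 := by
    intro t ht h0
    let A : Ideal R := LinearMap.ker (LinearMap.toSpanSingleton R M m)
    let i : R ⧸ A →ₗ[R] M := A.liftQ (LinearMap.toSpanSingleton R M m) le_rfl
    have hi : Function.Injective i := LinearMap.ker_eq_bot.mp (Submodule.ker_liftQ_eq_bot _ _ _ le_rfl)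
    let N' := LocalizedModule q.primeCompl N
    haveI : Module.Flat R N' := hflat
    let f := LocalizedModule.mkLinearMap q.primeCompl N
    have h1 : i.lTensor N' (f (t • y) ⊗ₜ Ideal.Quotient.mk A 1) = 0 := by
      show f (t • y) ⊗ₜ[R] ((1 : R) • m) = 0
      rw [one_smul]
      have := congrArg ((f.restrictScalars R).rTensor M) h0
      rw [map_zero, TensorProduct.smul_tmul', LinearMap.rTensor_tmul] at this
      exact this
    have h2 : f (t • y) ⊗ₜ[R] Ideal.Quotient.mk A 1 = 0 :=
      Module.Flat.lTensor_preserves_injective_linearMap (M := N') i hi (h1.trans (map_zero _).symm)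
    have h3 := congrArg (TensorProduct.tensorQuotEquivQuotSMul N' A) h2
    rw [TensorProduct.tensorQuotEquivQuotSMul_tmul_mk, map_zero, one_smul, Submodule.Quotient.mk_eq_zero] at h3
    have hAp : A ≤ p := fun a ha => hm a ha
    have h4 : ∀ z ∈ A • (⊤ : Submodule R N'), ∃ c ∉ q, ∃ w ∈ pN (S := S) N p, c • z = f w := by
      intro z hz
      refine Submodule.smul_induction_on hz (fun a ha n _ => ?_) fun u v hu hv => ?_
      · obtain ⟨⟨w, c⟩, hw⟩ := IsLocalizedModule.surj q.primeCompl f n
        refine ⟨c, c.2, a • w, ?_, ?_⟩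
        · rw [← algebraMap_smul S a w]
          exact Submodule.smul_mem_smul (Ideal.mem_map_of_mem _ (hAp ha)) Submodule.mem_top
        · rw [LinearMap.map_smul_of_tower, ← hw]
          exact smul_comm (c : S) a n
      · obtain ⟨c, hc, w, hw, hcu⟩ := hu
        obtain ⟨d, hd, z, hz, hdv⟩ := hv
        refine ⟨c * d, q.primeCompl.mul_mem hc hd, d • w + c • z, add_mem (Submodule.smul_mem _ d hw) (Submodule.smul_mem _ c hz), ?_⟩
        rw [map_add, map_smul, map_smul, ← hcu, ← hdv, smul_add, ← mul_smul, ← mul_smul, mul_comm d c]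
    obtain ⟨c, hc, w, hw, hcw⟩ := h4 _ h3
    rw [← map_smul, IsLocalizedModule.eq_iff_exists q.primeCompl f] at hcw
    obtain ⟨d, hd⟩ := hcw
    refine hy ((d : S) * c * t) (q.primeCompl.mul_mem (q.primeCompl.mul_mem d.2 hc) ht) ?_
    rw [mul_smul, mul_smul]
    have hd' : (d : S) • c • t • y = (d : S) • w := hd
    rw [hd']
    exact Submodule.smul_mem _ _ hw
  refine ⟨x, ⟨inferInstance, fun a ha => ?_⟩, fun Q hQ hQq a ha => ?_⟩
  · by_contra haq
    exact hne a haq (WeakAss.mem_ann.mp ha)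
  · haveI := hQ.1
    have hpS : p.map (algebraMap R S) ≤ Q := Ideal.map_le_iff_le_comap.mpr fun b hb => by
      obtain ⟨c, hc, k, hk⟩ := hrad b hb
      have hmem : algebraMap R S (c * b ^ k) ∈ Q := hQ.2 (WeakAss.mem_ann.mpr (by
        rw [algebraMap_smul_tensor, ← TensorProduct.tmul_smul, hk, TensorProduct.tmul_zero]))
      rw [map_mul, map_pow] at hmem
      exact hQ.1.mem_of_pow_mem k ((hQ.1.mem_or_mem hmem).resolve_left fun h => hc ((hpq c).mpr (hQq h)))
    have hGQ : Ideal.span (G : Set S) ≤ Q := Ideal.span_le.mpr fun b hb =>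
      (hQ.1.mem_or_mem (hQ.2 (WeakAss.mem_ann.mpr (hGx b hb)))).resolve_left fun h => hs b hb (hQq h)
    obtain ⟨c, hc, hca⟩ := hq a ha
    exact (hQ.1.mem_or_mem (sup_le hGQ hpS hca)).resolve_left fun h => hc (hQq h)

/-- Weakly associated primes of `N ⊗ M` at points of flatness. -/
theorem mem_weakAss_tensor_iff (p : Ideal R) [p.IsPrime] (q : Ideal S) [q.IsPrime] [q.LiesOver p]
    (hflat : FlatCA.FlatAt R q N) :
    q ∈ FlatCA.weakAss S (N ⊗[R] M) ↔
      (p ∈ FlatCA.weakAss R M ∧ FlatCA.fiberIdeal p q ∈ associatedPrimes (p.Fiber S) (FlatCA.fiberMod p S N)) :=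
  ⟨fun h => ⟨mem_weakAss_base p q hflat h, mem_ass_fibre p q hflat h⟩,
    fun h => mem_weakAss_tensor p q hflat h.1 h.2⟩

end Groth.Agent.RGFlat
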